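import Mathlib.GroupTheory.Nilpotent
import Mathlib.GroupTheory.Sylow
import Mathlib.GroupTheory.Subgroup.Centralizer
import Mathlib.GroupTheory.Commutator.Basic
import Cfsg.Prelude.Def_Solvable
import Cfsg.Prelude.Def_CaseTheorems

/-!
Elementary lemmas for local analysis in characteristic `p`.
-/

set_option autoImplicit false

namespace Cfsg.Agent.Lib.LAEven57

variable {G : Type*} [Group G]

/-- If `x` commutes with `c` and `x q x⁻¹ = c q`, the orders of `x` and `c` being coprime, then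
`c = 1`. -/
theorem eq_one_of_stab {x q c : G} (hcom : x * c = c * x) (h : x * q * x⁻¹ = c * q)
    (hcop : (orderOf x).Coprime (orderOf c)) : c = 1 := by
  have key : ∀ n : ℕ, x ^ n * q * (x ^ n)⁻¹ = c ^ n * q := by
    intro n
    induction n with
    | zero => simp
    | succ k ih =>
      have hxk : x * c ^ k = c ^ k * x := (Commute.pow_right hcom k).eq
      calc x ^ (k + 1) * q * (x ^ (k + 1))⁻¹ = x * (x ^ k * q * (x ^ k)⁻¹) * x⁻¹ := by
            rw [pow_succ']; group
        _ = (x * c ^ k) * q * x⁻¹ := by rw [ih]; group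
        _ = c ^ k * (x * q * x⁻¹) := by rw [hxk]; group
        _ = c ^ (k + 1) * q := by rw [h, pow_succ]; group
  have h1 := key (orderOf x)
  rw [pow_orderOf_eq_one] at h1
  have h2 : c ^ orderOf x = 1 := by simpa using h1.symm
  exact orderOf_eq_one_iff.mp
    (Nat.eq_one_of_dvd_coprimes hcop (orderOf_dvd_of_pow_eq_one h2) dvd_rfl)

theorem coprime_orderOf_of_mem_pGroup {p : ℕ} [hp : Fact p.Prime] {P : Subgroup G}
    (hP : IsPGroup p P) {x c : G} (hx : (orderOf x).Coprime p) (hc : c ∈ P) :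
    (orderOf x).Coprime (orderOf c) := by
  obtain ⟨k, hk⟩ := (IsPGroup.iff_orderOf.mp hP) ⟨c, hc⟩
  rw [Subgroup.orderOf_mk] at hk
  rw [hk]
  exact Nat.Coprime.pow_right k hx

/-- An element of order prime to `p` centralizing the commutators it makes with `q`. -/
theorem commute_of_stab {p : ℕ} [Fact p.Prime] {P : Subgroup G}
    (hP : IsPGroup p P) {x q : G} (hx : (orderOf x).Coprime p)
    (hc : x * q * x⁻¹ * q⁻¹ ∈ P)
    (hcom : x * (x * q * x⁻¹ * q⁻¹) = (x * q * x⁻¹ * q⁻¹) * x) : x * q = q * x := by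
  have h1 : x * q * x⁻¹ * q⁻¹ = 1 :=
    eq_one_of_stab (q := q) hcom (by group) (coprime_orderOf_of_mem_pGroup hP hx hc)
  calc x * q = (x * q * x⁻¹ * q⁻¹) * (q * x) := by group
    _ = q * x := by rw [h1, one_mul]

theorem eq_one_of_coprime_mem_pGroup {p : ℕ} [Fact p.Prime] {P : Subgroup G}
    (hP : IsPGroup p P) {x : G} (hx : (orderOf x).Coprime p) (hxP : x ∈ P) : x = 1 :=
  orderOf_eq_one_iff.mp (Nat.eq_one_of_dvd_coprimes
    (coprime_orderOf_of_mem_pGroup hP hx hxP) dvd_rfl dvd_rfl)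

/-- A subgroup of a finite group without nontrivial elements of order prime to `p` is a `p`-group. -/
theorem isPGroup_of_coprime_eq_one [Finite G] {p : ℕ} [hp : Fact p.Prime] {H : Subgroup G}
    (h : ∀ x ∈ H, (orderOf x).Coprime p → x = 1) : IsPGroup p H := by
  intro g
  obtain ⟨k, m, hm, hkm⟩ := Nat.exists_eq_pow_mul_and_not_dvd
    (orderOf_pos (g : G)).ne' p hp.out.ne_one
  refine ⟨k, Subtype.ext ?_⟩
  have hpk : 0 < p ^ k := pow_pos hp.out.pos k
  have ho : orderOf ((g : G) ^ p ^ k) = m := by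
    rw [orderOf_pow_of_dvd hpk.ne' ⟨m, hkm⟩, hkm, Nat.mul_div_cancel_left m hpk]
  have := h _ (H.pow_mem g.2 (p ^ k))
    (by rw [ho]; exact (hp.out.coprime_iff_not_dvd.mpr hm).symm)
  simpa using this

theorem pCore_isPGroup {p : ℕ} [Fact p.Prime] : IsPGroup p (pCore p G) :=
  Sylow.sSup_of_normal _ (fun _ hN => hN.2) (fun _ hN => hN.1)

theorem le_pCore {p : ℕ} {N : Subgroup G} (hN : N.Normal) (hp : IsPGroup p N) : N ≤ pCore p G :=
  le_sSup ⟨hN, hp⟩

/-- A subgroup strictly inside a `p`-group has a strictly larger normalizer there. -/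
theorem eq_of_normalizer_le [Finite G] {p : ℕ} [Fact p.Prime] {P M : Subgroup G}
    (hP : IsPGroup p P) (hMP : M ≤ P)
    (h : ∀ y ∈ P, y ∈ Subgroup.normalizer (M : Set G) → y ∈ M) : M = P := by
  refine le_antisymm hMP ?_
  have hnil : Group.IsNilpotent P := hP.isNilpotent
  have hN : NormalizerCondition P := Group.normalizerCondition_of_isNilpotent
  have htop : M.subgroupOf P = ⊤ := by
    by_contra hne
    refine (lt_irrefl (M.subgroupOf P)) ?_
    calc M.subgroupOf P < Subgroup.normalizer (M.subgroupOf P : Set P) :=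
          hN _ (lt_top_iff_ne_top.mpr hne)
      _ ≤ M.subgroupOf P := ?_
    intro y hy
    rw [Subgroup.mem_subgroupOf]
    refine h _ y.2 ?_
    rw [Subgroup.mem_normalizer_iff] at hy ⊢
    intro a
    constructor
    · intro ha
      have := (hy ⟨a, hMP ha⟩).mp (by simpa [Subgroup.mem_subgroupOf] using ha)
      simpa [Subgroup.mem_subgroupOf] using this
    · intro ha
      have haP : a ∈ P := by
        have h1 := hMP ha
        have : a = (y : G)⁻¹ * ((y : G) * a * (y : G)⁻¹) * (y : G) := by group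
        rw [this]
        exact P.mul_mem (P.mul_mem (P.inv_mem y.2) h1) y.2
      have := (hy ⟨a, haP⟩).mpr (by simpa [Subgroup.mem_subgroupOf] using ha)
      simpa [Subgroup.mem_subgroupOf] using this
  exact Subgroup.subgroupOf_eq_top.mp htop

/-- In a group of characteristic `p`, a subgroup `Q` normalized by a Sylow subgroup `T ≥ Q` with
`C_T(Q) ≤ Q` is self-centralizing. -/
theorem centralizer_le_of_charP [Finite G] {p : ℕ} [Fact p.Prime]
    (hG : Subgroup.centralizer (pCore p G : Set G) ≤ pCore p G) (T : Sylow p G) (Q : Subgroup G)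
    (hQn : (T : Subgroup G) ≤ Subgroup.normalizer (Q : Set G))
    (hC : (T : Subgroup G) ⊓ Subgroup.centralizer (Q : Set G) ≤ Q) :
    Subgroup.centralizer (Q : Set G) ≤ Q := by
  set C := Subgroup.centralizer (Q : Set G) with hCdef
  have hPT : pCore p G ≤ (T : Subgroup G) := pCore_isPGroup.le_sylow_of_normal T
  have hTC : (T : Subgroup G) ≤ Subgroup.normalizer (C : Set G) := by
    intro t ht
    rw [Subgroup.mem_normalizer_iff]
    have ht' := hQn ht
    rw [Subgroup.mem_normalizer_iff] at ht'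
    intro a
    simp only [hCdef, Subgroup.mem_centralizer_iff, SetLike.mem_coe]
    constructor
    · intro ha q hq
      have h1 : t⁻¹ * q * t ∈ Q := by rw [ht']; simpa [mul_assoc] using hq
      have h2 := ha _ h1
      calc q * (t * a * t⁻¹) = t * ((t⁻¹ * q * t) * a) * t⁻¹ := by group
        _ = t * (a * (t⁻¹ * q * t)) * t⁻¹ := by rw [h2]
        _ = t * a * t⁻¹ * q := by group
    · intro ha q hq
      have h2 := ha _ ((ht' q).mp hq)
      calc q * a = t⁻¹ * ((t * q * t⁻¹) * (t * a * t⁻¹)) * t := by group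
        _ = t⁻¹ * ((t * a * t⁻¹) * (t * q * t⁻¹)) * t := by rw [h2]
        _ = a * q := by group
  have hCp : IsPGroup p C := by
    refine isPGroup_of_coprime_eq_one fun x hx hxp => ?_
    refine eq_one_of_coprime_mem_pGroup (pCore_isPGroup (p := p)) hxp (hG ?_)
    rw [Subgroup.mem_centralizer_iff]
    intro y hy
    have hc1 : x * y * x⁻¹ * y⁻¹ ∈ pCore p G :=
      (pCore p G).mul_mem ((pCore_normal p G).conj_mem y hy x) ((pCore p G).inv_mem hy)
    have hc2 : x * y * x⁻¹ * y⁻¹ ∈ C := by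
      have hy' := hTC (hPT hy)
      rw [Subgroup.mem_normalizer_iff] at hy'
      have h3 : y * x⁻¹ * y⁻¹ ∈ C := (hy' x⁻¹).mp (C.inv_mem hx)
      have : x * y * x⁻¹ * y⁻¹ = x * (y * x⁻¹ * y⁻¹) := by group
      rw [this]; exact C.mul_mem hx h3
    have hcQ : x * y * x⁻¹ * y⁻¹ ∈ Q := hC ⟨hPT hc1, hc2⟩
    exact (commute_of_stab pCore_isPGroup hxp hc1
      (Subgroup.mem_centralizer_iff.mp hx _ hcQ).symm).symm
  have hsup : IsPGroup p ((T : Subgroup G) ⊔ C : Subgroup G) :=
    IsPGroup.to_sup_of_normal_right' T.isPGroup' hCp hTC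
  have hCT : C ≤ (T : Subgroup G) := by
    calc C ≤ (T : Subgroup G) ⊔ C := le_sup_right
      _ = (T : Subgroup G) := T.is_maximal' hsup le_sup_left
  exact fun x hx => hC ⟨hCT hx, hx⟩

/-- In a group of characteristic `p`, every overgroup of a self-centralizing normal subgroup of a
Sylow subgroup has characteristic `p`. -/
theorem charP_of_overgroup [Finite G] {p : ℕ} [Fact p.Prime]
    (hG : Subgroup.centralizer (pCore p G : Set G) ≤ pCore p G) (T : Sylow p G) (Q : Subgroup G)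
    (hQT : Q ≤ (T : Subgroup G)) (hQn : (T : Subgroup G) ≤ Subgroup.normalizer (Q : Set G))
    (hC : (T : Subgroup G) ⊓ Subgroup.centralizer (Q : Set G) ≤ Q) (L : Subgroup G) (hQL : Q ≤ L) :
    Subgroup.centralizer (pCore p ↥L : Set ↥L) ≤ pCore p ↥L := by
  have hCQ := centralizer_le_of_charP hG T Q hQn hC
  set P := pCore p G with hPdef
  have hPp : IsPGroup p P := pCore_isPGroup
  have hPn : P.Normal := pCore_normal p G
  have hPT : P ≤ (T : Subgroup G) := hPp.le_sylow_of_normal T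
  set C := Subgroup.centralizer (pCore p ↥L : Set ↥L) with hCdef
  have hCn : C.Normal := by
    haveI : (pCore p ↥L).Normal := pCore_normal p _
    rw [hCdef]; infer_instance
  let D : Subgroup G := L ⊓ P
  have hDn : (D.subgroupOf L).Normal := by
    refine ⟨fun d hd g => ?_⟩
    rw [Subgroup.mem_subgroupOf] at hd ⊢
    exact ⟨(g * d * g⁻¹).2, hPn.conj_mem _ hd.2 _⟩
  have hDO : D.subgroupOf L ≤ pCore p ↥L := by
    refine le_pCore hDn (IsPGroup.of_injective (hPp.to_le (inf_le_right : D ≤ P))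
      ((L.subtype.comp (D.subgroupOf L).subtype).codRestrict D (fun z => z.2)) ?_)
    intro a b hab
    exact Subtype.ext (Subtype.ext (congrArg (fun w : D => (w : G)) hab))
  -- elements of `C` centralize `D`
  have hCD : ∀ x ∈ C, ∀ d ∈ D, (x : G) * d = d * x := by
    intro x hx d hd
    have := Subgroup.mem_centralizer_iff.mp hx ⟨d, hd.1⟩ (hDO (by exact hd))
    exact (congrArg Subtype.val this).symm
  have hQPD : ∀ q ∈ Q, ∀ y ∈ P, q * y * q⁻¹ * y⁻¹ ∈ D := by
    intro q hq y hy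
    have hyN := hQn (hPT hy)
    rw [Subgroup.mem_normalizer_iff] at hyN
    have h1 : y * q⁻¹ * y⁻¹ ∈ Q := (hyN q⁻¹).mp (Q.inv_mem hq)
    refine ⟨hQL ?_, P.mul_mem (hPn.conj_mem y hy q) (P.inv_mem hy)⟩
    have : q * y * q⁻¹ * y⁻¹ = q * (y * q⁻¹ * y⁻¹) := by group
    rw [this]; exact Q.mul_mem hq h1
  let N : Subgroup G := P ⊓ Subgroup.normalizer (D : Set G)
  have hLN : ∀ l ∈ L, ∀ y ∈ N, l * y * l⁻¹ ∈ N := by
    intro l hl y hy
    have hlD : l ∈ Subgroup.normalizer (D : Set G) := by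
      rw [Subgroup.mem_normalizer_iff]
      intro a
      constructor
      · exact fun ha => ⟨L.mul_mem (L.mul_mem hl ha.1) (L.inv_mem hl), hPn.conj_mem a ha.2 l⟩
      · intro ha
        have h1 : l⁻¹ * (l * a * l⁻¹) * l ∈ L := L.mul_mem (L.mul_mem (L.inv_mem hl) ha.1) hl
        have h2 : l⁻¹ * (l * a * l⁻¹) * l⁻¹⁻¹ ∈ P := hPn.conj_mem _ ha.2 l⁻¹
        simp only [mul_assoc, inv_mul_cancel_left, inv_inv, inv_mul_cancel, mul_one] at h1 h2
        exact ⟨h1, h2⟩
    exact ⟨hPn.conj_mem y hy.1 l, Subgroup.mul_mem _ (Subgroup.mul_mem _ hlD hy.2)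
      (Subgroup.inv_mem _ hlD)⟩
  -- the kernel of the action on `N / D` inside `C`
  let C₀ : Subgroup ↥L :=
    { carrier := {x | x ∈ C ∧ ∀ y ∈ N, (x : G) * y * (x : G)⁻¹ * y⁻¹ ∈ D}
      one_mem' := ⟨C.one_mem, fun y _ => by simp [D.one_mem]⟩
      mul_mem' := by
        rintro a b ⟨ha, ha'⟩ ⟨hb, hb'⟩
        refine ⟨C.mul_mem ha hb, fun y hy => ?_⟩
        have h1 := ha' _ (hLN _ b.2 y hy)
        have h2 := hb' y hy
        have : ((a * b : ↥L) : G) * y * ((a * b : ↥L) : G)⁻¹ * y⁻¹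
            = ((a : G) * ((b : G) * y * (b : G)⁻¹) * (a : G)⁻¹ * ((b : G) * y * (b : G)⁻¹)⁻¹)
              * ((b : G) * y * (b : G)⁻¹ * y⁻¹) := by
          simp only [Subgroup.coe_mul]; group
        rw [this]; exact D.mul_mem h1 h2
      inv_mem' := by
        rintro a ⟨ha, ha'⟩
        refine ⟨C.inv_mem ha, fun y hy => ?_⟩
        have h1 := ha' _ (hLN _ (a⁻¹).2 y hy)
        have : ((a⁻¹ : ↥L) : G) * y * ((a⁻¹ : ↥L) : G)⁻¹ * y⁻¹
            = ((a : G) * (((a⁻¹ : ↥L) : G) * y * ((a⁻¹ : ↥L) : G)⁻¹) * (a : G)⁻¹ *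
                (((a⁻¹ : ↥L) : G) * y * ((a⁻¹ : ↥L) : G)⁻¹)⁻¹)⁻¹ := by
          simp only [Subgroup.coe_inv]; group
        rw [this]; exact D.inv_mem h1 }
  have hC₀n : C₀.Normal := by
    refine ⟨fun a ha g => ⟨hCn.conj_mem a ha.1 g, fun y hy => ?_⟩⟩
    have h1 := hLN _ (g⁻¹).2 y hy
    have h2 := ha.2 _ h1
    have h3 := (hLN g g.2)
    have hD' : (g : G) * ((a : G) * ((g : G)⁻¹ * y * (g : G)) * (a : G)⁻¹ *
        ((g : G)⁻¹ * y * (g : G))⁻¹) * (g : G)⁻¹ ∈ D := by
      have h4 := hDn.conj_mem ⟨_, ((by simpa using h2 : ((a : G) * ((g : G)⁻¹ * y * (g : G)) *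
        (a : G)⁻¹ * ((g : G)⁻¹ * y * (g : G))⁻¹) ∈ D)).1⟩
        (by rw [Subgroup.mem_subgroupOf]; simpa using h2) g
      rw [Subgroup.mem_subgroupOf] at h4
      simpa using h4
    have : ((g * a * g⁻¹ : ↥L) : G) * y * ((g * a * g⁻¹ : ↥L) : G)⁻¹ * y⁻¹
        = (g : G) * ((a : G) * ((g : G)⁻¹ * y * (g : G)) * (a : G)⁻¹ *
          ((g : G)⁻¹ * y * (g : G))⁻¹) * (g : G)⁻¹ := by
      simp only [Subgroup.coe_mul, Subgroup.coe_inv]; group
    rw [this]; exact hD'
  have hC₀p : IsPGroup p C₀ := by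
    refine isPGroup_of_coprime_eq_one fun e he hep => Subtype.ext ?_
    have hep' : (orderOf (e : G)).Coprime p := by rwa [Subgroup.orderOf_coe]
    have heN : ∀ y ∈ N, (e : G) * y = y * (e : G) := by
      intro y hy
      have h1 := he.2 y hy
      exact commute_of_stab hPp hep' h1.2 (hCD e he.1 _ h1)
    let M : Subgroup G := P ⊓ Subgroup.centralizer ({(e : G)} : Set G)
    have hMiff : ∀ y, y ∈ M ↔ y ∈ P ∧ (e : G) * y = y * (e : G) := by
      intro y
      simp only [M, Subgroup.mem_inf, Subgroup.mem_centralizer_singleton_iff]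
      constructor
      · exact fun h => ⟨h.1, h.2.symm⟩
      · exact fun h => ⟨h.1, h.2.symm⟩
    have hMP : M = P := by
      refine eq_of_normalizer_le hPp inf_le_left fun y hyP hyM => ?_
      rw [hMiff]
      refine ⟨hyP, ?_⟩
      rw [Subgroup.mem_normalizer_iff] at hyM
      set c := (e : G) * y * (e : G)⁻¹ * y⁻¹ with hcdef
      have hcP : c ∈ P := P.mul_mem (hPn.conj_mem y hyP _) (P.inv_mem hyP)
      have hcD : ∀ d ∈ D, c * d = d * c := by
        intro d hd
        have hdM : d ∈ M := (hMiff d).mpr ⟨hd.2, hCD e he.1 d hd⟩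
        have hd' : y⁻¹ * d * y ∈ M := by
          rw [hyM]; simpa [mul_assoc] using hdM
        have e1 := ((hMiff _).mp hd').2
        have e2 : y * (e : G) * y⁻¹ * d = d * (y * (e : G) * y⁻¹) := by
          calc y * (e : G) * y⁻¹ * d = y * ((e : G) * (y⁻¹ * d * y)) * y⁻¹ := by group
            _ = y * ((y⁻¹ * d * y) * (e : G)) * y⁻¹ := by rw [e1]
            _ = d * (y * (e : G) * y⁻¹) := by group
        have e2' : Commute (y * (e : G) * y⁻¹)⁻¹ d := Commute.inv_left e2
        have e3 : Commute (e : G) d := hCD e he.1 d hd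
        have : Commute ((e : G) * (y * (e : G) * y⁻¹)⁻¹) d := e3.mul_left e2'
        have h4 : c = (e : G) * (y * (e : G) * y⁻¹)⁻¹ := by rw [hcdef]; group
        rw [h4]; exact this
      have hcN : c ∈ N := by
        refine ⟨hcP, ?_⟩
        show c ∈ Subgroup.normalizer (D : Set G)
        rw [Subgroup.mem_normalizer_iff]
        intro a
        constructor
        · intro ha
          rw [hcD a ha]; simpa using ha
        · intro ha
          have := hcD _ ha
          have h5 : c * a * c⁻¹ = a := by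
            calc c * a * c⁻¹ = c⁻¹ * (c * (c * a * c⁻¹)) := by group
              _ = c⁻¹ * ((c * a * c⁻¹) * c) := by rw [this]
              _ = a := by group
          rwa [h5] at ha
      exact commute_of_stab hPp hep' hcP (heN c hcN)
    have heP : (e : G) ∈ P := by
      refine hG ?_
      rw [Subgroup.mem_centralizer_iff]
      intro y hy
      have : y ∈ M := by rw [hMP]; exact hy
      exact ((hMiff y).mp this).2.symm
    exact eq_one_of_coprime_mem_pGroup hPp hep' heP
  have hC₀O : C₀ ≤ pCore p ↥L := le_pCore hC₀n hC₀p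
  have hQC : ∀ q ∈ Q, ∀ x ∈ C, ∀ hq : q ∈ L, x * ⟨q, hq⟩ * x⁻¹ * ⟨q, hq⟩⁻¹ ∈ C₀ := by
    intro q hq x hx hqL
    set q' : ↥L := ⟨q, hqL⟩ with hq'
    have hrw : x * q' * x⁻¹ * q'⁻¹ = x * (q' * x⁻¹ * q'⁻¹) := by group
    refine ⟨by rw [hrw]; exact C.mul_mem hx (hCn.conj_mem _ (C.inv_mem hx) q'), fun y hy => ?_⟩
    -- `q` acts trivially on `N / D`, `x` normalizes it
    have h1 : ∀ z ∈ N, q * z * q⁻¹ * z⁻¹ ∈ D := fun z hz => hQPD q hq z hz.1
    have h2 : ∀ z ∈ N, q⁻¹ * z * q * z⁻¹ ∈ D := fun z hz => by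
      simpa using hQPD q⁻¹ (Q.inv_mem hq) z hz.1
    have hb : q⁻¹ * y * q ∈ N := by simpa using hLN q⁻¹ (L.inv_mem hqL) y hy
    set b := q⁻¹ * y * q with hbdef
    have hc : (x : G)⁻¹ * b * (x : G) ∈ N := by simpa using hLN _ (L.inv_mem x.2) b hb
    set c' := (x : G)⁻¹ * b * (x : G) with hc'def
    have hd := h1 c' hc
    have hdc : (x : G) * (q * c' * q⁻¹ * c'⁻¹) = (q * c' * q⁻¹ * c'⁻¹) * (x : G) := hCD x hx _ hd
    have key : ((x * q' * x⁻¹ * q'⁻¹ : ↥L) : G) * y * ((x * q' * x⁻¹ * q'⁻¹ : ↥L) : G)⁻¹ * y⁻¹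
        = (q * c' * q⁻¹ * c'⁻¹) * (q⁻¹ * y * q * y⁻¹) := by
      calc _ = ((x : G) * (q * c' * q⁻¹ * c'⁻¹) * (x : G)⁻¹) * (q⁻¹ * y * q * y⁻¹) := by
            simp only [hq', hc'def, hbdef, Subgroup.coe_mul, Subgroup.coe_inv]; group
        _ = _ := by rw [hdc]; group
    rw [key]; exact D.mul_mem hd (h2 y hy)
  have hCp : IsPGroup p C := by
    refine isPGroup_of_coprime_eq_one fun x hx hxp => ?_
    have hxp' : (orderOf (x : G)).Coprime p := by rwa [Subgroup.orderOf_coe]
    have hxQ : (x : G) ∈ Q := by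
      refine hCQ ?_
      rw [Subgroup.mem_centralizer_iff]
      intro q hq
      have h1 := hC₀O (hQC q hq x hx (hQL hq))
      have h2 := Subgroup.mem_centralizer_iff.mp hx _ h1
      have := commute_of_stab (pCore_isPGroup (p := p)) hxp h1 h2.symm
      exact (congrArg Subtype.val this).symm
    exact Subtype.ext (eq_one_of_coprime_mem_pGroup (T.isPGroup') hxp' (hQT hxQ))
  exact le_pCore hCn hCp

end Cfsg.Agent.Lib.LAEven57
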