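import Mathlib.GroupTheory.Nilpotent
import Mathlib.GroupTheory.Sylow
import Mathlib.GroupTheory.SpecificGroups.Cyclic
import Mathlib.Data.Nat.Choose.Dvd
import Mathlib.RingTheory.Coprime.Lemmas

/-!
A finite `p`-group, `p` odd, without elementary abelian subgroup of order `p²` is cyclic.
-/

set_option autoImplicit false

namespace Cfsg.Agent.Lib.LAEven57

theorem mul_pow_of_central {G : Type*} [Group G] {a b c : G} (hc : b * a = a * b * c)
    (hca : Commute c a) (hcb : Commute c b) (n : ℕ) :
    (a * b) ^ n = a ^ n * b ^ n * c ^ n.choose 2 := by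
  have hb : ∀ k : ℕ, b ^ k * a = a * b ^ k * c ^ k := by
    intro k
    induction k with
    | zero => simp
    | succ k ih =>
      calc b ^ (k + 1) * a = b * (b ^ k * a) := by rw [pow_succ', mul_assoc]
        _ = (b * a) * b ^ k * c ^ k := by rw [ih]; simp [mul_assoc]
        _ = a * b * (c * b ^ k) * c ^ k := by rw [hc]; simp [mul_assoc]
        _ = a * b * (b ^ k * c) * c ^ k := by rw [(hcb.pow_right k).eq]
        _ = a * b ^ (k + 1) * c ^ (k + 1) := by rw [pow_succ' b, pow_succ' c]; simp [mul_assoc]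
  induction n with
  | zero => simp
  | succ n ih =>
    have h1 : c ^ n.choose 2 * (a * b) = (a * b) * c ^ n.choose 2 :=
      (((hca.mul_right hcb)).pow_left _).eq
    calc (a * b) ^ (n + 1) = a ^ n * b ^ n * (c ^ n.choose 2 * (a * b)) := by
          rw [pow_succ, ih]; simp [mul_assoc]
      _ = a ^ n * (b ^ n * a) * b * c ^ n.choose 2 := by rw [h1]; simp [mul_assoc]
      _ = a ^ (n + 1) * b ^ n * (c ^ n * b) * c ^ n.choose 2 := by
          rw [hb, pow_succ a]; simp [mul_assoc]
      _ = a ^ (n + 1) * b ^ n * (b * c ^ n) * c ^ n.choose 2 := by rw [(hcb.pow_left n).eq]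
      _ = a ^ (n + 1) * b ^ (n + 1) * (c ^ n * c ^ n.choose 2) := by
          rw [pow_succ b]; simp [mul_assoc]
      _ = _ := by
          rw [← pow_add, show (n + 1).choose 2 = n + n.choose 2 by
            rw [Nat.choose_succ_succ, Nat.choose_one_right]]

theorem coatom_pow_mem {P : Type*} [Group P] [Finite P] {p : ℕ} [hp : Fact p.Prime]
    (hP : IsPGroup p P) {A : Subgroup P} [A.Normal] (hA : IsCoatom A) (g : P) : g ^ p ∈ A := by
  by_contra h
  have hlt : A < A ⊔ Subgroup.zpowers (g ^ p) :=
    lt_of_le_of_ne le_sup_left fun e => h (e ▸ Subgroup.mem_sup_right (Subgroup.mem_zpowers _))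
  have htop := hA.2 _ hlt
  have : g ∈ A ⊔ Subgroup.zpowers (g ^ p) := htop ▸ Subgroup.mem_top g
  rw [Subgroup.mem_sup_of_normal_left] at this
  obtain ⟨a, ha, z, ⟨k, rfl⟩, hk⟩ := this
  have h1 : g ^ (1 - (p : ℤ) * k) ∈ A := by
    rw [sub_eq_add_neg, zpow_add, zpow_one, zpow_neg, zpow_mul, zpow_natCast]
    have : g * ((g ^ p) ^ k)⁻¹ = a := by
      rw [mul_inv_eq_iff_eq_mul]; exact hk.symm
    rw [this]; exact ha
  obtain ⟨m, hm⟩ := IsPGroup.iff_orderOf.mp hP g
  have hcop : IsCoprime ((p : ℤ) ^ m) (1 - (p : ℤ) * k) :=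
    IsCoprime.pow_left ⟨k, 1, by ring⟩
  obtain ⟨u, v, huv⟩ := hcop
  apply h
  refine A.pow_mem ?_ p
  rw [show g = g ^ (u * (p : ℤ) ^ m + v * (1 - (p : ℤ) * k)) by rw [huv, zpow_one]]
  rw [zpow_add, mul_comm u, mul_comm v, zpow_mul, zpow_mul]
  refine A.mul_mem (A.zpow_mem ?_ u) (A.zpow_mem h1 v)
  have : g ^ ((p : ℤ) ^ m) = 1 := by
    rw [← Nat.cast_pow, zpow_natCast, ← hm, pow_orderOf_eq_one]
  rw [this]; exact A.one_mem

theorem isCyclic_of_rank_one {p : ℕ} [hp : Fact p.Prime] (hodd : p ≠ 2) :
    ∀ (n : ℕ) {P : Type*} [Group P] [Finite P], Nat.card P = n → IsPGroup p P →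
      (∀ a b : P, a ^ p = 1 → b ^ p = 1 → a ≠ 1 → Commute a b → b ∈ Subgroup.zpowers a) →
      IsCyclic P := by
  intro n
  induction n using Nat.strong_induction_on with
  | _ n ih =>
    intro P _ _ hn hP huniq
    rcases subsingleton_or_nontrivial P with hs | hs
    · infer_instance
    by_contra hnc
    have hnil : Group.IsNilpotent P := hP.isNilpotent
    have hN : NormalizerCondition P := Group.normalizerCondition_of_isNilpotent
    have hcyc : ∀ A : Subgroup P, A ≠ ⊤ → IsCyclic A := by
      intro A hA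
      refine ih (Nat.card A) ?_ rfl (hP.to_subgroup A) ?_
      · rw [← hn]
        exact lt_of_le_of_ne (Subgroup.card_le_card_group A)
          fun e => hA (Subgroup.eq_top_of_card_eq A e)
      · intro a b ha hb ha1 hab
        obtain ⟨k, hk⟩ := huniq (a : P) (b : P) (by exact_mod_cast congrArg Subtype.val ha)
          (by exact_mod_cast congrArg Subtype.val hb) (fun e => ha1 (Subtype.ext e))
          (congrArg Subtype.val hab.eq)
        exact ⟨k, Subtype.ext (by simpa using hk)⟩
    obtain ⟨A, hA, -⟩ := (eq_top_or_exists_le_coatom (⊥ : Subgroup P)).resolve_left bot_ne_top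
    obtain ⟨g, hg⟩ : ∃ g, g ∉ A := by
      by_contra hall
      push Not at hall
      exact hA.1 (eq_top_iff.mpr fun g _ => hall g)
    have hgne : Subgroup.zpowers g ≠ ⊤ := fun e =>
      hnc ⟨⟨g, fun z => by rw [← Subgroup.mem_zpowers_iff, e]; trivial⟩⟩
    obtain ⟨B, hB, hgB⟩ := (eq_top_or_exists_le_coatom (Subgroup.zpowers g)).resolve_left hgne
    haveI hAn : A.Normal := Subgroup.NormalizerCondition.normal_of_coatom A hN hA
    haveI hBn : B.Normal := Subgroup.NormalizerCondition.normal_of_coatom B hN hB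
    have hAB : A ≠ B := fun e => hg (e ▸ hgB (Subgroup.mem_zpowers g))
    have htop : A ⊔ B = ⊤ := by
      refine hA.2 _ (lt_of_le_of_ne le_sup_left fun e => hg ?_)
      rw [e]; exact Subgroup.mem_sup_right (hgB (Subgroup.mem_zpowers g))
    have hcA := hcyc A hA.1
    have hcB := hcyc B hB.1
    have hcomA : ∀ a ∈ A, ∀ a' ∈ A, Commute a a' := fun a ha a' ha' => by
      obtain ⟨c, hc⟩ := hcA.exists_generator
      obtain ⟨i, hi⟩ := hc ⟨a, ha⟩
      obtain ⟨j, hj⟩ := hc ⟨a', ha'⟩
      have := congrArg Subtype.val hi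
      have := congrArg Subtype.val hj
      simp only [SubgroupClass.coe_zpow] at *
      subst_vars
      exact Commute.zpow_zpow_self _ i j
    have hcomB : ∀ a ∈ B, ∀ a' ∈ B, Commute a a' := fun a ha a' ha' => by
      obtain ⟨c, hc⟩ := hcB.exists_generator
      obtain ⟨i, hi⟩ := hc ⟨a, ha⟩
      obtain ⟨j, hj⟩ := hc ⟨a', ha'⟩
      have := congrArg Subtype.val hi
      have := congrArg Subtype.val hj
      simp only [SubgroupClass.coe_zpow] at *
      subst_vars
      exact Commute.zpow_zpow_self _ i j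
    have hcent : ∀ c ∈ A ⊓ B, ∀ y, Commute c y := by
      intro c hc y
      have : y ∈ A ⊔ B := htop ▸ Subgroup.mem_top y
      rw [Subgroup.mem_sup_of_normal_left] at this
      obtain ⟨a, ha, b, hb, rfl⟩ := this
      exact (hcomA c hc.1 a ha).mul_right (hcomB c hc.2 b hb)
    have hpow : ∀ y, y ^ p ∈ A ⊓ B := fun y => ⟨coatom_pow_mem hP hA y, coatom_pow_mem hP hB y⟩
    have hcomm : ∀ a b : P, a⁻¹ * b⁻¹ * a * b ∈ A ⊓ B := by
      have key : ∀ (C : Subgroup P) [C.Normal] (D : Subgroup P) [D.Normal], C ⊔ D = ⊤ →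
          (∀ u ∈ D, ∀ v ∈ D, Commute u v) → ∀ a b : P, a⁻¹ * b⁻¹ * a * b ∈ C := by
        intro C _ D _ hCD hD a b
        let π := QuotientGroup.mk' C
        have hsurj : ∀ q : P ⧸ C, ∃ d ∈ D, π d = q := by
          intro q
          obtain ⟨y, rfl⟩ := QuotientGroup.mk'_surjective C q
          have : y ∈ C ⊔ D := hCD ▸ Subgroup.mem_top y
          rw [Subgroup.mem_sup_of_normal_left] at this
          obtain ⟨c, hc, d, hd, rfl⟩ := this
          refine ⟨d, hd, ?_⟩
          rw [map_mul, show π c = 1 from (QuotientGroup.eq_one_iff c).mpr hc, one_mul]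
        obtain ⟨u, hu, hu'⟩ := hsurj (π a)
        obtain ⟨v, hv, hv'⟩ := hsurj (π b)
        have hc : Commute (π a) (π b) := hu' ▸ hv' ▸ (hD u hu v hv).map π
        refine (QuotientGroup.eq_one_iff _).mp ?_
        show π (a⁻¹ * b⁻¹ * a * b) = 1
        rw [map_mul, map_mul, map_mul, map_inv, map_inv, mul_assoc _ (π a) (π b), hc.eq]
        group
      exact fun a b => ⟨key A B htop hcomB a b, key B A (sup_comm B A ▸ htop) hcomA a b⟩
    let φ : P →* P :=
      { toFun := fun y => y ^ p
        map_one' := one_pow p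
        map_mul' := fun a b => by
          set c := a⁻¹ * b⁻¹ * a * b with hc
          have hcc : c ∈ A ⊓ B := hcomm a b
          have hci : c⁻¹ ∈ A ⊓ B := (A ⊓ B).inv_mem hcc
          have h0 : b * a = a * b * c⁻¹ := by rw [hc]; group
          have h1 : c ^ p = 1 := by
            have e2 : b ^ p * a = a * b ^ p := ((hcent _ (hpow b) a)).eq
            have hk : ∀ k : ℕ, b ^ k * a = a * b ^ k * (c⁻¹) ^ k := by
              intro k
              induction k with
              | zero => simp
              | succ k ih =>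
                calc b ^ (k + 1) * a = b * (b ^ k * a) := by rw [pow_succ', mul_assoc]
                  _ = (b * a) * b ^ k * (c⁻¹) ^ k := by rw [ih]; simp [mul_assoc]
                  _ = a * b * (c⁻¹ * b ^ k) * (c⁻¹) ^ k := by rw [h0]; simp [mul_assoc]
                  _ = a * b * (b ^ k * c⁻¹) * (c⁻¹) ^ k := by rw [((hcent _ hci b).pow_right k).eq]
                  _ = _ := by rw [pow_succ' b, pow_succ' c⁻¹]; simp [mul_assoc]
            have := hk p
            rw [e2] at this
            have h9 : (a * b ^ p) * (c⁻¹) ^ p = (a * b ^ p) * 1 := by rw [mul_one]; exact this.symm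
            simpa using mul_left_cancel h9
          rw [mul_pow_of_central h0 (hcent _ hci a) (hcent _ hci b) p]
          have hd : p ∣ p.choose 2 :=
            hp.out.dvd_choose_self two_ne_zero (lt_of_le_of_ne hp.out.two_le (Ne.symm hodd))
          obtain ⟨t, ht⟩ := hd
          rw [ht, pow_mul, inv_pow, h1]; simp }
    have hker : Nat.card φ.ker ≤ p := by
      haveI := hP.center_nontrivial
      obtain ⟨z, hz⟩ := exists_ne (1 : Subgroup.center P)
      obtain ⟨m, hm⟩ := IsPGroup.iff_orderOf.mp hP (z : P)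
      have hz1 : (z : P) ≠ 1 := fun e => hz (Subtype.ext e)
      rcases m with _ | m
      · exact absurd (orderOf_eq_one_iff.mp (by simpa using hm)) hz1
      set w := (z : P) ^ p ^ m with hw
      have how : orderOf w = p := by
        rw [hw, orderOf_pow_of_dvd (pow_pos hp.out.pos m).ne' (hm ▸ pow_dvd_pow p (Nat.le_succ m)),
          hm, pow_succ, Nat.mul_div_cancel_left _ (pow_pos hp.out.pos m)]
      have hwc : ∀ y, Commute w y := fun y =>
        ((show Commute (z : P) y from ((Subgroup.mem_center_iff.mp z.2) y).symm).pow_left _)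
      have hle : φ.ker ≤ Subgroup.zpowers w := fun y hy =>
        huniq w y (how ▸ pow_orderOf_eq_one w) hy
          (fun e => hp.out.ne_one (by rw [← how, e, orderOf_one])) (hwc y)
      calc Nat.card φ.ker ≤ Nat.card (Subgroup.zpowers w) := Subgroup.card_le_of_le hle
        _ = p := by rw [Nat.card_zpowers, how]
    have hrange : φ.range ≤ A ⊓ B := by
      rintro _ ⟨y, rfl⟩; exact hpow y
    have h1 : Nat.card φ.range * Nat.card φ.ker = Nat.card P := by
      rw [← Subgroup.index_ker, Subgroup.index_mul_card]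
    have hlt1 : A ⊓ B < A := lt_of_le_of_ne inf_le_left fun e =>
      hB.1 (by rw [← htop]; exact (sup_eq_right.mpr (inf_eq_left.mp e)).symm)
    have h2 : p * Nat.card (A ⊓ B : Subgroup P) ≤ Nat.card A := by
      have h := Subgroup.relIndex_mul_index hlt1.le
      obtain ⟨k, hk⟩ := (hP.to_subgroup A).index ((A ⊓ B).subgroupOf A)
      have hk' : (A ⊓ B).relIndex A = p ^ k := hk
      have hcard : (A ⊓ B).relIndex A * Nat.card (A ⊓ B : Subgroup P) = Nat.card A := by
        have := Subgroup.index_mul_card ((A ⊓ B).subgroupOf A)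
        rw [Nat.card_congr (Subgroup.subgroupOfEquivOfLe (inf_le_left : A ⊓ B ≤ A)).toEquiv] at this
        exact this
      rw [← hcard, hk']
      refine Nat.mul_le_mul_right _ ?_
      rcases k with _ | k
      · exfalso
        exact hlt1.not_ge (Subgroup.relIndex_eq_one.mp (by simpa using hk'))
      · exact Nat.le_self_pow (Nat.succ_ne_zero k) p
    have h3 : p * Nat.card A ≤ Nat.card P := by
      obtain ⟨k, hk⟩ := hP.index A
      rw [← Subgroup.index_mul_card A, hk]
      refine Nat.mul_le_mul_right _ ?_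
      rcases k with _ | k
      · exact absurd (Subgroup.index_eq_one.mp (by simpa using hk)) hA.1
      · exact Nat.le_self_pow (Nat.succ_ne_zero k) p
    have h4 := Subgroup.card_le_of_le hrange
    have h5 : 0 < Nat.card (A ⊓ B : Subgroup P) := Nat.card_pos
    have h6 : Nat.card φ.range * Nat.card φ.ker ≤ Nat.card (A ⊓ B : Subgroup P) * p :=
      Nat.mul_le_mul h4 hker
    nlinarith [hp.out.two_le]

end Cfsg.Agent.Lib.LAEven57
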