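import Cfsg.Agent.Lib.FusionP3.TG.Thompson
import Cfsg.Agent.Lib.Transfer.AbelianJ
import Cfsg.Agent.Lib.ConjFunctor.Basic
import Cfsg.Agent.Lib.Cores.Basic
import Cfsg.Agent.Lib.PGroups.Frattini
import Mathlib.Algebra.BigOperators.Intervals

/-!
# Glauberman's centre theorem for the Thompson subgroup, `p` odd

`mem_center` : if `p` is odd, `S` is Sylow and `x ∈ O_p(G)` commutes with `N(J(S))`, then `x ∈ Z(G)`.
The proof sums the conjugates of `x` over the cosets of `C(x)`.
-/

set_option autoImplicit false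
set_option linter.unusedSectionVars false
set_option linter.style.haveILetI false

open Cfsg
open Cfsg.Agent.Lib
open Cfsg.Agent.Lib.Fusion.Alperin
open Cfsg.Agent.Lib.FusionP3.TG
open Cfsg.Agent.Lib.FusionP3
open Cfsg.Agent.Lib.FS Cfsg.Agent.Lib.FusionP3.GT
open scoped commutatorElement

namespace Cfsg.Agent.Lib.LAEven57.GlaubermanCenter

section Quadratic

variable {Ω : Type*} [Group Ω]

theorem exists_quadratic {p : ℕ} [Fact p.Prime] {T Q : Subgroup Ω} [Finite T] (hT : IsPGroup p T) (hQT : Q ≤ T)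
    (hQn : T ≤ Subgroup.normalizer (Q : Set Ω)) (hJ : ¬ thompJ T ≤ Q) :
    ∃ a ∈ T, a ∉ Q ∧ ∀ v ∈ Q ⊓ Subgroup.centralizer (Q : Set Ω),
      Commute a (a * v * a⁻¹ * v⁻¹) := by
  set V := Q ⊓ Subgroup.centralizer (Q : Set Ω) with hV
  have hVc : ∀ x ∈ V, ∀ y ∈ V, x * y = y * x := fun x hx y hy =>
    (Subgroup.mem_centralizer_iff.1 hy.2 x hx.1)
  have hVn : ∀ t ∈ T, ∀ v ∈ V, t * v * t⁻¹ ∈ V := fun t ht v hv => by
    refine ⟨conj_mem_of_normalizer (hQn ht) hv.1, Subgroup.mem_centralizer_iff.2 fun q hq => ?_⟩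
    have h1 := Subgroup.mem_centralizer_iff.1 hv.2 _ (conj_inv_mem_of_normalizer (hQn ht) hq)
    calc q * (t * v * t⁻¹) = t * (t⁻¹ * q * t * v) * t⁻¹ := by group
      _ = t * v * t⁻¹ * q := by rw [h1]; group
  have hVT : V ≤ T := inf_le_left.trans hQT
  haveI := finite_sub (S := T) hVT
  -- a member outside `Q` with the largest intersection with `V`
  obtain ⟨A, ⟨hA, hAQ⟩, hmax⟩ : ∃ A, (A ∈ maxAbelIn T ∧ ¬ A ≤ Q) ∧
      ∀ B, B ∈ maxAbelIn T → ¬ B ≤ Q → Nat.card (B ⊓ V : Subgroup Ω) ≤ Nat.card (A ⊓ V : Subgroup Ω) := by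
    have hfin : {B : Subgroup Ω | B ∈ maxAbelIn T ∧ ¬ B ≤ Q}.Finite :=
      ((Set.finite_range fun K : Subgroup T => K.map T.subtype).subset fun B hB =>
        ⟨B.subgroupOf T, Subgroup.map_subgroupOf_eq_of_le hB.1.1⟩)
    obtain ⟨A, hA, hmax⟩ := Set.exists_max_image _ (fun B : Subgroup Ω => Nat.card (B ⊓ V : Subgroup Ω)) hfin
      (by
        by_contra hne
        refine hJ (iSup₂_le fun B hB => ?_)
        by_contra hBQ
        exact hne ⟨B, hB, hBQ⟩)
    exact ⟨A, hA, fun B h1 h2 => hmax B ⟨h1, h2⟩⟩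
  haveI := finite_sub (S := T) hA.1
  -- `V` moves `A` inside itself
  have key : ∀ v ∈ V, ∀ a ∈ A, a * v * a⁻¹ * v⁻¹ ∈ A := by
    intro v hv
    let f : Ω → Ω := fun a => a * v * a⁻¹ * v⁻¹
    have hfV : ∀ a ∈ A, f a ∈ V := fun a ha => mul_mem (hVn a (hA.1 ha) v hv) (Subgroup.inv_mem _ hv)
    set M := Subgroup.closure (f '' A) with hM
    have hMV : M ≤ V := (Subgroup.closure_le _).2 (by rintro _ ⟨a, ha, rfl⟩; exact hfV a ha)
    set C := A ⊓ Subgroup.centralizer (M : Set Ω) with hCdef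
    set A' := M ⊔ C with hA'
    have hA'T : A' ≤ T := sup_le (hMV.trans hVT) (inf_le_left.trans hA.1)
    have hA'c : ∀ x ∈ A', ∀ y ∈ A', x * y = y * x := by
      have hcomm : ∀ s ∈ (M : Set Ω) ∪ C, ∀ t ∈ (M : Set Ω) ∪ C, s * t = t * s := by
        rintro s (hs | hs) t (ht | ht)
        · exact hVc _ (hMV hs) _ (hMV ht)
        · exact Subgroup.mem_centralizer_iff.1 ht.2 s hs
        · exact (Subgroup.mem_centralizer_iff.1 hs.2 t ht).symm
        · exact hA.2.1 _ hs.1 _ ht.1
      have h1 : A' = Subgroup.closure ((M : Set Ω) ∪ C) := by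
        rw [Subgroup.closure_union, Subgroup.closure_eq, Subgroup.closure_eq]
      rw [h1]
      haveI := Subgroup.isMulCommutative_closure hcomm
      exact fun x hx y hy => setLike_mul_comm hx hy
    haveI := finite_sub (S := T) hA'T
    -- the count
    have hcard : Nat.card A ≤ Nat.card A' := by
      let q : A → Set Ω := fun a => (fun m => f a * m) '' ((M ⊓ A : Subgroup Ω) : Set Ω)
      have hrep : ∀ a : A, ∃ b : A, q b = q a := fun a => ⟨a, rfl⟩
      let r : A → A := fun a => Function.invFun q (q a)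
      have hr : ∀ a, q (r a) = q a := fun a => Function.invFun_eq (hrep a)
      have hrq : ∀ a b, q a = q b → r a = r b := fun a b h => congrArg (Function.invFun q) h
      have hq : ∀ a b : A, q a = q b ↔ (f a)⁻¹ * f b ∈ M ⊓ A := by
        intro a b
        constructor
        · intro h
          obtain ⟨m, hm, e⟩ := h.ge ⟨1, one_mem _, rfl⟩
          replace e : f a * m = f b := by simpa using e
          rwa [← e, inv_mul_cancel_left]
        · intro h
          refine Set.ext fun x => ⟨?_, ?_⟩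
          · rintro ⟨m, hm, rfl⟩
            exact ⟨((f a)⁻¹ * f b)⁻¹ * m, mul_mem (Subgroup.inv_mem _ h) hm, by group⟩
          · rintro ⟨m, hm, rfl⟩
            exact ⟨(f a)⁻¹ * f b * m, mul_mem h hm, by group⟩
      -- a difference in the class lies in `C`
      have hdiff : ∀ a b : A, q a = q b → (a : Ω)⁻¹ * b ∈ C := by
        intro a b h
        refine ⟨mul_mem (Subgroup.inv_mem _ a.2) b.2, ?_⟩
        have hm := (hq a b).1 h
        set c : Ω := (a : Ω)⁻¹ * b
        have hcA : c ∈ A := mul_mem (Subgroup.inv_mem _ a.2) b.2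
        have hfc : f c ∈ A := by
          have e : (f a)⁻¹ * f b = v * (a : Ω) * v⁻¹ * (a : Ω)⁻¹ * ((b : Ω) * v * (b : Ω)⁻¹ * v⁻¹) := by
            simp only [f]; group
          have e2 : f b * (f a)⁻¹ = (a : Ω) * f c * (a : Ω)⁻¹ := by simp only [f, c]; group
          have e3 : f b * (f a)⁻¹ = (f a)⁻¹ * f b :=
            hVc _ (hfV b b.2) _ (Subgroup.inv_mem _ (hfV a a.2))
          have h2 : (a : Ω) * f c * (a : Ω)⁻¹ ∈ A := by rw [← e2, e3]; exact hm.2
          simpa [mul_assoc] using mul_mem (mul_mem (Subgroup.inv_mem _ a.2) h2) a.2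
        have : M ≤ Subgroup.centralizer {c} := by
          refine (Subgroup.closure_le _).2 ?_
          rintro _ ⟨x, hx, rfl⟩
          refine Subgroup.mem_centralizer_singleton_iff.2 ?_
          have hcx : c * x = x * c := hA.2.1 c hcA x hx
          have hxfc : x * f c = f c * x := hA.2.1 x hx _ hfc
          have e : c * f x * c⁻¹ = x * (f c * v) * x⁻¹ * (f c * v)⁻¹ := by
            calc c * f x * c⁻¹ = (c * x) * v * (c * x)⁻¹ * (c * v * c⁻¹)⁻¹ := by simp only [f]; group
              _ = x * (c * v * c⁻¹) * x⁻¹ * (c * v * c⁻¹)⁻¹ := by rw [hcx]; group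
              _ = _ := by simp only [f]; group
          have e' : c * f x * c⁻¹ = f x := by
            rw [e]
            calc x * (f c * v) * x⁻¹ * (f c * v)⁻¹ = (x * f c) * v * x⁻¹ * v⁻¹ * (f c)⁻¹ := by group
              _ = f c * f x * (f c)⁻¹ := by rw [hxfc]; simp only [f]; group
              _ = f x := by rw [hVc _ (hfV c hcA) _ (hfV x hx), mul_inv_cancel_right]
          exact (mul_inv_eq_iff_eq_mul.1 e').symm
        exact Subgroup.mem_centralizer_iff.2 fun m hm => Subgroup.mem_centralizer_singleton_iff.1 (this hm)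
      refine Nat.card_le_card_of_injective (fun a : A =>
        (⟨f (r a) * ((r a : Ω)⁻¹ * a), mul_mem (Subgroup.mem_sup_left (Subgroup.subset_closure ⟨r a, (r a).2, rfl⟩))
          (Subgroup.mem_sup_right (hdiff _ _ (hr a)))⟩ : A')) ?_
      intro a b h
      have h' : f (r a) * ((r a : Ω)⁻¹ * a) = f (r b) * ((r b : Ω)⁻¹ * b) := congrArg Subtype.val h
      have h1 : (f (r a))⁻¹ * f (r b) = ((r a : Ω)⁻¹ * a) * ((r b : Ω)⁻¹ * b)⁻¹ := by
        calc (f (r a))⁻¹ * f (r b) = (f (r a))⁻¹ * (f (r b) * ((r b : Ω)⁻¹ * b)) * ((r b : Ω)⁻¹ * b)⁻¹ := by group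
          _ = _ := by rw [← h']; group
      have hMA : (f (r a))⁻¹ * f (r b) ∈ M ⊓ A := by
        refine ⟨mul_mem (Subgroup.inv_mem _ (Subgroup.subset_closure ⟨_, (r a).2, rfl⟩))
          (Subgroup.subset_closure ⟨_, (r b).2, rfl⟩), ?_⟩
        rw [h1]
        exact mul_mem (mul_mem (Subgroup.inv_mem _ (r a).2) a.2) (Subgroup.inv_mem _ (mul_mem (Subgroup.inv_mem _ (r b).2) b.2))
      have h2 : r a = r b := by
        have h3 : q a = q b := (hr a).symm.trans (((hq _ _).2 hMA).trans (hr b))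
        exact hrq a b h3
      rw [h2] at h'
      exact Subtype.ext (mul_left_cancel (mul_left_cancel h'))
    have hA'max : A' ∈ maxAbelIn T := ⟨hA'T, hA'c, fun B hB hBc => (hA.2.2 B hB hBc).trans hcard⟩
    have hAVC : A ⊓ V ≤ C := fun x hx =>
      ⟨hx.1, Subgroup.mem_centralizer_iff.2 fun m hm => hVc m (hMV hm) x hx.2⟩
    suffices hMA : M ≤ A from fun a ha => hMA (Subgroup.subset_closure ⟨a, ha, rfl⟩)
    by_cases hA'Q : A' ≤ Q
    · -- `A'` contains `V`, and then `A` centralizes `v`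
      have hVA' : V ≤ A' := fun x hx => by
        have hc := closure_singleton_sup_comm hA'c (x := x) fun a ha =>
          Subgroup.mem_centralizer_iff.1 hx.2 a (hA'Q ha)
        have hle : A' ⊔ Subgroup.zpowers x ≤ T := sup_le hA'T (Subgroup.zpowers_le.2 (hVT hx))
        haveI := finite_sub (S := T) hle
        rw [Subgroup.eq_of_le_of_card_ge le_sup_left (hA'max.2.2 _ hle hc)]
        exact Subgroup.mem_sup_right (Subgroup.mem_zpowers x)
      have hdec : ∀ x ∈ V, ∃ m ∈ M, ∃ c ∈ A ⊓ V, x = m * c := by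
        intro x hx
        obtain ⟨m, hm, c, hc, rfl⟩ := StronglyClosed.exists_mul_of_mem_sup (P := M) (T := C)
          (fun u hu t ht => by rw [Subgroup.mem_centralizer_iff.1 ht.2 u hu, mul_inv_cancel_right]; exact ht) (hVA' hx)
        refine ⟨m, hm, c, ⟨hc.1, ?_⟩, rfl⟩
        simpa using mul_mem (Subgroup.inv_mem _ (hMV hm)) hx
      have hstep : M ≤ ⁅M, T⁆ := by
        refine (Subgroup.closure_le _).2 ?_
        rintro _ ⟨a, ha, rfl⟩
        obtain ⟨m, hm, c, hc, rfl⟩ := hdec v hv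
        have hac : a * c = c * a := hA.2.1 a ha c hc.1
        have hci : c * a⁻¹ * c⁻¹ = a⁻¹ :=
          mul_inv_eq_iff_eq_mul.2 (Commute.inv_right (hac.symm : Commute c a))
        have e : f a = ⁅a, m⁆ := by
          calc f a = a * m * (c * a⁻¹ * c⁻¹) * m⁻¹ := by simp only [f]; group
            _ = ⁅a, m⁆ := by rw [hci, commutatorElement_def]
        rw [SetLike.mem_coe, e, Subgroup.commutator_comm]
        exact Subgroup.commutator_mem_commutator (hA.1 ha) hm
      have hbot : M = ⊥ := by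
        haveI := hT.isNilpotent
        obtain ⟨n, hn⟩ := (Subgroup.isNilpotent_iff_lowerCentralSeries T).1 inferInstance
        have hall : ∀ i, M ≤ T.lowerCentralSeries i := by
          intro i
          induction i with
          | zero => exact hMV.trans hVT
          | succ i ih => exact hstep.trans (Subgroup.commutator_mono ih le_rfl)
        exact le_bot_iff.1 (hn ▸ hall n)
      rw [hbot]; exact bot_le
    · haveI : Finite (A' ⊓ V : Subgroup Ω) := finite_sub (S := T) (inf_le_left.trans hA'T)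
      have h1 : A ⊓ V = A' ⊓ V := Subgroup.eq_of_le_of_card_ge
        (le_inf (hAVC.trans le_sup_right) inf_le_right) (hmax A' hA'max hA'Q)
      exact fun m hm => ((h1.ge : A' ⊓ V ≤ A ⊓ V) ⟨Subgroup.mem_sup_left hm, hMV hm⟩).1
  obtain ⟨a, ha, haQ⟩ := SetLike.not_le_iff_exists.1 hAQ
  exact ⟨a, hA.1 ha, haQ, fun v hv => hA.2.1 a ha _ (key v hv a ha)⟩

end Quadratic

section Norm

variable {G : Type*} [Group G] {V : Subgroup G} [V.Normal] {p : ℕ} [IsMulCommutative V]

local instance : CommGroup V := { mul_comm := fun a b => mul_comm' a b }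

theorem conjNormal_coe (g : G) (v : V) : ((MulAut.conjNormal g v : V) : G) = g * v * g⁻¹ :=
  MulAut.conjNormal_apply g v

/-- `∏ gⁱ w g⁻ⁱ = wᵖ` for a quadratic `g`, `p` odd. -/
theorem prod_conj_pow (hp : p.Prime) (hp2 : p ≠ 2) {g : G} {w : V}
    (hq : Commute g ((MulAut.conjNormal g w * w⁻¹ : V) : G))
    (hfix : MulAut.conjNormal g (w ^ p) = w ^ p) :
    (∏ i ∈ Finset.range p, MulAut.conjNormal (g ^ i) w) = w ^ p := by
  set d : V := MulAut.conjNormal g w * w⁻¹ with hd
  have hgd : MulAut.conjNormal g d = d := Subtype.ext (by rw [conjNormal_coe]; exact hq.mul_inv_cancel)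
  have hpow : ∀ i : ℕ, MulAut.conjNormal (g ^ i) w = d ^ i * w := by
    intro i
    induction i with
    | zero => simp
    | succ i ih => rw [pow_succ', map_mul, MulAut.mul_apply, ih, map_mul, map_pow, hgd,
        show MulAut.conjNormal g w = d * w from (inv_mul_cancel_right _ _).symm, ← mul_assoc, ← pow_succ]
  have hdp : d ^ p = 1 := by
    rw [hd, mul_pow, inv_pow, ← map_pow, hfix, mul_inv_cancel]
  rw [Finset.prod_congr rfl fun i _ => hpow i, Finset.prod_mul_distrib, Finset.prod_const,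
    Finset.card_range, Finset.prod_pow_eq_pow_sum]
  obtain ⟨k, hk⟩ : p ∣ ∑ i ∈ Finset.range p, i := by
    refine ((Nat.coprime_primes hp Nat.prime_two).2 hp2).dvd_of_dvd_mul_right ?_
    rw [Finset.sum_range_id_mul_two]
    exact dvd_mul_right _ _
  rw [hk, pow_mul, hdp, one_pow, one_mul]

end Norm

section Orbit

open Classical in
/-- The orbit of `q` under the subgroup `T`. -/
noncomputable def orb {G β : Type*} [Group G] [MulAction G β] [Fintype β] (T : Subgroup G) (q : β) :
    Finset β :=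
  Finset.univ.filter fun x => ∃ t ∈ T, t • q = x

theorem mem_orb {G β : Type*} [Group G] [MulAction G β] [Fintype β] {T : Subgroup G} {q x : β} :
    x ∈ orb T q ↔ ∃ t ∈ T, t • q = x := by simp [orb]

variable {G : Type*} [Group G] [Finite G] {p : ℕ} [hp : Fact p.Prime]

/-- A step of index `p` above a proper subgroup of a `p`-group. -/
theorem exists_step {T K : Subgroup G} (hT : IsPGroup p T) (hK : K ≤ T) (hne : K ≠ T) :
    ∃ M : Subgroup G, K ≤ M ∧ M ≤ T ∧ Nat.card M < Nat.card T ∧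
      (∀ t ∈ T, ∀ m ∈ M, t * m * t⁻¹ ∈ M) ∧ ∀ a ∈ T, a ∉ M →
        (∀ t ∈ T, ∃ i < p, (a ^ i)⁻¹ * t ∈ M) ∧ ∀ i < p, a ^ i ∈ M → i = 0 := by
  have hK' : K.subgroupOf T ≠ ⊤ := fun h =>
    hne (le_antisymm hK (Subgroup.subgroupOf_eq_top.1 h))
  obtain ⟨N, hN, hKN⟩ := (eq_top_or_exists_le_coatom (K.subgroupOf T)).resolve_left hK'
  haveI := PGroups.coatom_normal hT hN
  have hidx : N.index = p := PGroups.coatom_index hT hN
  have hmem : ∀ {t : G} (ht : t ∈ T), t ∈ N.map T.subtype ↔ (⟨t, ht⟩ : T) ∈ N := fun {t} ht =>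
    ⟨fun ⟨u, hu, he⟩ => (Subtype.ext he : u = ⟨t, ht⟩) ▸ hu, fun h => ⟨_, h, rfl⟩⟩
  refine ⟨N.map T.subtype, fun k hk => (hmem (hK hk)).2 (hKN hk), Subgroup.map_subtype_le N, ?_, ?_, ?_⟩
  · rw [Subgroup.card_map_of_injective T.subtype_injective]
    have := N.card_mul_index
    rw [hidx] at this
    rw [← this]
    exact lt_mul_of_one_lt_right Nat.card_pos hp.out.one_lt
  · rintro t ht _ ⟨m, hm, rfl⟩
    exact ⟨_, Subgroup.Normal.conj_mem inferInstance m hm ⟨t, ht⟩, rfl⟩
  intro a ha haN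
  classical
  have hcard : Nat.card (T ⧸ N) = p := hidx
  set b : T ⧸ N := QuotientGroup.mk ⟨a, ha⟩ with hb
  have hb1 : b ≠ 1 := fun h => haN ((hmem ha).2 ((QuotientGroup.eq_one_iff _).1 h))
  have hord : orderOf b = p := by
    have h1 : orderOf b ∣ p := hcard ▸ orderOf_dvd_natCard b
    exact (hp.out.eq_one_or_self_of_dvd _ h1).resolve_left fun h => hb1 (orderOf_eq_one_iff.1 h)
  refine ⟨fun t ht => ?_, fun i hi h => ?_⟩
  · have htop : Subgroup.zpowers b = ⊤ :=
      Subgroup.eq_top_of_card_eq _ (by rw [Nat.card_zpowers, hord, hcard])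
    obtain ⟨i, hi, he⟩ : ∃ i < p, b ^ i = QuotientGroup.mk ⟨t, ht⟩ := by
      have := htop.ge (Subgroup.mem_top (QuotientGroup.mk ⟨t, ht⟩ : T ⧸ N))
      rw [mem_zpowers_iff_mem_range_orderOf, hord] at this
      obtain ⟨i, hi, he⟩ := Finset.mem_image.1 this
      exact ⟨i, Finset.mem_range.1 hi, he⟩
    exact ⟨i, hi, (hmem (T.mul_mem (T.inv_mem (pow_mem ha i)) ht)).2 (QuotientGroup.eq.1 he)⟩
  · have h1 : b ^ i = 1 := (QuotientGroup.eq_one_iff _).2 ((hmem (pow_mem ha i)).1 h)
    have h2 := orderOf_dvd_of_pow_eq_one h1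
    rw [hord] at h2
    exact Nat.eq_zero_of_dvd_of_lt h2 hi

variable {V : Subgroup G} [V.Normal] [IsMulCommutative V] {β : Type*} [Fintype β] [MulAction G β]

local instance : CommGroup V := { mul_comm := fun a b => mul_comm' a b }

theorem prod_orb_mem (hp2 : p ≠ 2) {f : β → V} (hf : ∀ g q, f (g • q) = MulAut.conjNormal g (f q))
    {z : V} (hz : ∀ g : G, MulAut.conjNormal g z = z) (hfp : ∀ q, f q ^ p = z)
    (T : Subgroup G) (hT : IsPGroup p T) (q : β) {g : G} (hg : g ∈ T)
    (hquad : ∀ v ∈ V, Commute g (g * v * g⁻¹ * v⁻¹)) (hmove : ∃ x ∈ orb T q, g • x ≠ x) :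
    (∏ x ∈ orb T q, f x) ∈ Subgroup.zpowers z := by
  classical
  suffices H : ∀ (n : ℕ) (T : Subgroup G), Nat.card T ≤ n → IsPGroup p T → ∀ (q : β), g ∈ T →
      (∃ x ∈ orb T q, g • x ≠ x) → (∏ x ∈ orb T q, f x) ∈ Subgroup.zpowers z from
    H _ T le_rfl hT q hg hmove
  intro n
  induction n with
  | zero => exact fun T hn => absurd hn (Nat.not_le.2 Nat.card_pos)
  | succ n ih =>
  intro T hn hT q hg ⟨x, hx, hgx⟩
  have hne : T ⊓ MulAction.stabilizer G q ≠ T := by
    intro h
    obtain ⟨t, ht, rfl⟩ := mem_orb.1 hx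
    have hfix : ∀ t ∈ T, t • q = q := fun t ht => MulAction.mem_stabilizer_iff.1 (h.ge ht).2
    rw [hfix t ht, hfix g hg] at hgx
    exact hgx rfl
  obtain ⟨M, hKM, hMT, hlt, hnorm, hdec⟩ := exists_step hT inf_le_left hne
  obtain ⟨a, ha, haM, hga⟩ : ∃ a ∈ T, a ∉ M ∧ (g ∉ M → a = g) := by
    by_cases hgM : g ∈ M
    · obtain ⟨a, ha, haM⟩ := SetLike.not_le_iff_exists.1
        (show ¬ T ≤ M from fun h => Nat.not_le.2 hlt (Subgroup.card_le_of_le h))
      exact ⟨a, ha, haM, fun h => absurd hgM h⟩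
    · exact ⟨g, hg, hgM, fun _ => rfl⟩
  obtain ⟨hcover, huniq⟩ := hdec a ha haM
  have hO : orb T q = (Finset.range p).biUnion fun i => (orb M q).image ((a ^ i) • ·) := by
    ext y
    simp only [Finset.mem_biUnion, Finset.mem_range, Finset.mem_image, mem_orb]
    constructor
    · rintro ⟨t, ht, rfl⟩
      obtain ⟨i, hi, hm⟩ := hcover t ht
      exact ⟨i, hi, _, ⟨_, hm, rfl⟩, by rw [← mul_smul, mul_inv_cancel_left]⟩
    · rintro ⟨i, -, _, ⟨m, hm, rfl⟩, rfl⟩
      exact ⟨a ^ i * m, T.mul_mem (pow_mem ha i) (hMT hm), mul_smul _ _ _⟩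
  have hdisj : Set.PairwiseDisjoint (Finset.range p : Set ℕ)
      fun i => (orb M q).image ((a ^ i) • ·) := by
    have key : ∀ i j, i < p → j ≤ i → ∀ m ∈ M, ∀ m' ∈ M, a ^ i • m • q = a ^ j • m' • q → i = j := by
      intro i j hi hji m hm m' hm' he
      have h1 : a ^ (i - j) • m • q = m' • q := by
        apply MulAction.injective (a ^ j)
        show a ^ j • a ^ (i - j) • m • q = a ^ j • m' • q
        rw [← mul_smul (a ^ j), ← pow_add, Nat.add_sub_cancel' hji]
        exact he
      have h2 : m'⁻¹ * a ^ (i - j) * m ∈ M := hKM ⟨T.mul_mem (T.mul_mem (T.inv_mem (hMT hm'))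
        (pow_mem ha _)) (hMT hm), MulAction.mem_stabilizer_iff.2 (by
          rw [mul_smul, mul_smul, h1, inv_smul_smul])⟩
      have h3 : a ^ (i - j) ∈ M := by
        simpa [mul_assoc] using M.mul_mem (M.mul_mem hm' h2) (M.inv_mem hm)
      have := huniq _ (by omega) h3
      omega
    intro i hi j hj hij
    refine Finset.disjoint_left.2 fun y hy hy' => hij ?_
    simp only [Finset.mem_image, mem_orb] at hy hy'
    obtain ⟨_, ⟨m, hm, rfl⟩, rfl⟩ := hy
    obtain ⟨_, ⟨m', hm', rfl⟩, he⟩ := hy'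
    rcases le_total j i with h | h
    · exact key i j (Finset.mem_range.1 hi) h m hm m' hm' he.symm
    · exact (key j i (Finset.mem_range.1 hj) h m' hm' m hm he).symm
  set w := ∏ y ∈ orb M q, f y with hw
  have himg : ∀ i : ℕ, ∏ y ∈ (orb M q).image ((a ^ i) • ·), f y = MulAut.conjNormal (a ^ i) w := by
    intro i
    rw [Finset.prod_image (MulAction.injective _).injOn, hw, map_prod]
    exact Finset.prod_congr rfl fun y _ => hf _ _
  rw [hO, Finset.prod_biUnion hdisj, Finset.prod_congr rfl fun i _ => himg i]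
  by_cases hgM : g ∈ M
  · have hwz : w ∈ Subgroup.zpowers z := by
      obtain ⟨t, ht, rfl⟩ := mem_orb.1 hx
      obtain ⟨i, -, hm⟩ := hcover t ht
      have horb : orb M (a ^ i • q) = (orb M q).image ((a ^ i) • ·) := by
        ext y
        simp only [mem_orb, Finset.mem_image]
        constructor
        · rintro ⟨m, hm, rfl⟩
          refine ⟨_, ⟨_, ?_, rfl⟩, show a ^ i • ((a ^ i)⁻¹ * m * a ^ i) • q = _ by
            rw [← mul_smul, ← mul_smul]; congr 1; group⟩
          simpa using hnorm _ (T.inv_mem (pow_mem ha i)) m hm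
        · rintro ⟨_, ⟨m, hm, rfl⟩, rfl⟩
          exact ⟨_, hnorm _ (pow_mem ha i) m hm, by rw [← mul_smul, ← mul_smul, inv_mul_cancel_right]⟩
      have h1 := ih M (by omega) (hT.to_le hMT) (a ^ i • q) hgM ⟨t • q, ?_, hgx⟩
      · rw [horb, himg] at h1
        obtain ⟨k, hk⟩ := h1
        refine ⟨k, (MulAut.conjNormal (a ^ i)).injective (?_ : MulAut.conjNormal (a ^ i) (z ^ k) = _)⟩
        rw [map_zpow, hz]
        exact hk
      · rw [horb]
        exact Finset.mem_image.2 ⟨_, mem_orb.2 ⟨_, hm, rfl⟩, by rw [← mul_smul, mul_inv_cancel_left]⟩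
    refine Subgroup.prod_mem _ fun i _ => ?_
    obtain ⟨k, hk⟩ := hwz
    exact ⟨k, by rw [← hk]; show z ^ k = MulAut.conjNormal (a ^ i) (z ^ k); rw [map_zpow, hz]⟩
  · obtain rfl := hga hgM
    have hwp : w ^ p = z ^ (orb M q).card := by
      rw [hw, ← Finset.prod_pow, Finset.prod_congr rfl fun y _ => hfp y, Finset.prod_const]
    rw [prod_conj_pow hp.out hp2 (w := w) ?_ ?_, hwp]
    · exact ⟨_, zpow_natCast _ _⟩
    · rw [Subgroup.coe_mul, Subgroup.coe_inv, conjNormal_coe]
      exact hquad _ w.2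
    · rw [hwp, map_pow, hz]

end Orbit

section Main

open ConjFunctor.Basic Transfer

universe u

variable {p : ℕ} [hp : Fact p.Prime]

theorem normalizer_le_normalizer_J {G : Type*} [Group G] (T : Subgroup G) :
    Subgroup.normalizer (T : Set G) ≤ Subgroup.normalizer (thompsonSubgroupAOf T : Set G) := by
  intro g hg
  rw [Subgroup.mem_normalizer_iff_map_conj_eq,
    AbelianJ.map_thompsonSubgroupAOf _ (MulAut.conj g).injective,
    Subgroup.mem_normalizer_iff_map_conj_eq.1 hg]

theorem mem_center_step {G : Type u} [Group G] [Finite G] (hp2 : p ≠ 2) (S : Sylow p G)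
    (hind : ∀ (H : Type u) [Group H] [Finite H], Nat.card H < Nat.card G → ∀ (T : Sylow p H) (x : H),
      x ∈ pCore p H → (∀ n ∈ Subgroup.normalizer (thompsonSubgroupAOf (T : Subgroup H) : Set H), Commute n x) →
      x ∈ Subgroup.center H)
    {x : G} (hx : x ∈ pCore p G)
    (hN : ∀ n ∈ Subgroup.normalizer (thompsonSubgroupAOf (S : Subgroup G) : Set G), Commute n x)
    (hxp : x ^ p ∈ Subgroup.center G) : x ∈ Subgroup.center G := by
  classical
  set Sg : Subgroup G := (S : Subgroup G) with hSg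
  have hSN : Sg ≤ Subgroup.normalizer (thompsonSubgroupAOf Sg : Set G) :=
    Subgroup.le_normalizer.trans (normalizer_le_normalizer_J Sg)
  set M := Subgroup.centralizer ({x} : Set G) with hM
  have hmemM : ∀ {g : G}, g ∈ M ↔ g * x = x * g := fun {g} => Subgroup.mem_centralizer_singleton_iff
  have hSM : Sg ≤ M := fun s hs => hmemM.2 (hN s (hSN hs))
  set P := pCore p G with hP
  have hPS : P ≤ Sg := Cores.pCore_le_sylow S
  set V := Subgroup.normalClosure ({x} : Set G) with hV
  have hxc : x ∈ Subgroup.centralizer (P : Set G) :=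
    Subgroup.mem_centralizer_iff.2 fun y hy => hmemM.1 (hSM (hPS hy))
  haveI : (Subgroup.centralizer (P : Set G)).Normal := Subgroup.normal_centralizer
  have hVP : V ≤ P ⊓ Subgroup.centralizer (P : Set G) :=
    Subgroup.normalClosure_le_normal (Set.singleton_subset_iff.2 ⟨hx, hxc⟩)
  haveI : IsMulCommutative V := ⟨⟨fun a b =>
    Subtype.ext (Subgroup.mem_centralizer_iff.1 (hVP b.2).2 a (hVP a.2).1)⟩⟩
  haveI : (Subgroup.centralizer (V : Set G)).Normal := Subgroup.normal_centralizer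
  set C := Subgroup.centralizer (V : Set G) with hC
  set Q := Sg ⊓ C with hQ
  have hVQ : V ≤ Q := le_inf (hVP.trans (inf_le_left.trans hPS))
    fun v hv => Subgroup.mem_centralizer_iff.2 fun w hw =>
      Subgroup.mem_centralizer_iff.1 (hVP hv).2 w (hVP hw).1
  have hxV : x ∈ V := Subgroup.subset_normalClosure rfl
  -- `J(S)` centralizes `V`
  by_cases hJC : thompJ Sg ≤ Q
  · refine Subgroup.mem_center_iff.2 fun g => hmemM.1 ?_
    rw [← thompsonSubgroupAOf_eq (S := Sg) le_rfl] at hJC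
    obtain ⟨c, hc, n, hn, rfl⟩ := (isSyl_top S).frattini (N := C) le_top
      Subgroup.le_normalizer_of_normal (Subgroup.mem_top g)
    have hn' : n ∈ Subgroup.normalizer (thompsonSubgroupAOf Sg : Set G) :=
      AbelianJ.thompsonSubgroupAOf_eq_of_le inf_le_left hJC ▸ normalizer_le_normalizer_J _ hn.2
    exact M.mul_mem (hmemM.2 (Subgroup.mem_centralizer_iff.1 hc x hxV).symm) (hmemM.2 (hN n hn'))
  -- a quadratic element
  have hQn : Sg ≤ Subgroup.normalizer (Q : Set G) := fun s hs => mem_normalizer_of_forall fun a ha =>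
    ⟨Sg.mul_mem (Sg.mul_mem hs ha.1) (Sg.inv_mem hs), Subgroup.Normal.conj_mem inferInstance a ha.2 s⟩
  obtain ⟨a, ha, haQ, hquad⟩ := exists_quadratic S.2 inf_le_left hQn hJC
  let quad : Set G := {g | g ∈ Sg ∧ ∀ v ∈ V, Commute g (g * v * g⁻¹ * v⁻¹)}
  have haq : a ∈ quad := ⟨ha, fun v hv => hquad v ⟨hVQ hv, Subgroup.mem_centralizer_iff.2 fun w hw =>
    (Subgroup.mem_centralizer_iff.1 hw.2 v hv).symm⟩⟩
  set E := Subgroup.closure quad with hE
  have hES : E ≤ Sg := (Subgroup.closure_le _).2 fun g hg => hg.1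
  have hstab : ∀ n : G, (∀ g ∈ quad, n * g * n⁻¹ ∈ Sg) → n ∈ Subgroup.normalizer (E : Set G) := by
    intro n hn
    refine mem_normalizer_of_forall fun e he => ?_
    have hmap : E.map (MulAut.conj n).toMonoidHom ≤ E := by
      rw [MonoidHom.map_closure, Subgroup.closure_le]
      rintro _ ⟨g, hg, rfl⟩
      refine Subgroup.subset_closure ⟨hn g hg, fun v hv => ?_⟩
      have h1 := hg.2 (n⁻¹ * v * n) (by
        simpa using Subgroup.Normal.conj_mem (inferInstance : V.Normal) v hv n⁻¹)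
      have h2 := h1.map (MulAut.conj n).toMonoidHom
      simpa [mul_assoc] using h2
    exact hmap ⟨e, he, rfl⟩
  have hSE : Sg ≤ Subgroup.normalizer (E : Set G) := fun s hs => hstab s fun g hg =>
    Sg.mul_mem (Sg.mul_mem hs hg.1) (Sg.inv_mem hs)
  have hEtop : Subgroup.normalizer (E : Set G) ≠ ⊤ := fun h => by
    haveI := Subgroup.normalizer_eq_top_iff.1 h
    refine haQ ⟨ha, Subgroup.mem_centralizer_iff.2 fun v hv => ?_⟩
    exact (Subgroup.mem_centralizer_iff.1 (hVP hv).2 a
      (Cores.le_pCore (S.2.to_le hES) (Subgroup.subset_closure haq))).symm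
  -- induction in `N(E)`
  have hNM : Subgroup.normalizer (E : Set G) ≤ M := by
    set H := Subgroup.normalizer (E : Set G) with hH
    intro h hh
    let T : Sylow p H := S.subtype hSE
    have hTmap : (T : Subgroup H).map H.subtype = Sg := by
      rw [Sylow.coe_subtype]
      exact Subgroup.map_subgroupOf_eq_of_le hSE
    have hxH : x ∈ H := hSE (hPS hx)
    have hcard : Nat.card H < Nat.card G := lt_of_le_of_ne (Subgroup.card_le_card_group H)
      fun h => hEtop (Subgroup.eq_top_of_card_eq _ h)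
    haveI : (P.subgroupOf H).Normal := (pCore_normal p G).comap H.subtype
    have hxcore : (⟨x, hxH⟩ : H) ∈ pCore p H :=
      Cores.le_pCore (N := P.subgroupOf H) ((Cores.pCore_isPGroup p).comap_subtype) hx
    have hcen := hind H hcard T ⟨x, hxH⟩ hxcore fun n hn => by
      have h1 : (n : G) ∈ Subgroup.normalizer (thompsonSubgroupAOf Sg : Set G) := by
        have h2 := Subgroup.le_normalizer_map H.subtype ⟨n, hn, rfl⟩
        rwa [AbelianJ.map_thompsonSubgroupAOf _ H.subtype_injective, hTmap] at h2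
      exact Subtype.ext (hN _ h1)
    exact hmemM.2 (congrArg Subtype.val (Subgroup.mem_center_iff.1 hcen ⟨h, hh⟩))
  -- the sum of the conjugates
  letI : CommGroup V := { mul_comm := fun a b => mul_comm' a b }
  haveI : Fintype (G ⧸ M) := Fintype.ofFinite _
  let cj : G → V := fun g => MulAut.conjNormal g ⟨x, hxV⟩
  let f : G ⧸ M → V := fun q => Quotient.liftOn' q cj fun g g' h => by
    rw [QuotientGroup.leftRel_apply] at h
    refine Subtype.ext ?_
    simp only [cj, conjNormal_coe]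
    have e := hmemM.1 h
    calc g * x * g⁻¹ = g * (x * (g⁻¹ * g')) * g'⁻¹ := by group
      _ = g * ((g⁻¹ * g') * x) * g'⁻¹ := by rw [e]
      _ = g' * x * g'⁻¹ := by group
  have hf : ∀ g q, f (g • q) = MulAut.conjNormal g (f q) := by
    intro g q
    induction q using QuotientGroup.induction_on with
    | H h => exact (congrArg (fun φ : MulAut V => φ ⟨x, hxV⟩) (map_mul (MulAut.conjNormal (H := V)) g h) :)
  have hxpV : x ^ p ∈ V := pow_mem hxV p
  set z : V := ⟨x ^ p, hxpV⟩ with hz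
  have hzfix : ∀ g : G, MulAut.conjNormal g z = z := fun g => Subtype.ext (by
    rw [conjNormal_coe]
    exact mul_inv_eq_iff_eq_mul.2 (Subgroup.mem_center_iff.1 hxp g))
  have hfp : ∀ q, f q ^ p = z := by
    intro q
    induction q using QuotientGroup.induction_on with
    | H h =>
      show (MulAut.conjNormal h) (⟨x, hxV⟩ : V) ^ p = z
      rw [← map_pow, show (⟨x, hxV⟩ : V) ^ p = z from Subtype.ext rfl, hzfix h]
  set q₀ : G ⧸ M := QuotientGroup.mk 1 with hq₀
  have hrest : ∏ q ∈ Finset.univ.erase q₀, f q ∈ Subgroup.zpowers z := by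
    rw [← Finset.prod_fiberwise_of_maps_to (t := (Finset.univ.erase q₀).image (orb Sg))
      (g := orb Sg) (fun q hq => Finset.mem_image_of_mem _ hq) f]
    refine Subgroup.prod_mem _ fun o ho => ?_
    obtain ⟨q, hq, rfl⟩ := Finset.mem_image.1 ho
    have hself : ∀ y : G ⧸ M, y ∈ orb Sg y := fun y => mem_orb.2 ⟨1, one_mem _, one_smul _ _⟩
    have hfib : (Finset.univ.erase q₀).filter (fun y => orb Sg y = orb Sg q) = orb Sg q := by
      ext y
      simp only [Finset.mem_filter, Finset.mem_erase, Finset.mem_univ, and_true]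
      constructor
      · rintro ⟨-, h⟩
        exact h ▸ hself y
      · intro hy
        obtain ⟨s, hs, rfl⟩ := mem_orb.1 hy
        refine ⟨fun h => (Finset.mem_erase.1 hq).1 ?_, ?_⟩
        · have h1 : q = s⁻¹ • q₀ := by rw [← h, inv_smul_smul]
          rw [h1, hq₀]
          exact QuotientGroup.eq.2 (by simpa using hSM hs)
        · ext y
          simp only [mem_orb]
          exact ⟨fun ⟨t, ht, he⟩ => ⟨t * s, Sg.mul_mem ht hs, by rw [mul_smul, he]⟩,
            fun ⟨t, ht, he⟩ => ⟨t * s⁻¹, Sg.mul_mem ht (Sg.inv_mem hs), by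
              rw [mul_smul, inv_smul_smul, he]⟩⟩
    rw [hfib]
    suffices hmv : ∃ g ∈ quad, g • q ≠ q by
      obtain ⟨g, hg, hgq⟩ := hmv
      exact prod_orb_mem hp2 hf hzfix hfp Sg S.2 q hg.1 hg.2 ⟨q, hself q, hgq⟩
    by_contra hcon
    push_neg at hcon
    refine (Finset.mem_erase.1 hq).1 ?_
    induction q using QuotientGroup.induction_on with
    | H h =>
      have hEM : conjS h⁻¹ E ≤ M := by
        rw [conjS, MonoidHom.map_closure, Subgroup.closure_le]
        rintro _ ⟨g, hg, rfl⟩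
        have := QuotientGroup.eq.1 (hcon g hg)
        have h2 := M.inv_mem this
        simpa [mul_assoc] using h2
      obtain ⟨d, hd, hdE⟩ := ((isSyl_top S).mono hSM le_top).exists_conj_le
        ((S.2.to_le hES).map _) hEM
      have hn : d * h⁻¹ ∈ M := hNM (hstab _ fun g hg => by
        have := hdE (conj_mem_conjS (conj_mem_conjS (Subgroup.subset_closure hg)))
        simpa [mul_assoc] using this)
      refine QuotientGroup.eq.2 ?_
      simpa using M.mul_mem (M.inv_mem hd) hn
  set Tot := ∏ q, f q with hTot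
  have hTotfix : ∀ g : G, MulAut.conjNormal g Tot = Tot := fun g => by
    rw [hTot, map_prod]
    exact Fintype.prod_equiv (MulAction.toPerm g) _ _ fun q => (hf g q).symm
  obtain ⟨k, hk⟩ := hrest
  have hx' : (⟨x, hxV⟩ : V) = Tot * (z ^ k)⁻¹ := by
    rw [eq_mul_inv_iff_mul_eq, hTot, ← Finset.mul_prod_erase _ _ (Finset.mem_univ q₀), ← hk]
    congr 1
    exact Subtype.ext (by simp [q₀, f, cj])
  refine Subgroup.mem_center_iff.2 fun g => mul_inv_eq_iff_eq_mul.1 ?_
  have h1 : MulAut.conjNormal g (⟨x, hxV⟩ : V) = ⟨x, hxV⟩ := by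
    rw [hx', map_mul, map_inv, map_zpow, hTotfix, hzfix]
  exact congrArg Subtype.val h1

theorem mem_center_aux (hp2 : p ≠ 2) : ∀ (n : ℕ) (G : Type u) [Group G] [Finite G], Nat.card G ≤ n →
    ∀ (S : Sylow p G) (x : G), x ∈ pCore p G →
      (∀ g ∈ Subgroup.normalizer (thompsonSubgroupAOf (S : Subgroup G) : Set G), Commute g x) →
      x ∈ Subgroup.center G := by
  intro n
  induction n with
  | zero => exact fun G _ _ hn => absurd hn (Nat.not_le.2 Nat.card_pos)
  | succ n ih =>
  intro G _ _ hn S x hx hN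
  obtain ⟨k, hk⟩ : ∃ k, x ^ p ^ k = 1 := by
    obtain ⟨k, hk⟩ := Cores.pCore_isPGroup p (⟨x, hx⟩ : pCore p G)
    exact ⟨k, congrArg Subtype.val hk⟩
  induction k generalizing x with
  | zero => simp at hk; simp [hk]
  | succ k ihk =>
    refine mem_center_step hp2 S (fun H _ _ hH T y => ih H (by omega) T y) hx hN
      (ihk _ (pow_mem hx p) (fun g hg => (hN g hg).pow_right p) ?_)
    rw [← pow_mul, ← pow_succ']
    exact hk

/-- Glauberman: `O_p(G) ∩ Z(N(J(S))) ≤ Z(G)` for odd `p`. -/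
theorem mem_center {G : Type u} [Group G] [Finite G] (hp2 : p ≠ 2) (S : Sylow p G) {x : G}
    (hx : x ∈ pCore p G)
    (hN : ∀ g ∈ Subgroup.normalizer (thompsonSubgroupAOf (S : Subgroup G) : Set G), Commute g x) :
    x ∈ Subgroup.center G :=
  mem_center_aux hp2 _ G le_rfl S x hx hN

end Main

end Cfsg.Agent.Lib.LAEven57.GlaubermanCenter
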