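import Cfsg.Agent.Lib.LAEven57.Basic
import Cfsg.Prelude.Def_IsolatedElements
import Mathlib.GroupTheory.Transfer

/-!
Isolated `p`-elements.
-/

set_option autoImplicit false

namespace Cfsg.Agent.Lib.LAEven57

variable {G : Type*} [Group G] {p : ℕ}

theorem zpowers_isPGroup {x : G} (hx : ∃ k : ℕ, orderOf x = p ^ k) :
    IsPGroup p (Subgroup.zpowers x) := by
  obtain ⟨k, hk⟩ := hx
  exact IsPGroup.of_card (n := k) (by rw [Nat.card_zpowers]; exact hk)

theorem orderOf_conj' (g x : G) : orderOf (g * x * g⁻¹) = orderOf x := by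
  have := orderOf_injective (MulAut.conj g).toMonoidHom (MulAut.conj g).injective x
  simpa using this

theorem isIsolated_subtype {x : G} (hiso : IsIsolated x) (H : Subgroup G) (hx : x ∈ H) :
    IsIsolated (⟨x, hx⟩ : ↥H) := by
  intro g hc
  apply Subtype.ext
  exact hiso g (congrArg Subtype.val hc)

/-- An isolated element is central in every `p`-subgroup containing it. -/
theorem commute_of_mem_pGroup [Finite G] [Fact p.Prime] {x : G} (hiso : IsIsolated x)
    {R : Subgroup G} (hR : IsPGroup p R) (hxR : x ∈ R) {y : G} (hy : y ∈ R) : x * y = y * x := by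
  have hM : ∀ z, z ∈ R ⊓ Subgroup.centralizer ({x} : Set G) ↔ z ∈ R ∧ z * x = x * z := by
    intro z; simp [Subgroup.mem_centralizer_singleton_iff]
  have hMR : R ⊓ Subgroup.centralizer ({x} : Set G) = R := by
    refine eq_of_normalizer_le hR inf_le_left fun z hzR hz => (hM z).mpr ⟨hzR, ?_⟩
    rw [Subgroup.mem_normalizer_iff] at hz
    have h1 := ((hM _).mp ((hz x).mp ((hM x).mpr ⟨hxR, rfl⟩))).2
    have h2 := hiso z h1.symm
    calc z * x = z * x * z⁻¹ * z := by group
      _ = x * z := by rw [h2]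
  exact ((hM y).mp (by rw [hMR]; exact hy)).2.symm

/-- Two conjugates of an isolated element lying in a common `p`-subgroup coincide. -/
theorem conj_eq_of_mem_pGroup [Finite G] [Fact p.Prime] {x : G} (hiso : IsIsolated x)
    {R : Subgroup G} (hR : IsPGroup p R) (hxR : x ∈ R) {g : G} (hg : g * x * g⁻¹ ∈ R) :
    g * x * g⁻¹ = x :=
  hiso g (commute_of_mem_pGroup hiso hR hxR hg)

/-- Inside any subgroup containing an isolated `p`-element and a conjugate of it, the two are
conjugate. -/
theorem exists_conj_eq [Finite G] [Fact p.Prime] {x : G} (hx : ∃ k : ℕ, orderOf x = p ^ k)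
    (hiso : IsIsolated x) {H : Subgroup G} (hxH : x ∈ H) {g : G} (hg : g * x * g⁻¹ ∈ H) :
    ∃ h ∈ H, h * (g * x * g⁻¹) * h⁻¹ = x := by
  have hx' : ∃ k : ℕ, orderOf (⟨x, hxH⟩ : ↥H) = p ^ k := by simpa [Subgroup.orderOf_mk] using hx
  have hy' : ∃ k : ℕ, orderOf (⟨g * x * g⁻¹, hg⟩ : ↥H) = p ^ k := by
    simpa [Subgroup.orderOf_mk, orderOf_conj'] using hx
  obtain ⟨P, hP⟩ := (zpowers_isPGroup hx').exists_le_sylow
  obtain ⟨Q, hQ⟩ := (zpowers_isPGroup hy').exists_le_sylow
  obtain ⟨h, hh⟩ := MulAction.exists_smul_eq ↥H Q P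
  refine ⟨(h : G), h.2, ?_⟩
  have hxP : (⟨x, hxH⟩ : ↥H) ∈ P := hP (Subgroup.mem_zpowers _)
  have hyP : h * (⟨g * x * g⁻¹, hg⟩ : ↥H) * h⁻¹ ∈ P := by
    rw [← hh]
    exact Subgroup.smul_mem_pointwise_smul _ (MulAut.conj h) _
      (hQ (Subgroup.mem_zpowers _))
  have hPG : IsPGroup p ((P : Subgroup ↥H).map H.subtype) := P.isPGroup'.map _
  have := conj_eq_of_mem_pGroup hiso hPG (g := (h : G) * g)
    ⟨_, hxP, rfl⟩ ⟨_, hyP, by simp [mul_assoc]⟩
  simpa [mul_assoc] using this

/-- The normalizer of a `p`-subgroup containing an isolated element centralizes that element. -/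
theorem normalizer_le_centralizer [Finite G] [Fact p.Prime] {x : G} (hiso : IsIsolated x)
    {R : Subgroup G} (hR : IsPGroup p R) (hxR : x ∈ R) :
    Subgroup.normalizer (R : Set G) ≤ Subgroup.centralizer ({x} : Set G) := by
  intro g hg
  rw [Subgroup.mem_normalizer_iff] at hg
  rw [Subgroup.mem_centralizer_singleton_iff]
  have := conj_eq_of_mem_pGroup hiso hR hxR ((hg x).mp hxR)
  calc g * x = g * x * g⁻¹ * g := by group
    _ = x * g := by rw [this]

/-- Frattini argument: `H = N C_H(x)` for `x ∈ N ⊴ H`. -/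
theorem sup_centralizer_eq [Finite G] [Fact p.Prime] {x : G} (hx : ∃ k : ℕ, orderOf x = p ^ k)
    (hiso : IsIsolated x) {H N : Subgroup G} (hNH : N ≤ H)
    (hn : H ≤ Subgroup.normalizer (N : Set G)) (hxN : x ∈ N) :
    N ⊔ (H ⊓ Subgroup.centralizer ({x} : Set G)) = H := by
  refine le_antisymm (sup_le hNH inf_le_left) fun g hg => ?_
  have hgn := hn hg
  rw [Subgroup.mem_normalizer_iff] at hgn
  obtain ⟨n, hn', he⟩ := exists_conj_eq hx hiso hxN ((hgn x).mp hxN)
  have h1 : n * g ∈ H ⊓ Subgroup.centralizer ({x} : Set G) := by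
    refine ⟨H.mul_mem (hNH hn') hg, ?_⟩
    show n * g ∈ Subgroup.centralizer ({x} : Set G)
    rw [Subgroup.mem_centralizer_singleton_iff]
    calc n * g * x = n * (g * x * g⁻¹) * n⁻¹ * (n * g) := by group
      _ = x * (n * g) := by rw [he]
  have h2 : g = n⁻¹ * (n * g) := by group
  rw [h2]
  exact Subgroup.mul_mem_sup (N.inv_mem hn') h1

/-- Isolation of a `p`-element passes to quotients. -/
theorem isIsolated_quotient [Finite G] [Fact p.Prime] {x : G} (hx : ∃ k : ℕ, orderOf x = p ^ k)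
    (hiso : IsIsolated x) (N : Subgroup G) [N.Normal] :
    IsIsolated (QuotientGroup.mk x : G ⧸ N) := by
  intro gb
  induction gb using QuotientGroup.induction_on with
  | H g =>
    intro hc
    let π := QuotientGroup.mk' N
    let K : Subgroup (G ⧸ N) := Subgroup.closure {π x, π (g * x * g⁻¹)}
    have hKc : IsMulCommutative ↥K := by
      refine Subgroup.isMulCommutative_closure ?_
      intro a ha b hb
      simp only [Set.mem_insert_iff, Set.mem_singleton_iff] at ha hb
      have hc' : Commute (π x) (π (g * x * g⁻¹)) := hc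
      rcases ha with rfl | rfl <;> rcases hb with rfl | rfl
      · rfl
      · exact hc'.eq
      · exact hc'.symm.eq
      · rfl
    have hxH : x ∈ K.comap π := Subgroup.subset_closure (by simp)
    have hyH : g * x * g⁻¹ ∈ K.comap π := Subgroup.subset_closure (by simp)
    obtain ⟨h, hh, he⟩ := exists_conj_eq hx hiso hxH hyH
    have hcom : π h * π (g * x * g⁻¹) = π (g * x * g⁻¹) * π h :=
      congrArg Subtype.val (mul_comm' (⟨π h, hh⟩ : ↥K) ⟨π (g * x * g⁻¹), hyH⟩)
    have h1 : π h * π (g * x * g⁻¹) * (π h)⁻¹ = π x := by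
      rw [← map_inv, ← map_mul, ← map_mul, he]
    rw [hcom, mul_inv_cancel_right] at h1
    exact h1

/-- Every element of a finite group normalizing a Sylow subgroup `P` lies in a subgroup containing
`P` and the elements of order prime to `p` of the normalizer. -/
theorem sylow_normalizer_le_of [Finite G] [hp : Fact p.Prime] (P : Sylow p G) (S : Subgroup G)
    (hPS : (P : Subgroup G) ≤ S)
    (h : ∀ e ∈ Subgroup.normalizer ((P : Subgroup G) : Set G), (orderOf e).Coprime p → e ∈ S) :
    Subgroup.normalizer ((P : Subgroup G) : Set G) ≤ S := by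
  intro g hg
  obtain ⟨k, m, hm, hkm⟩ := Nat.exists_eq_pow_mul_and_not_dvd (orderOf_pos g).ne' p hp.out.ne_one
  have hpk : 0 < p ^ k := pow_pos hp.out.pos k
  have hm0 : m ≠ 0 := fun h0 => hm (h0 ▸ dvd_zero p)
  have hmp : m.Coprime p := (hp.out.coprime_iff_not_dvd.mpr hm).symm
  have h1 : g ^ p ^ k ∈ S := by
    refine h _ (Subgroup.pow_mem _ hg _) ?_
    rw [orderOf_pow_of_dvd hpk.ne' ⟨m, hkm⟩, hkm, Nat.mul_div_cancel_left m hpk]
    exact hmp
  have h2 : g ^ m ∈ S := by
    refine hPS ?_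
    have ho : ∃ j : ℕ, orderOf (g ^ m) = p ^ j := ⟨k, by
      rw [orderOf_pow_of_dvd hm0 ⟨p ^ k, by rw [hkm, mul_comm]⟩, hkm, mul_comm,
        Nat.mul_div_cancel_left _ (Nat.pos_of_ne_zero hm0)]⟩
    have hz := zpowers_isPGroup ho
    have hle : Subgroup.zpowers (g ^ m) ≤ Subgroup.normalizer ((P : Subgroup G) : Set G) :=
      Subgroup.zpowers_le.mpr (Subgroup.pow_mem _ hg m)
    have hsup := IsPGroup.to_sup_of_normal_right' hz P.isPGroup' hle
    rw [← P.is_maximal' hsup le_sup_right]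
    exact Subgroup.mem_sup_left (Subgroup.mem_zpowers _)
  have hco : Nat.gcd (p ^ k) m = 1 := (hmp.pow_right k).symm
  have h3 : g ^ Nat.gcd (p ^ k) m ∈ S := by
    rw [← zpow_natCast, Nat.gcd_eq_gcd_ab, zpow_add, zpow_mul, zpow_mul, zpow_natCast, zpow_natCast]
    exact S.mul_mem (S.zpow_mem h1 _) (S.zpow_mem h2 _)
  rwa [hco, pow_one] at h3

/-- With a cyclic Sylow `p`-subgroup, a nontrivial isolated `p`-element forces a normal
`p`-complement. -/
theorem exists_normalPComplement_of_cyclic [Finite G] [hp : Fact p.Prime] {x : G}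
    (hiso : IsIsolated x) (hx1 : x ≠ 1) (P : Sylow p G) (hxP : x ∈ (P : Subgroup G))
    (hcyc : IsCyclic ↥(P : Subgroup G)) :
    ∃ N : Subgroup G, N.Normal ∧ N.IsComplement' (P : Subgroup G) := by
  obtain ⟨y₀, hy₀⟩ := hcyc.exists_generator
  set y : G := (y₀ : G) with hy
  have hgen : ∀ z ∈ (P : Subgroup G), ∃ j : ℤ, y ^ j = z := by
    intro z hz
    obtain ⟨j, hj⟩ := hy₀ ⟨z, hz⟩
    exact ⟨j, by simpa using congrArg Subtype.val hj⟩
  obtain ⟨a, ha⟩ := IsPGroup.iff_orderOf.mp P.isPGroup' y₀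
  rw [← Subgroup.orderOf_coe, ← hy] at ha
  have hN : Subgroup.normalizer ((P : Subgroup G) : Set G) ≤
      Subgroup.centralizer ((P : Subgroup G) : Set G) := by
    refine sylow_normalizer_le_of P _ ?_ fun e he hep => ?_
    · intro u hu
      rw [Subgroup.mem_centralizer_iff]
      intro z hz
      obtain ⟨i, rfl⟩ := hgen u hu
      obtain ⟨j, rfl⟩ := hgen z hz
      exact (Commute.zpow_zpow_self y j i).eq
    have hxc : e * x = x * e :=
      Subgroup.mem_centralizer_singleton_iff.mp (normalizer_le_centralizer hiso P.isPGroup' hxP he)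
    rw [Subgroup.mem_normalizer_iff] at he
    obtain ⟨t, ht⟩ := hgen _ ((he y).mp y₀.2)
    obtain ⟨j, hj⟩ := hgen x hxP
    have hpow : ∀ i : ℤ, e * y ^ i * e⁻¹ = y ^ (t * i) := by
      intro i; rw [zpow_mul, ht, conj_zpow]
    -- `t ≡ 1` mod `p`
    have ht1 : (p : ℤ) ∣ t - 1 := by
      have h1 : y ^ (t * j) = y ^ j := by
        rw [← hpow, hj, hxc, mul_inv_cancel_right]
      have h2 : y ^ ((t - 1) * j) = 1 := by
        rw [sub_mul, one_mul, zpow_sub, h1, mul_inv_cancel]
      rw [← orderOf_dvd_iff_zpow_eq_one, ha, Nat.cast_pow] at h2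
      by_contra hne
      apply hx1
      rw [← hj, ← orderOf_dvd_iff_zpow_eq_one, ha, Nat.cast_pow]
      have hcp : IsCoprime (((p : ℤ)) ^ a) (t - 1) := by
        refine IsCoprime.pow_left ?_
        exact (Nat.prime_iff_prime_int.mp hp.out).coprime_iff_not_dvd.mpr hne
      exact hcp.dvd_of_dvd_mul_left h2
    have key : ∀ i : ℕ, i ≤ a → e * y ^ ((p : ℤ) ^ (a - i)) = y ^ ((p : ℤ) ^ (a - i)) * e := by
      intro i hi
      induction i with
      | zero =>
        have : y ^ ((p : ℤ) ^ a) = 1 := by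
          rw [← orderOf_dvd_iff_zpow_eq_one, ha, Nat.cast_pow]
        simp [this]
      | succ i ih =>
        have ih' := ih (by omega)
        set q : ℤ := (p : ℤ) ^ (a - (i + 1)) with hq
        have hstep : (p : ℤ) ^ (a - i) = (p : ℤ) * q := by
          rw [hq, ← pow_succ']; congr 1; omega
        obtain ⟨s, hs⟩ := ht1
        have hcomm : e * y ^ (((p : ℤ) ^ (a - i)) * s) = y ^ (((p : ℤ) ^ (a - i)) * s) * e := by
          rw [zpow_mul]; exact (Commute.zpow_right ih' s).eq
        have hc : e * y ^ q * e⁻¹ * (y ^ q)⁻¹ = y ^ (((p : ℤ) ^ (a - i)) * s) := by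
          rw [hpow, ← zpow_neg, ← zpow_add, hstep]
          congr 1
          rw [mul_right_comm, ← hs]; ring
        have hcP : e * y ^ q * e⁻¹ * (y ^ q)⁻¹ ∈ (P : Subgroup G) := by
          rw [hc]; exact Subgroup.zpow_mem _ y₀.2 _
        exact commute_of_stab P.isPGroup' hep hcP (by rw [hc]; exact hcomm)
    have hey : e * y = y * e := by simpa using key a le_rfl
    rw [Subgroup.mem_centralizer_iff]
    intro z hz
    obtain ⟨i, rfl⟩ := hgen z hz
    exact (Commute.zpow_right hey i).eq.symm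
  exact ⟨(MonoidHom.transferSylow P hN).ker, MonoidHom.normal_ker _,
    MonoidHom.ker_transferSylow_isComplement' P hN⟩

end Cfsg.Agent.Lib.LAEven57
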