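import Cfsg.Agent.Lib.LAEven57.CentrallyLarge

/-!
Some minimal centrally large subgroup is normalized by all abelian subgroups of largest order and
by all minimal centrally large subgroups.
-/

set_option autoImplicit false

open Cfsg
open scoped Pointwise commutatorElement

namespace Cfsg.Agent.Lib.LAEven57.CLN

open Cfsg.Agent.Lib.LA5.Basic
open Cfsg.Agent.Lib.LAEven57.CL

variable {P : Type*} [Group P]

/-- The conjugate subgroup `g H g⁻¹`. -/
abbrev cj (g : P) (H : Subgroup P) : Subgroup P := H.map (MulAut.conj g).toMonoidHom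

theorem mem_cj {g x : P} {H : Subgroup P} (h : x ∈ H) : g * x * g⁻¹ ∈ cj g H :=
  ⟨x, h, rfl⟩

theorem cj_normal_iff {g : P} {H : Subgroup P} :
    g ∈ Subgroup.normalizer (H : Set P) ↔ cj g H = H := mem_normalizer_iff_conj_eq

theorem cj_cj (g h : P) (H : Subgroup P) : cj g (cj h H) = cj (g * h) H := map_conj_mul g h H

theorem cj_one (H : Subgroup P) : cj (1 : P) H = H := map_conj_one H

theorem cz_cj (g : P) (H : Subgroup P) : cz (cj g H) = cj g (cz H) := by
  ext x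
  constructor
  · intro hx
    refine mem_conj_iff.mpr (Subgroup.mem_centralizer_iff.mpr fun y hy => ?_)
    have := Subgroup.mem_centralizer_iff.mp hx _ (mem_cj hy)
    calc y * (g⁻¹ * x * g) = g⁻¹ * ((g * y * g⁻¹) * x) * g := by group
      _ = g⁻¹ * (x * (g * y * g⁻¹)) * g := by rw [this]
      _ = g⁻¹ * x * g * y := by group
  · rintro ⟨y, hy, rfl⟩
    refine Subgroup.mem_centralizer_iff.mpr ?_
    rintro _ ⟨z, hz, rfl⟩
    have := Subgroup.mem_centralizer_iff.mp hy z hz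
    show (g * z * g⁻¹) * (g * y * g⁻¹) = (g * y * g⁻¹) * (g * z * g⁻¹)
    calc _ = g * (z * y) * g⁻¹ := by group
      _ = g * (y * z) * g⁻¹ := by rw [this]
      _ = _ := by group

theorem cj_le_cj {g : P} {H K : Subgroup P} (h : H ≤ K) : cj g H ≤ cj g K := Subgroup.map_mono h

theorem cj_sup (g : P) (H K : Subgroup P) : cj g (H ⊔ K) = cj g H ⊔ cj g K := Subgroup.map_sup _ _ _

theorem le_cz_normalizer {U : Subgroup P} {g : P} (h : g ∈ Subgroup.normalizer (U : Set P)) :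
    g ∈ Subgroup.normalizer ((cz U : Subgroup P) : Set P) := by
  rw [cj_normal_iff] at h ⊢
  rw [← cz_cj, h]

variable [Finite P]

theorem cl_cj (g : P) {R : Subgroup P} (h : IsCentrallyLarge R) : IsCentrallyLarge (cj g R) := by
  rw [centrallyLarge_iff] at h ⊢
  refine ⟨?_, by rw [cz_cj]; exact cj_le_cj h.2⟩
  show Nat.card ↥(cj g R) * Nat.card ↥(cz (cj g R)) = _
  rw [cz_cj, card_conj, card_conj]
  exact h.1

theorem minimal_cj (g : P) {R : Subgroup P} (h : IsMinimalCentrallyLarge R) :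
    IsMinimalCentrallyLarge (cj g R) := by
  refine ⟨cl_cj g h.1, fun R' hle hR' => ?_⟩
  have hle' : cj g⁻¹ R' ≤ R := by
    have := cj_le_cj (g := g⁻¹) hle
    rwa [cj_cj, inv_mul_cancel, cj_one] at this
  have := h.2 _ hle' (cl_cj g⁻¹ hR')
  rw [← this, cj_cj, mul_inv_cancel, cj_one]

theorem maxAbelian_cj (g : P) {A : Subgroup P} (h : A ∈ maxAbelianSubgroups P) :
    cj g A ∈ maxAbelianSubgroups P := by
  refine ⟨?_, fun B hB => by rw [card_conj]; exact h.2 B hB⟩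
  rw [isMulCommutative_iff_le_cz, cz_cj]
  exact cj_le_cj (isMulCommutative_iff_le_cz.mp h.1)

omit [Finite P] in
theorem comm_mul_left {a b c : P} (h : Commute ⁅b, c⁆ a) : ⁅a * b, c⁆ = ⁅b, c⁆ * ⁅a, c⁆ := by
  calc ⁅a * b, c⁆ = a * ⁅b, c⁆ * a⁻¹ * ⁅a, c⁆ := by simp only [commutatorElement_def]; group
    _ = ⁅b, c⁆ * ⁅a, c⁆ := by rw [← h.eq, mul_inv_cancel_right]

omit [Finite P] in
theorem comm_mul_right {a b c : P} (h : Commute ⁅a, c⁆ b) : ⁅a, b * c⁆ = ⁅a, b⁆ * ⁅a, c⁆ := by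
  calc ⁅a, b * c⁆ = ⁅a, b⁆ * (b * ⁅a, c⁆ * b⁻¹) := by simp only [commutatorElement_def]; group
    _ = ⁅a, b⁆ * ⁅a, c⁆ := by rw [← h.eq, mul_inv_cancel_right]

/-- `U` is maximal among the centrally large proper subgroups of `Y`. -/
def IsMaxCL (Y U : Subgroup P) : Prop :=
  IsCentrallyLarge U ∧ U < Y ∧ ∀ V : Subgroup P, IsCentrallyLarge V → U < V → ¬ V < Y

variable {Y U U' : Subgroup P}

theorem maxCL_sup (hY : IsCentrallyLarge Y) (hU : IsMaxCL Y U) {V : Subgroup P}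
    (hV : IsCentrallyLarge (U ⊔ V)) (hVY : V ≤ Y) (hne : ¬ V ≤ U) : U ⊔ V = Y := by
  have h1 : U < U ⊔ V := lt_of_le_of_ne le_sup_left fun e => hne (e ▸ le_sup_right)
  by_contra h
  exact hU.2.2 _ hV h1 (lt_of_le_of_ne (sup_le hU.2.1.le hVY) h)

theorem maxCL_cj (g : P) (hY : cj g Y = Y) (hU : IsMaxCL Y U) : IsMaxCL Y (cj g U) := by
  refine ⟨cl_cj g hU.1, ?_, fun V hV hlt hlt' => ?_⟩
  · rw [← hY]
    exact Subgroup.map_lt_map_iff_of_injective (MulAut.conj g).injective |>.mpr hU.2.1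
  · have hY' : cj g⁻¹ Y = Y := by
      conv_lhs => rw [← hY]
      rw [cj_cj, inv_mul_cancel, cj_one]
    refine hU.2.2 (cj g⁻¹ V) (cl_cj g⁻¹ hV) ?_ ?_
    · have := Subgroup.map_lt_map_iff_of_injective (f := (MulAut.conj g⁻¹).toMonoidHom)
        (MulAut.conj g⁻¹).injective |>.mpr hlt
      rwa [show Subgroup.map (MulAut.conj g⁻¹).toMonoidHom (cj g U) = U by
        rw [← cj, cj_cj, inv_mul_cancel, cj_one]] at this
    · rw [← hY']
      exact Subgroup.map_lt_map_iff_of_injective (MulAut.conj g⁻¹).injective |>.mpr hlt'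

theorem maxCL_ne_sup (hY : IsCentrallyLarge Y) (hU : IsMaxCL Y U) (hU' : IsMaxCL Y U') (hne : U ≠ U') :
    U ⊔ U' = Y := by
  refine maxCL_sup hY hU (cl_sup hU.1 hU'.1) hU'.2.1.le fun hle => ?_
  exact hU'.2.2 U hU.1 (lt_of_le_of_ne hle hne.symm) hU.2.1

theorem maxCL_normal {p : ℕ} [Fact p.Prime] (hP : IsPGroup p P) (hY : IsCentrallyLarge Y)
    (hU : IsMaxCL Y U) : Y ≤ Subgroup.normalizer (U : Set P) := by
  intro y hy
  set N := Y ⊓ Subgroup.normalizer (U : Set P) with hN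
  suffices N = Y by
    have hy' : y ∈ N := this.symm ▸ hy
    exact hy'.2
  refine eq_of_inf_normalizer_eq (hP.to_subgroup Y) inf_le_left ?_
  refine le_antisymm (fun z hz => ⟨hz.1, ?_⟩) (le_inf inf_le_left Subgroup.le_normalizer)
  by_contra hzU
  have hne : cj z U ≠ U := fun e => hzU (cj_normal_iff.mpr e)
  have hzY : cj z Y = Y := cj_normal_iff.mp (Subgroup.le_normalizer hz.1)
  have hsup := maxCL_ne_sup hY hU (maxCL_cj z hzY hU) hne.symm
  have hUN : U ≤ N := le_inf hU.2.1.le Subgroup.le_normalizer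
  have hzN : cj z U ≤ N := by
    refine (cj_le_cj hUN).trans (le_of_eq ?_)
    exact cj_normal_iff.mp hz.2
  have hYN : Y ≤ N := hsup ▸ sup_le hUN hzN
  exact hzU (hYN hz.1).2

theorem cz_inj {U V : Subgroup P} (hU : IsCentrallyLarge U) (hV : IsCentrallyLarge V) (h : cz U = cz V) :
    U = V := by
  rw [← (cz_large (centrallyLarge_iff.mp hU).1).2, h, (cz_large (centrallyLarge_iff.mp hV).1).2]

/-- An atom: the centralizer of a maximal centrally large proper subgroup of `Y`. -/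
def IsAtom' (Y X : Subgroup P) : Prop := ∃ U, IsMaxCL Y U ∧ cz U = X

section line

variable {X X' : Subgroup P}

theorem atom_facts (hY : IsCentrallyLarge Y) (hX : IsAtom' Y X) :
    IsCentralizerLarge X ∧ cz Y < X ∧ X ≤ Y ∧ X ≤ cz X ∧ IsMaxCL Y (cz X) := by
  obtain ⟨U, hU, rfl⟩ := hX
  obtain ⟨hUL, hUC⟩ := centrallyLarge_iff.mp hU.1
  refine ⟨(cz_large hUL).1, lt_of_le_of_ne (cz_anti hU.2.1.le) fun e => hU.2.1.ne (cz_inj hU.1 hY e.symm),
    hUC.trans hU.2.1.le, cz_anti hUC, ?_⟩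
  rw [(cz_large hUL).2]; exact hU

theorem atom_inf (hY : IsCentrallyLarge Y) (hX : IsAtom' Y X) (hX' : IsAtom' Y X') (hne : X ≠ X') :
    X ⊓ X' = cz Y := by
  obtain ⟨U, hU, rfl⟩ := hX
  obtain ⟨U', hU', rfl⟩ := hX'
  have := maxCL_ne_sup hY hU hU' (fun e => hne (by rw [e]))
  rw [← this]; exact (centralizer_sup U U').symm

theorem atom_card_sup (hY : IsCentrallyLarge Y) (hX : IsAtom' Y X) (hX' : IsAtom' Y X') (hne : X ≠ X') :
    ((X ⊔ X' : Subgroup P) : Set P) = (X : Set P) * (X' : Set P) ∧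
      Nat.card ↥(X ⊔ X') * Nat.card ↥(cz Y) = Nat.card ↥X * Nat.card ↥X' ∧
      IsCentralizerLarge (X ⊔ X') ∧ cz (X ⊔ X') = cz X ⊓ cz X' := by
  obtain ⟨h1, -, h3, -⟩ := cd (atom_facts hY hX).1 (atom_facts hY hX').1
  refine ⟨h3, ?_, h1, centralizer_sup X X'⟩
  have := card_mul_card_inf X X'
  rwa [← h3, atom_inf hY hX hX' hne] at this

/-- A centralizer-large abelian complement to an atom inside a line is an atom. -/
theorem isAtom_of_line (hY : IsCentrallyLarge Y) (hX : IsAtom' Y X) (hX' : IsAtom' Y X') (hne : X ≠ X')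
    (hcard : Nat.card ↥X = Nat.card ↥X')
    {T : Subgroup P} (hT : IsCentralizerLarge T) (hTO : T ≤ X ⊔ X') (hTab : T ≤ cz T) (hYT : cz Y ≤ T)
    (hTcard : Nat.card ↥T = Nat.card ↥X) (hTX' : T ⊓ X' ≤ cz Y) : IsAtom' Y T := by
  obtain ⟨hYL, -⟩ := centrallyLarge_iff.mp hY
  obtain ⟨hXL, hXlt, hXY, hXab, hUm⟩ := atom_facts hY hX
  obtain ⟨hX'L, hX'lt, hX'Y, hX'ab, hU'm⟩ := atom_facts hY hX'
  obtain ⟨-, hOcard, -, -⟩ := atom_card_sup hY hX hX' hne
  obtain ⟨hTL, hTT⟩ := cz_large hT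
  have hCL : IsCentrallyLarge (cz T) := centrallyLarge_iff.mpr ⟨hTL, by rw [hTT]; exact hTab⟩
  have hTY : cz T ≤ Y := by
    rw [← (cz_large hYL).2]; exact cz_anti hYT
  have hTne : cz Y ≠ T := by
    intro e
    have : Nat.card ↥(cz Y) < Nat.card ↥X := Set.ncard_lt_ncard hXlt (Set.toFinite _) |> fun h => by
      simpa [← Nat.card_coe_set_eq] using h
    rw [e, hTcard] at this; exact lt_irrefl _ this
  refine ⟨cz T, ⟨hCL, lt_of_le_of_ne hTY fun e => hTne (by rw [← hTT, e]), ?_⟩, hTT⟩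
  intro V hV hlt hVY
  obtain ⟨hVL, hVC⟩ := centrallyLarge_iff.mp hV
  set W := cz V with hW
  have hWL : IsCentralizerLarge W := (cz_large hVL).1
  have hWT : W ≤ T := hTT ▸ cz_anti hlt.le
  have hYW : cz Y ≤ W := cz_anti hVY.le
  have hWY : W ≠ cz Y := fun e => hVY.ne (cz_inj hV hY e)
  have hWTne : W ≠ T := fun e => hlt.ne' (cz_inj hV hCL (by rw [← hW, e, hTT]))
  set K := (W ⊔ X') ⊓ X with hK
  have hKL : IsCentralizerLarge K := (cd (cd hWL hX'L).1 hXL).2.1
  have hKK := cz_large hKL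
  have hKCL : IsCentrallyLarge (cz K) :=
    centrallyLarge_iff.mpr ⟨hKK.1, by
      rw [hKK.2]; exact (inf_le_right.trans hXab).trans (cz_anti inf_le_right)⟩
  have hKY : cz K ≤ Y := by
    rw [← (cz_large hYL).2]; exact cz_anti (le_inf (hYW.trans le_sup_left) hXlt.le)
  have hcases : K = X ∨ K = cz Y := by
    rcases eq_or_lt_of_le (cz_anti (inf_le_right : K ≤ X)) with e | hlt'
    · left
      rw [← hKK.2, ← e, (cz_large hXL).2]
    · right
      rcases eq_or_lt_of_le hKY with e | h'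
      · rw [← hKK.2, e]
      · exact absurd h' (hUm.2.2 _ hKCL hlt')
  have hcapW : W ⊓ X' = cz Y := le_antisymm ((inf_le_inf_right _ hWT).trans hTX') (le_inf hYW hX'lt.le)
  have hWX' := (cd hWL hX'L).2.2.1
  have hc := card_mul_card_inf W X'
  rw [← hWX', hcapW] at hc
  rcases hcases with e | e
  · -- then `W ⊔ X'` is the whole line, so `W = T`
    apply hWTne
    refine Subgroup.eq_of_le_of_card_ge hWT ?_
    rw [hTcard]
    have hle : X ⊔ X' ≤ W ⊔ X' := sup_le (e ▸ inf_le_left) le_sup_right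
    refine Nat.le_of_mul_le_mul_right (c := Nat.card ↥X') ?_ Nat.card_pos
    calc Nat.card ↥X * Nat.card ↥X' = Nat.card ↥(X ⊔ X') * Nat.card ↥(cz Y) := hOcard.symm
      _ ≤ Nat.card ↥(W ⊔ X') * Nat.card ↥(cz Y) :=
        Nat.mul_le_mul_right _ (Subgroup.card_le_of_le hle)
      _ = _ := hc
  · -- then `W ≤ X'`
    apply hWY
    have h1 := card_mul_le_card_sup_mul_card_inf (W ⊔ X') X
    rw [← hK, e] at h1
    have h2 : W ⊔ X' ⊔ X ≤ X ⊔ X' := sup_le (sup_le (hWT.trans hTO) le_sup_right) le_sup_left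
    have h3 : Nat.card ↥(W ⊔ X') ≤ Nat.card ↥X' := by
      refine Nat.le_of_mul_le_mul_right (c := Nat.card ↥X) ?_ Nat.card_pos
      calc _ ≤ Nat.card ↥(W ⊔ X' ⊔ X) * Nat.card ↥(cz Y) := h1
        _ ≤ Nat.card ↥(X ⊔ X') * Nat.card ↥(cz Y) := Nat.mul_le_mul_right _ (Subgroup.card_le_of_le h2)
        _ = Nat.card ↥X' * Nat.card ↥X := by rw [hOcard, mul_comm]
    have h4 : X' = W ⊔ X' := Subgroup.eq_of_le_of_card_ge le_sup_right h3
    rw [← hcapW]
    exact (inf_eq_left.mpr (h4 ▸ le_sup_left)).symm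

end line

theorem card_le_card_range_mul {α β : Type*} [Finite α] (f : α → β) (s : Set α) {k : ℕ}
    (h : ∀ b, (s ∩ f ⁻¹' {b}).ncard ≤ k) : s.ncard ≤ (f '' s).ncard * k := by
  classical
  have : Fintype α := Fintype.ofFinite α
  rw [Set.ncard_eq_toFinset_card' s, Set.ncard_eq_toFinset_card' (f '' s), mul_comm]
  refine Finset.card_le_mul_card_image_of_maps_to (f := f) (fun a ha => ?_) k fun b _ => ?_
  · rw [Set.mem_toFinset] at ha ⊢; exact ⟨a, ha, rfl⟩
  · refine le_trans (le_of_eq ?_) (h b)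
    rw [← Set.ncard_coe_finset]
    congr 1
    ext a; simp

/-- The witness attached to a generator. -/
structure IsWitness (Y S : Subgroup P) (g : P) : Prop where
  le : S ≤ Y
  cz_le : cz S ≤ S
  cz_fix : ∀ c ∈ cz S, ⁅g, c⁆ ∈ cz Y
  fix : ∀ s ∈ S, ∀ V : Subgroup P, IsCentrallyLarge V → V ≤ Y →
    ⁅g, s⁆ ∈ V ∧ ⁅g⁻¹, s⁆ ∈ V
  sup_cl : ∀ V : Subgroup P, IsCentrallyLarge V → V ≤ Y → IsCentrallyLarge (V ⊔ S) ∧
    ((V ⊔ S : Subgroup P) : Set P) = (V : Set P) * (S : Set P) ∧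
    ∀ x ∈ V ⊔ S, x ∈ cz (V ⊓ S) → x ∈ (cz V : Set P) * (cz S : Set P)

theorem cj_eq_of_fix {g : P} {T : Subgroup P} (h : ∀ c ∈ T, ⁅g, c⁆ ∈ T) : cj g T = T := by
  refine Subgroup.eq_of_le_of_card_ge ?_ (card_conj g T).ge
  rintro _ ⟨c, hc, rfl⟩
  have : g * c * g⁻¹ = ⁅g, c⁆ * c := by rw [commutatorElement_def]; group
  show g * c * g⁻¹ ∈ T
  rw [this]; exact T.mul_mem (h c hc) hc

/-- A moved atom `X` lies on a line with a third atom; the line is invariant. -/
theorem exists_third (hY : IsCentrallyLarge Y) {X : Subgroup P} (hX : IsAtom' Y X) {g : P}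
    (hgY : cj g Y = Y) {S : Subgroup P} (hS : IsWitness Y S g) (hmove : cj g X ≠ X) :
    IsAtom' Y (cj g X) ∧ ∃ X'' : Subgroup P, IsAtom' Y X'' ∧ X'' ≠ X ∧ X'' ≠ cj g X ∧
      X'' ≤ X ⊔ cj g X ∧ cj g (X ⊔ cj g X) = X ⊔ cj g X := by
  obtain ⟨U, hU, rfl⟩ := hX
  set X := cz U with hXdef
  set U' := cj g U with hU'def
  set X' := cj g X with hX'def
  have hX'eq : cz U' = X' := cz_cj g U
  have hU' : IsMaxCL Y U' := maxCL_cj g hgY hU
  have hXat : IsAtom' Y X := ⟨U, hU, rfl⟩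
  have hX'at : IsAtom' Y X' := ⟨U', hU', hX'eq⟩
  refine ⟨hX'at, ?_⟩
  obtain ⟨hXL, hXlt, hXY, -, -⟩ := atom_facts hY hXat
  obtain ⟨hX'L, hX'lt, hX'Y, -, -⟩ := atom_facts hY hX'at
  obtain ⟨hOset, hOcard, hOL, hOcz⟩ := atom_card_sup hY hXat hX'at (Ne.symm hmove)
  set O := X ⊔ X' with hOdef
  obtain ⟨hUL, hUC⟩ := centrallyLarge_iff.mp hU.1
  obtain ⟨hYL, hYC⟩ := centrallyLarge_iff.mp hY
  have hUU : cz X = U := (cz_large hUL).2
  have hU'U : cz X' = U' := by rw [← hX'eq]; exact (cz_large (centrallyLarge_iff.mp hU'.1).1).2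
  have hSU : ¬ S ≤ U := by
    intro hle
    refine hmove (cj_eq_of_fix fun c hc => hXlt.le (hS.cz_fix c ?_))
    exact cz_anti hle hc
  have hinf : U ⊓ S = U' ⊓ S := by
    apply le_antisymm
    · intro s hs
      refine ⟨?_, hs.2⟩
      have h1 : ⁅g, s⁆ ∈ U' := (hS.fix s hs.2 U' hU'.1 hU'.2.1.le).1
      have h2 : g * s * g⁻¹ ∈ U' := mem_cj hs.1
      have e : s = ⁅g, s⁆⁻¹ * (g * s * g⁻¹) := by rw [commutatorElement_def]; group
      show s ∈ U'
      rw [e]; exact U'.mul_mem (U'.inv_mem h1) h2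
    · intro s hs
      refine ⟨?_, hs.2⟩
      have h1 : ⁅g⁻¹, s⁆ ∈ U := (hS.fix s hs.2 U hU.1 hU.2.1.le).2
      have h2 : g⁻¹ * s * g ∈ U := mem_conj_iff.mp hs.1
      have e : s = ⁅g⁻¹, s⁆⁻¹ * (g⁻¹ * s * g) := by rw [commutatorElement_def]; group
      show s ∈ U
      rw [e]; exact U.mul_mem (U.inv_mem h1) h2
  have hSU' : ¬ S ≤ U' := by
    intro hle
    refine hSU fun s hs => ?_
    have : s ∈ U ⊓ S := hinf ▸ ⟨hle hs, hs⟩
    exact this.1
  obtain ⟨hcl, hUSset, hcz⟩ := hS.sup_cl U hU.1 hU.2.1.le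
  have hUS : U ⊔ S = Y := maxCL_sup hY hU hcl hS.le hSU
  have hU'S : U' ⊔ S = Y := maxCL_sup hY hU' (hS.sup_cl U' hU'.1 hU'.2.1.le).1 hS.le hSU'
  set X'' := cz S ⊓ O with hX''def
  have hYX'' : cz Y ≤ X'' := le_inf (cz_anti hS.le) (hXlt.le.trans le_sup_left)
  have hcapX : X'' ⊓ X = cz Y := by
    refine le_antisymm ?_ (le_inf hYX'' hXlt.le)
    rw [← hUS, hXdef]
    exact le_trans (le_inf inf_le_right (inf_le_left.trans inf_le_left)) (centralizer_sup U S).ge
  have hcapX' : X'' ⊓ X' = cz Y := by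
    refine le_antisymm ?_ (le_inf hYX'' hX'lt.le)
    rw [← hU'S, ← hX'eq]
    exact le_trans (le_inf inf_le_right (inf_le_left.trans inf_le_left)) (centralizer_sup U' S).ge
  have hset' : (O : Set P) ⊆ (X : Set P) * (X'' : Set P) := by
    intro o ho
    rw [hOset] at ho
    obtain ⟨x, hx, x', hx', rfl⟩ := ho
    have h1 : x' ∈ U ⊔ S := hUS ▸ hX'Y hx'
    have h2 : x' ∈ cz (U ⊓ S) := by
      rw [hinf]; exact cz_anti inf_le_left (hX'eq.symm ▸ hx')
    obtain ⟨a, ha, c, hc, rfl⟩ := hcz x' h1 h2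
    refine ⟨x * a, X.mul_mem hx ha, c, ⟨hc, ?_⟩, mul_assoc x a c⟩
    have h3 : a * c ∈ O := Subgroup.mem_sup_right hx'
    simpa using O.mul_mem (O.inv_mem (Subgroup.mem_sup_left ha)) h3
  have hcardX' : Nat.card ↥X' = Nat.card ↥X := card_conj g X
  have hsetEq : (X : Set P) * (X'' : Set P) = (O : Set P) := by
    refine Set.Subset.antisymm ?_ hset'
    rintro _ ⟨a, ha, c, hc, rfl⟩
    exact O.mul_mem (Subgroup.mem_sup_left ha) hc.2
  have hX''card : Nat.card ↥X'' = Nat.card ↥X := by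
    have h1 := card_mul_card_inf X X''
    rw [hsetEq, inf_comm, hcapX] at h1
    refine Nat.eq_of_mul_eq_mul_left (Nat.card_pos (α := X)) ?_
    exact (h1.symm.trans hOcard).trans (by rw [hcardX'])
  -- `X''` is centralizer-large
  set T := (U ⊓ U') ⊔ S with hTdef
  have hczO : cz (U ⊓ U') = O := by
    rw [(cd hUL (centrallyLarge_iff.mp hU'.1).1).2.2.2, hX'eq, hOdef]
  have hTcz : cz T = X'' := by
    rw [hTdef, cz, centralizer_sup]
    show cz (U ⊓ U') ⊓ cz S = X''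
    rw [hczO, inf_comm]
  have hTcap : (U ⊓ U') ⊓ S = U ⊓ S := by
    refine le_antisymm (inf_le_inf_right _ inf_le_left) (le_inf (le_inf inf_le_left ?_) inf_le_right)
    rw [hinf]; exact inf_le_left
  have hX''L : IsCentralizerLarge X'' := by
    have hT : IsCentralizerLarge T := by
      refine eq_of_le_mC ?_
      rw [mC, hTcz, hX''card]
      have h1 := card_mul_le_card_sup_mul_card_inf (U ⊓ U') S
      rw [← hTdef, hTcap] at h1
      have h2 := card_mul_card_inf U S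
      rw [← hUSset, hUS] at h2
      have hY2 : Nat.card ↥Y * Nat.card ↥(cz Y) = maxCentralizerProduct P := hYL
      have hU2 : Nat.card ↥U * Nat.card ↥X = maxCentralizerProduct P := hUL
      have hG2 : Nat.card ↥(U ⊓ U') * Nat.card ↥O = maxCentralizerProduct P := by
        rw [← hczO]; exact (cd hUL (centrallyLarge_iff.mp hU'.1).1).2.1
      set f := maxCentralizerProduct P
      set u := Nat.card ↥U
      set x := Nat.card ↥X
      set o := Nat.card ↥O
      set z := Nat.card ↥(cz Y)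
      set y := Nat.card ↥Y
      set s := Nat.card ↥S
      set i := Nat.card ↥(U ⊓ S)
      set t := Nat.card ↥T
      set gg := Nat.card ↥(U ⊓ U')
      change gg * s ≤ t * i at h1
      change (Nat.card ↥(Y : Set P)) * i = u * s at h2
      have h2' : y * i = u * s := h2
      have hoz : o * z = x * x := by rw [hOcard, hcardX']
      have hi : 0 < i := Nat.card_pos
      have hu : 0 < u := Nat.card_pos
      have hxp : 0 < x := Nat.card_pos
      refine Nat.le_of_mul_le_mul_right (c := i * u * x) ?_ (Nat.mul_pos (Nat.mul_pos hi hu) hxp)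
      refine Nat.le_of_mul_le_mul_right (c := o * z) ?_ (Nat.mul_pos Nat.card_pos Nat.card_pos)
      calc f * (i * u * x) * (o * z) = f * (i * u * x) * (x * x) := by rw [hoz]
        _ = f * f * i * (x * x) := by rw [← hU2]; ring
        _ = (gg * o) * (y * z) * i * (x * x) := by rw [hY2, hG2]
        _ = gg * (y * i) * ((o * z) * (x * x)) := by ring
        _ = (gg * s) * (u * ((o * z) * (x * x))) := by rw [h2']; ring
        _ ≤ (t * i) * (u * ((o * z) * (x * x))) := Nat.mul_le_mul_right _ h1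
        _ = _ := by ring
    exact hTcz ▸ (cz_large hT).1
  have hab : X'' ≤ cz X'' := inf_le_left.trans ((cz_anti hS.cz_le).trans (cz_anti inf_le_left))
  have hat : IsAtom' Y X'' := isAtom_of_line hY hXat hX'at (Ne.symm hmove) hcardX'.symm hX''L
    inf_le_right hab hYX'' hX''card hcapX'.le
  have hne1 : X'' ≠ X := fun e => hXlt.ne (by rw [← hcapX, e, inf_idem])
  have hne2 : X'' ≠ X' := fun e => hX'lt.ne (by rw [← hcapX', e, inf_idem])
  refine ⟨X'', hat, hne1, hne2, inf_le_right, ?_⟩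
  have hfix : cj g X'' = X'' := cj_eq_of_fix fun c hc => hYX'' (hS.cz_fix c hc.1)
  have hOX'' : X ⊔ X'' = O := by
    refine le_antisymm (sup_le le_sup_left inf_le_right) fun o ho => ?_
    obtain ⟨a, ha, c, hc, rfl⟩ := hset' ho
    exact Subgroup.mul_mem_sup ha hc
  refine Subgroup.eq_of_le_of_card_ge ?_ (card_conj g _).ge
  conv_lhs => rw [← hOX'']
  rw [cj_sup, hfix]
  exact sup_le le_sup_right inf_le_right

/-- The atoms on an invariant line with at least three atoms have number congruent to one. -/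
theorem not_dvd_atoms_line {p : ℕ} [hp : Fact p.Prime] (hP : IsPGroup p P) (hY : IsCentrallyLarge Y)
    {X X' X'' : Subgroup P} (hX : IsAtom' Y X) (hX' : IsAtom' Y X') (hX'' : IsAtom' Y X'')
    (h1 : X ≠ X') (h2 : X'' ≠ X) (h3 : X'' ≠ X') (hle : X'' ≤ X ⊔ X')
    (hXX' : Nat.card ↥X = Nat.card ↥X') :
    ¬ p ∣ Nat.card {T : Subgroup P // IsAtom' Y T ∧ T ≤ X ⊔ X' ∧ Nat.card ↥T = Nat.card ↥X} := by
  classical
  obtain ⟨hYL, hYC⟩ := centrallyLarge_iff.mp hY
  obtain ⟨hXL, hXlt, hXY, hXab, hUm⟩ := atom_facts hY hX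
  obtain ⟨hX'L, hX'lt, hX'Y, hX'ab, hU'm⟩ := atom_facts hY hX'
  obtain ⟨hOset, hOcard, -, -⟩ := atom_card_sup hY hX hX' h1
  set O := X ⊔ X' with hOdef
  have hOY : O ≤ Y := sup_le hXY hX'Y
  -- `cz Y` is central in `Y`
  have hcen : ∀ z ∈ cz Y, ∀ y ∈ Y, Commute z y := fun z hz y hy =>
    (Subgroup.mem_centralizer_iff.mp hz y hy).symm
  have hXn : ∀ {X : Subgroup P}, IsAtom' Y X → ∀ y ∈ Y, ∀ x ∈ X, y * x * y⁻¹ ∈ X := by
    rintro X ⟨U, hU, rfl⟩ y hy x hx
    exact (Subgroup.mem_normalizer_iff.mp (le_cz_normalizer (maxCL_normal hP hY hU hy)) x).mp hx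
  have hXX'c : ∀ x ∈ X, ∀ x' ∈ X', ⁅x, x'⁆ ∈ cz Y := by
    intro x hx x' hx'
    rw [← atom_inf hY hX hX' h1]
    constructor
    · have e : ⁅x, x'⁆ = x * (x' * x⁻¹ * x'⁻¹) := by rw [commutatorElement_def]; group
      rw [e]; exact X.mul_mem hx (hXn hX x' (hX'Y hx') _ (X.inv_mem hx))
    · exact X'.mul_mem (hXn hX' x (hXY hx) _ hx') (X'.inv_mem hx')
  have hOc : ∀ a ∈ O, ∀ b ∈ O, ⁅a, b⁆ ∈ cz Y := by
    intro a ha b hb
    have ha' : a ∈ (X : Set P) * (X' : Set P) := hOset ▸ ha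
    have hb' : b ∈ (X : Set P) * (X' : Set P) := hOset ▸ hb
    obtain ⟨x, hx, x', hx', rfl⟩ := ha'
    obtain ⟨u, hu, u', hu', rfl⟩ := hb'
    have k1 : ∀ c ∈ X', ⁅c, u * u'⁆ ∈ cz Y := by
      intro c hc
      have e1 : ⁅c, u'⁆ = 1 := commutatorElement_eq_one_iff_commute.mpr
        (Subgroup.mem_centralizer_iff.mp (hX'ab hu') c hc)
      rw [comm_mul_right (by rw [e1]; exact Commute.one_left _), e1, mul_one, ← commutatorElement_inv]
      exact (cz Y).inv_mem (hXX'c u hu c hc)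
    have k2 : ⁅x, u * u'⁆ ∈ cz Y := by
      have e1 : ⁅x, u⁆ = 1 := commutatorElement_eq_one_iff_commute.mpr
        (Subgroup.mem_centralizer_iff.mp (hXab hu) x hx)
      rw [comm_mul_right (hcen _ (hXX'c x hx u' hu') u (hXY hu)), e1, one_mul]
      exact hXX'c x hx u' hu'
    show ⁅x * x', u * u'⁆ ∈ cz Y
    rw [comm_mul_left (hcen _ (k1 x' hx') x (hXY hx))]
    exact (cz Y).mul_mem (k1 x' hx') k2
  -- elements of the line commute modulo `cz Y`
  have hswap : ∀ a ∈ O, ∀ b ∈ O, ∃ z ∈ cz Y, a * b = z * (b * a) := fun a ha b hb =>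
    ⟨⁅a, b⁆, hOc a ha b hb, by rw [commutatorElement_def]; group⟩
  -- unique decompositions for atoms other than `X'`
  let α := {T : Subgroup P // (IsAtom' Y T ∧ T ≤ O ∧ Nat.card ↥T = Nat.card ↥X) ∧ T ≠ X'}
  have hdec : ∀ T : α, ∀ x ∈ X, ∃ a ∈ X', x * a ∈ T.1 := by
    intro T x hx
    obtain ⟨⟨hT, hTO, hTc⟩, hTne⟩ := T.2
    obtain ⟨hs, hc, -, -⟩ := atom_card_sup hY hT hX' hTne
    have he : T.1 ⊔ X' = O := by
      refine Subgroup.eq_of_le_of_card_ge (sup_le hTO le_sup_right) ?_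
      refine Nat.le_of_mul_le_mul_right (c := Nat.card ↥(cz Y)) ?_ Nat.card_pos
      rw [hc, hTc, hOcard]
    have hx' : x ∈ (T.1 : Set P) * (X' : Set P) := hs ▸ (show x ∈ T.1 ⊔ X' by rw [he]; exact Subgroup.mem_sup_left hx)
    obtain ⟨t, ht, a, ha, rfl⟩ := hx'
    exact ⟨a⁻¹, X'.inv_mem ha, by simpa using ht⟩
  have huniq : ∀ T : α, ∀ x ∈ X, ∀ a ∈ X', ∀ a' ∈ X', x * a ∈ T.1 → x * a' ∈ T.1 → a⁻¹ * a' ∈ cz Y := by
    intro T x hx a ha a' ha' h h'
    rw [← atom_inf hY T.2.1.1 hX' T.2.2]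
    refine ⟨?_, X'.mul_mem (X'.inv_mem ha) ha'⟩
    have e : a⁻¹ * a' = (x * a)⁻¹ * (x * a') := by group
    rw [e]; exact T.1.mul_mem (T.1.inv_mem h) h'
  have hbot : ∀ T : α, cz Y ≤ T.1 := fun T => (atom_facts hY T.2.1.1).2.1.le
  let D : α := ⟨X'', ⟨hX'', hle, ?_⟩, h3⟩
  case refine_1 =>
    obtain ⟨hs, hc, -, -⟩ := atom_card_sup hY hX'' hX h2
    obtain ⟨hs', hc', -, -⟩ := atom_card_sup hY hX'' hX' h3
    refine le_antisymm ?_ ?_
    · refine Nat.le_of_mul_le_mul_right (c := Nat.card ↥X') ?_ Nat.card_pos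
      rw [← hc', ← hOcard]
      exact Nat.mul_le_mul_right _ (Subgroup.card_le_of_le (sup_le hle le_sup_right))
    · -- `X''` covers `X` modulo `X'`
      refine Nat.le_of_mul_le_mul_right (c := Nat.card ↥X') ?_ Nat.card_pos
      rw [← hc', ← hOcard]
      refine Nat.mul_le_mul_right _ (Subgroup.card_le_of_le ?_)
      -- the join is a centralizer-large subgroup between `X'` and the line
      set K := (X'' ⊔ X') ⊓ X with hK
      obtain ⟨hX''L, hX''lt, -, -, -⟩ := atom_facts hY hX''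
      have hKL : IsCentralizerLarge K := (cd (cd hX''L hX'L).1 hXL).2.1
      have hKK := cz_large hKL
      have hKCL : IsCentrallyLarge (cz K) :=
        centrallyLarge_iff.mpr ⟨hKK.1, by
          rw [hKK.2]; exact (inf_le_right.trans hXab).trans (cz_anti inf_le_right)⟩
      have hKY : cz K ≤ Y := by
        rw [← (cz_large hYL).2]
        exact cz_anti (le_inf (hX'lt.le.trans le_sup_right) hXlt.le)
      rcases eq_or_lt_of_le (cz_anti (inf_le_right : K ≤ X)) with e | hlt'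
      · have : K = X := by rw [← hKK.2, ← e, (cz_large hXL).2]
        exact sup_le (this ▸ inf_le_left) le_sup_right
      · rcases eq_or_lt_of_le hKY with e | h'
        · exfalso
          have hKe : K = cz Y := by rw [← hKK.2, e]
          apply h3
          have h5 := card_mul_le_card_sup_mul_card_inf (X'' ⊔ X') X
          rw [← hK, hKe] at h5
          have h6 : Nat.card ↥(X'' ⊔ X') ≤ Nat.card ↥X' := by
            refine Nat.le_of_mul_le_mul_right (c := Nat.card ↥X) ?_ Nat.card_pos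
            refine h5.trans ?_
            rw [mul_comm (Nat.card ↥X'), ← hOcard]
            exact Nat.mul_le_mul_right _
              (Subgroup.card_le_of_le (sup_le (sup_le hle le_sup_right) le_sup_left))
          have h7 : X' = X'' ⊔ X' := Subgroup.eq_of_le_of_card_ge le_sup_right h6
          have h8 : X'' ≤ X' := h7 ▸ le_sup_left
          exact absurd ((inf_eq_left.mpr h8).symm.trans (atom_inf hY hX'' hX' h3)) hX''lt.ne'
        · exact absurd h' (hUm.2.2 _ hKCL hlt')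
  -- translation
  let body : α → ℕ → Set P := fun T k => {g | ∃ x ∈ X, ∃ a ∈ X', ∃ b ∈ X', ∃ z ∈ cz Y,
    x * a ∈ T.1 ∧ x * b ∈ X'' ∧ g = x * a * b ^ k * z}
  have hmul : ∀ T k g h, g ∈ body T k → h ∈ body T k → g * h ∈ body T k := by
    rintro T k _ _ ⟨x, hx, a, ha, b, hb, z, hz, h1, h2, rfl⟩ ⟨u, hu, c, hc, d, hd, w, hw, h3, h4, rfl⟩
    have hcomm' : ∀ s ∈ X', ∀ t ∈ X', Commute s t := fun s hs t ht =>
      (Subgroup.mem_centralizer_iff.mp (hX'ab hs) t ht).symm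
    obtain ⟨z1, hz1, e1⟩ := hswap (a * b ^ k) (Subgroup.mem_sup_right (X'.mul_mem ha (X'.pow_mem hb k)))
      u (Subgroup.mem_sup_left hu)
    obtain ⟨z2, hz2, e2⟩ := hswap a (Subgroup.mem_sup_right ha) u (Subgroup.mem_sup_left hu)
    obtain ⟨z3, hz3, e3⟩ := hswap b (Subgroup.mem_sup_right hb) u (Subgroup.mem_sup_left hu)
    have hxu : x * u ∈ X := X.mul_mem hx hu
    have hbpow : (b * d) ^ k = b ^ k * d ^ k := (hcomm' b hb d hd).mul_pow k
    refine ⟨x * u, hxu, a * c, X'.mul_mem ha hc, b * d, X'.mul_mem hb hd, z1 * z * w,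
      (cz Y).mul_mem ((cz Y).mul_mem hz1 hz) hw, ?_, ?_, ?_⟩
    · have e : x * u * (a * c) = z2⁻¹ * (x * a * (u * c)) := by
        calc x * u * (a * c) = x * (z2⁻¹ * (z2 * (u * a))) * c := by group
          _ = x * (z2⁻¹ * (a * u)) * c := by rw [← e2]
          _ = (x * z2⁻¹) * (a * u) * c := by group
          _ = (z2⁻¹ * x) * (a * u) * c := by
            rw [(hcen _ ((cz Y).inv_mem hz2) x (hXY hx)).eq]
          _ = _ := by group
      rw [e]; exact T.1.mul_mem (T.1.inv_mem (hbot T hz2)) (T.1.mul_mem h1 h3)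
    · have e : x * u * (b * d) = z3⁻¹ * (x * b * (u * d)) := by
        calc x * u * (b * d) = x * (z3⁻¹ * (z3 * (u * b))) * d := by group
          _ = x * (z3⁻¹ * (b * u)) * d := by rw [← e3]
          _ = (x * z3⁻¹) * (b * u) * d := by group
          _ = (z3⁻¹ * x) * (b * u) * d := by
            rw [(hcen _ ((cz Y).inv_mem hz3) x (hXY hx)).eq]
          _ = _ := by group
      rw [e]; exact X''.mul_mem (X''.inv_mem (hbot D hz3)) (X''.mul_mem h2 h4)
    · rw [hbpow]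
      have hcz : ∀ {q : P}, q ∈ cz Y → ∀ {y : P}, y ∈ Y → q * y = y * q :=
        fun hq y hy => (hcen _ hq y hy).eq
      have hR : u * c * d ^ k ∈ Y := Y.mul_mem (Y.mul_mem (hXY hu) (hX'Y hc)) (Y.pow_mem (hX'Y hd) k)
      have hac : b ^ k * c = c * b ^ k := ((hcomm' b hb c hc).pow_left k).eq
      have hW : x * u * (a * c) * (b ^ k * d ^ k) ∈ Y :=
        Y.mul_mem (Y.mul_mem (Y.mul_mem (hXY hx) (hXY hu)) (Y.mul_mem (hX'Y ha) (hX'Y hc)))
          (Y.mul_mem (Y.pow_mem (hX'Y hb) k) (Y.pow_mem (hX'Y hd) k))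
      calc x * a * b ^ k * z * (u * c * d ^ k * w)
          = x * a * b ^ k * (z * (u * c * d ^ k)) * w := by group
        _ = x * a * b ^ k * (u * c * d ^ k * z) * w := by rw [hcz hz hR]
        _ = x * ((a * b ^ k) * u) * (c * d ^ k) * z * w := by group
        _ = (x * z1) * (u * a * (b ^ k * c) * d ^ k * z * w) := by rw [e1]; group
        _ = (z1 * x) * (u * a * (b ^ k * c) * d ^ k * z * w) := by rw [hcz hz1 (hXY hx)]
        _ = (z1 * (x * u * (a * c) * (b ^ k * d ^ k))) * z * w := by rw [hac]; group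
        _ = _ := by rw [hcz hz1 hW]; group
  let body' : α → ℕ → Subgroup P := fun T k =>
    Subgroup.closure (body T k)
  have hbody : ∀ T k g, g ∈ body' T k ↔ g ∈ body T k := by
    intro T k g
    refine ⟨fun hg => ?_, fun hg => Subgroup.subset_closure hg⟩
    induction hg using Subgroup.closure_induction_left with
    | one => exact ⟨1, X.one_mem, 1, X'.one_mem, 1, X'.one_mem, 1, (cz Y).one_mem,
        by simp [T.1.one_mem], by simp [X''.one_mem], by simp⟩
    | mul_left x hx y _ hy => exact hmul T k x y hx hy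
    | inv_mul_cancel x hx y _ hy =>
      -- the inverse is a positive power
      have hpow : ∀ n : ℕ, x ^ n * y ∈ body T k := by
        intro n
        induction n with
        | zero => simpa using hy
        | succ n ih => rw [pow_succ', mul_assoc]; exact hmul T k _ _ hx ih
      have h0 : 1 ≤ orderOf x := orderOf_pos x
      have e : x⁻¹ = x ^ (orderOf x - 1) := by
        rw [inv_eq_iff_mul_eq_one, ← pow_succ', Nat.sub_add_cancel h0, pow_orderOf_eq_one]
      rw [e]; exact hpow _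
  have hbodyO : ∀ T k, body' T k ≤ O := by
    intro T k g hg
    obtain ⟨x, hx, a, ha, b, hb, z, hz, -, -, rfl⟩ := (hbody T k g).mp hg
    exact O.mul_mem (O.mul_mem (O.mul_mem (Subgroup.mem_sup_left hx) (Subgroup.mem_sup_right ha))
      (O.pow_mem (Subgroup.mem_sup_right hb) k)) (Subgroup.mem_sup_left (hXlt.le hz))
  -- the elementary pieces
  have hmem1 : ∀ T : α, ∀ x ∈ X, ∀ a ∈ X', ∀ b ∈ X', x * a ∈ T.1 → x * b ∈ X'' →
      x * a * b ∈ body' T 1 := fun T x hx a ha b hb h h' =>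
    (hbody T 1 _).mpr ⟨x, hx, a, ha, b, hb, 1, (cz Y).one_mem, h, h', by simp⟩
  have hab : ∀ T : α, body' T 1 ≤ cz (body' T 1) := by
    intro T g hg
    rw [Subgroup.mem_centralizer_iff]
    intro h hh
    obtain ⟨x, hx, a, ha, b, hb, z, hz, h1', h2', rfl⟩ := (hbody T 1 g).mp hg
    obtain ⟨u, hu, c, hc, d, hd, w, hw, h3', h4', rfl⟩ := (hbody T 1 h).mp hh
    have hxY := hXY hx
    have huY := hXY hu
    have haY := hX'Y ha
    have hbY := hX'Y hb
    have hcY := hX'Y hc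
    have hdY := hX'Y hd
    have one1 : ∀ s ∈ X, ∀ t ∈ X, ⁅s, t⁆ = 1 := fun s hs t ht =>
      commutatorElement_eq_one_iff_commute.mpr (Subgroup.mem_centralizer_iff.mp (hXab ht) s hs)
    have one2 : ∀ s ∈ X', ∀ t ∈ X', ⁅s, t⁆ = 1 := fun s hs t ht =>
      commutatorElement_eq_one_iff_commute.mpr (Subgroup.mem_centralizer_iff.mp (hX'ab ht) s hs)
    have key : ∀ p' ∈ X', ∀ q' ∈ X', ⁅x * p', u * q'⁆ = ⁅x, q'⁆ * ⁅p', u⁆ := by
      intro p' hp' q' hq'
      have i1 : ⁅p', u⁆ ∈ cz Y := hOc _ (Subgroup.mem_sup_right hp') _ (Subgroup.mem_sup_left hu)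
      have i2 : ⁅x, q'⁆ ∈ cz Y := hXX'c x hx q' hq'
      have e1 : ⁅p', u * q'⁆ = ⁅p', u⁆ := by
        rw [comm_mul_right (by rw [one2 _ hp' _ hq']; exact Commute.one_left _), one2 _ hp' _ hq', mul_one]
      have e2 : ⁅x, u * q'⁆ = ⁅x, q'⁆ := by
        rw [comm_mul_right (hcen _ i2 u huY), one1 _ hx _ hu, one_mul]
      rw [comm_mul_left (by rw [e1]; exact hcen _ i1 x hxY), e1, e2]
      exact (hcen _ i1 _ (hYC i2)).eq
    have t1 : ⁅x * a, u * c⁆ = 1 := commutatorElement_eq_one_iff_commute.mpr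
      (Subgroup.mem_centralizer_iff.mp ((atom_facts hY T.2.1.1).2.2.2.1 h3') _ h1')
    have t2 : ⁅x * b, u * d⁆ = 1 := commutatorElement_eq_one_iff_commute.mpr
      (Subgroup.mem_centralizer_iff.mp ((atom_facts hY hX'').2.2.2.1 h4') _ h2')
    rw [key a ha c hc] at t1
    rw [key b hb d hd] at t2
    have main : ⁅x * (a * b), u * (c * d)⁆ = 1 := by
      rw [key _ (X'.mul_mem ha hb) _ (X'.mul_mem hc hd)]
      have hxd : ⁅x, d⁆ ∈ cz Y := hXX'c x hx d hd
      have hbu : ⁅b, u⁆ ∈ cz Y := hOc _ (Subgroup.mem_sup_right hb) _ (Subgroup.mem_sup_left hu)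
      rw [comm_mul_right (hcen _ hxd c hcY), comm_mul_left (hcen _ hbu a haY)]
      calc ⁅x, c⁆ * ⁅x, d⁆ * (⁅b, u⁆ * ⁅a, u⁆) = ⁅x, c⁆ * (⁅x, d⁆ * ⁅b, u⁆) * ⁅a, u⁆ := by group
        _ = 1 := by rw [t2, mul_one, t1]
    have hc0 : Commute (x * a * b) (u * c * d) := by
      simpa [mul_assoc] using commutatorElement_eq_one_iff_commute.mp main
    have hA : x * a * b ^ 1 ∈ Y := by rw [pow_one]; exact Y.mul_mem (Y.mul_mem hxY haY) hbY
    have hB : u * c * d ^ 1 ∈ Y := by rw [pow_one]; exact Y.mul_mem (Y.mul_mem huY hcY) hdY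
    have hfull : Commute (u * c * d ^ 1 * w) (x * a * b ^ 1 * z) := by
      refine Commute.mul_left ?_ (hcen w hw _ (Y.mul_mem hA (hYC hz)))
      refine Commute.mul_right ?_ (hcen z hz _ hB).symm
      simpa [pow_one] using hc0.symm
    exact hfull.eq
  have hYle : ∀ T, cz Y ≤ body' T 1 := fun T z hz =>
    (hbody T 1 z).mpr ⟨1, X.one_mem, 1, X'.one_mem, 1, X'.one_mem, z, hz,
      by simp [T.1.one_mem], by simp [X''.one_mem], by simp⟩
  have hcap : ∀ T, body' T 1 ⊓ X' ≤ cz Y := by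
    rintro T g ⟨hg, hg'⟩
    obtain ⟨x, hx, a, ha, b, hb, z, hz, hxa, hxb, rfl⟩ := (hbody T 1 g).mp hg
    have hx' : x ∈ cz Y := by
      rw [← atom_inf hY hX hX' h1]
      refine ⟨hx, ?_⟩
      have e : x = x * a * b ^ 1 * z * z⁻¹ * b⁻¹ * a⁻¹ := by group
      rw [e]
      exact X'.mul_mem (X'.mul_mem (X'.mul_mem hg' (X'.inv_mem (hX'lt.le hz))) (X'.inv_mem hb)) (X'.inv_mem ha)
    have ha' : a ∈ cz Y := by
      have := huniq T x hx 1 X'.one_mem a ha (by simpa using hbot T hx') hxa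
      simpa using this
    have hb' : b ∈ cz Y := by
      have := huniq D x hx 1 X'.one_mem b hb (by simpa [D] using hbot D hx') hxb
      simpa using this
    exact (cz Y).mul_mem ((cz Y).mul_mem ((cz Y).mul_mem hx' ha') ((cz Y).pow_mem hb' 1)) hz
  have hcard : ∀ T, Nat.card ↥(body' T 1) = Nat.card ↥X := by
    intro T
    have hc := card_mul_card_inf (body' T 1) X'
    have hset : ((body' T 1 : Subgroup P) : Set P) * (X' : Set P) = (O : Set P) := by
      refine Set.Subset.antisymm ?_ ?_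
      · rintro _ ⟨g, hg, a, ha, rfl⟩
        exact O.mul_mem (hbodyO T 1 hg) (Subgroup.mem_sup_right ha)
      · intro o ho
        rw [hOset] at ho
        obtain ⟨x, hx, x', hx', rfl⟩ := ho
        obtain ⟨a, ha, hxa⟩ := hdec T x hx
        obtain ⟨b, hb, hxb⟩ := hdec D x hx
        refine ⟨_, hmem1 T x hx a ha b hb hxa hxb, (a * b)⁻¹ * x', X'.mul_mem (X'.inv_mem (X'.mul_mem ha hb)) hx', ?_⟩
        show x * a * b * ((a * b)⁻¹ * x') = x * x'
        group
    rw [hset, le_antisymm (hcap T) (le_inf (hYle T) hX'lt.le)] at hc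
    refine Nat.eq_of_mul_eq_mul_right (Nat.card_pos (α := ↥X')) ?_
    rw [← hc, ← hOcard]
    rfl
  -- the commutator maps of the translate are those of `X`
  have hlarge : ∀ T, IsCentralizerLarge (body' T 1) := by
    intro T
    refine eq_of_le_mC ?_
    let E : P → (↥X → P) := fun y x => ⁅(x : P), y⁆
    set U := cz X with hUdef
    set U' := cz X' with hU'def
    have hUU' : U ⊔ U' = Y := maxCL_ne_sup hY hUm hU'm fun e => h1 (by
      rw [← (cz_large hXL).2, ← (cz_large hX'L).2, ← hUdef, ← hU'def, e])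
    have hUU'set : (Y : Set P) = (U : Set P) * (U' : Set P) := by
      rw [← hUU']
      exact (cd (centrallyLarge_iff.mp hUm.1).1 (centrallyLarge_iff.mp hU'm.1).1).2.2.1
    have hUn : ∀ y ∈ Y, ∀ u ∈ U, y * u * y⁻¹ ∈ U := fun y hy u hu =>
      (Subgroup.mem_normalizer_iff.mp (maxCL_normal hP hY hUm hy) u).mp hu
    have hEU : ∀ y ∈ Y, ∀ u ∈ U, E (y * u) = E y := by
      intro y hy u hu
      funext x
      have e1 : ⁅(x : P), u⁆ = 1 :=
        commutatorElement_eq_one_iff_commute.mpr (Subgroup.mem_centralizer_iff.mp hu _ x.2)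
      show ⁅(x : P), y * u⁆ = ⁅(x : P), y⁆
      rw [comm_mul_right (by rw [e1]; exact Commute.one_left _), e1, mul_one]
    have hEinj : ∀ y ∈ Y, ∀ y' ∈ Y, E y = E y' → y⁻¹ * y' ∈ U := by
      intro y hy y' hy' he
      rw [hUdef, Subgroup.mem_centralizer_iff]
      intro x hx
      have h0 : x * y * x⁻¹ * y⁻¹ = x * y' * x⁻¹ * y'⁻¹ := congrFun he ⟨x, hx⟩
      calc x * (y⁻¹ * y') = y⁻¹ * ((x * y * x⁻¹ * y⁻¹)⁻¹ * x) * y' := by group
        _ = y⁻¹ * ((x * y' * x⁻¹ * y'⁻¹)⁻¹ * x) * y' := by rw [h0]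
        _ = _ := by group
    -- every commutator map of an atom is one of `X`
    have hind : ∀ S : α, ∀ (t : ↥X → P), (∀ x : ↥X, ∃ a ∈ X', t x = (x : P) * a ∧ t x ∈ S.1) →
        ∀ y ∈ Y, ∃ y₀ ∈ Y, ∀ x : ↥X, ⁅t x, y⁆ = ⁅(x : P), y₀⁆ := by
      intro S t ht y hy
      obtain ⟨-, -, -, -, hVm⟩ := atom_facts hY S.2.1.1
      have hVV : cz S.1 ⊔ U' = Y := maxCL_ne_sup hY hVm hU'm fun e => S.2.2
          (((cz_large (atom_facts hY S.2.1.1).1).2.symm.trans (congrArg cz e)).trans (cz_large hX'L).2)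
      have hy' : y ∈ ((cz S.1 ⊔ U' : Subgroup P) : Set P) := hVV.symm ▸ hy
      rw [sup_comm, (cd (centrallyLarge_iff.mp hU'm.1).1 (centrallyLarge_iff.mp hVm.1).1).2.2.1] at hy'
      obtain ⟨u', hu', v, hv, rfl⟩ := hy'
      refine ⟨u', hU'm.2.1.le hu', fun x => ?_⟩
      obtain ⟨a, ha, hta, htS⟩ := ht x
      have e1 : ⁅t x, v⁆ = 1 :=
        commutatorElement_eq_one_iff_commute.mpr (Subgroup.mem_centralizer_iff.mp hv _ htS)
      rw [comm_mul_right (by rw [e1]; exact Commute.one_left _), e1, mul_one, hta]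
      have e2 : ⁅a, u'⁆ = 1 :=
        commutatorElement_eq_one_iff_commute.mpr (Subgroup.mem_centralizer_iff.mp hu' a ha)
      rw [comm_mul_left (by rw [e2]; exact Commute.one_left _), e2, one_mul]
    choose fa hfa hfat using fun x : ↥X => hdec T x x.2
    choose fb hfb hfbt using fun x : ↥X => hdec D x x.2
    let w : ↥X → P := fun x => (x : P) * fa x * fb x
    -- values in the centre
    have hmem : ∀ (x : ↥X), ∀ s ∈ Y, ⁅(x : P), s⁆ ∈ cz Y := by
      intro x s hs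
      have hs' : s ∈ (U : Set P) * (U' : Set P) := hUU'set ▸ hs
      obtain ⟨u, hu, u', hu', rfl⟩ := hs'
      have e1 : ⁅(x : P), u⁆ = 1 :=
        commutatorElement_eq_one_iff_commute.mpr (Subgroup.mem_centralizer_iff.mp hu _ x.2)
      have hu'Y : u' ∈ Y := hU'm.2.1.le hu'
      obtain ⟨b, hb, hxb⟩ := hdec D x x.2
      have hin : ⁅(x : P), u'⁆ ∈ cz Y := by
        rw [← atom_inf hY hX'' hX h2]
        refine ⟨?_, ?_⟩
        · have hbu : b * u' = u' * b := Subgroup.mem_centralizer_iff.mp hu' b hb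
          have e : ⁅(x : P), u'⁆ = ((x : P) * b) * (u' * ((x : P) * b)⁻¹ * u'⁻¹) := by
            rw [commutatorElement_def]
            calc (x : P) * u' * (x : P)⁻¹ * u'⁻¹ = x * (u' * b) * b⁻¹ * (x : P)⁻¹ * u'⁻¹ := by group
              _ = x * (b * u') * b⁻¹ * (x : P)⁻¹ * u'⁻¹ := by rw [hbu]
              _ = _ := by group
          rw [e]
          exact X''.mul_mem hxb (hXn hX'' u' hu'Y _ (X''.inv_mem hxb))
        · have e : ⁅(x : P), u'⁆ = x * (u' * (x : P)⁻¹ * u'⁻¹) := by rw [commutatorElement_def]; group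
          rw [e]; exact X.mul_mem x.2 (hXn hX u' hu'Y _ (X.inv_mem x.2))
      have e2 : ⁅(x : P), u * u'⁆ = ⁅(x : P), u⁆ * (u * ⁅(x : P), u'⁆ * u⁻¹) := by
        simp only [commutatorElement_def]; group
      rw [e2, e1, one_mul, ← (hcen _ hin u (hUm.2.1.le hu)).eq, mul_inv_cancel_right]
      exact hin
    have hlin : ∀ (x : ↥X), ∀ r ∈ Y, ∀ s ∈ Y, ⁅(x : P), r * s⁆ = ⁅(x : P), r⁆ * ⁅(x : P), s⁆ :=
      fun x r hr s hs => comm_mul_right (hcen _ (hmem x s hs) r hr)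
    have hF : ∀ y ∈ Y, ∃ y₀ ∈ Y, ∀ x : ↥X, ⁅w x, y⁆ = ⁅(x : P), y₀⁆ := by
      intro y hy
      obtain ⟨y₁, hy₁, e₁⟩ := hind T (fun x => (x : P) * fa x) (fun x => ⟨_, hfa x, rfl, hfat x⟩) y hy
      obtain ⟨y₂, hy₂, e₂⟩ := hind D (fun x => (x : P) * fb x) (fun x => ⟨_, hfb x, rfl, hfbt x⟩) y hy
      refine ⟨y₂ * y⁻¹ * y₁, Y.mul_mem (Y.mul_mem hy₂ (Y.inv_mem hy)) hy₁, fun x => ?_⟩
      have e2' : (x : P) * ⁅fb x, y⁆ * (x : P)⁻¹ = ⁅(x : P), y₂⁆ * ⁅(x : P), y⁆⁻¹ := by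
        rw [← e₂ x]; simp only [commutatorElement_def]; group
      have hq : ⁅(x : P), y₂⁆ * ⁅(x : P), y⁆⁻¹ ∈ cz Y :=
        (cz Y).mul_mem (hmem x y₂ hy₂) ((cz Y).inv_mem (hmem x y hy))
      have hB : ⁅fb x, y⁆ = ⁅(x : P), y₂⁆ * ⁅(x : P), y⁆⁻¹ := by
        calc ⁅fb x, y⁆ = (x : P)⁻¹ * ((x : P) * ⁅fb x, y⁆ * (x : P)⁻¹) * x := by group
          _ = _ := by rw [e2', mul_assoc, (hcen _ hq _ (hXY x.2)).eq, inv_mul_cancel_left]
      have k3 : ⁅fb x, y⁆ ∈ cz Y := hB ▸ hq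
      have hw : ⁅w x, y⁆ = ⁅fb x, y⁆ * ⁅(x : P), y₁⁆ := by
        rw [show w x = ((x : P) * fa x) * fb x from rfl,
          comm_mul_left (hcen _ k3 _ (Y.mul_mem (hXY x.2) (hX'Y (hfa x)))), e₁ x]
      rw [hw, hB]
      have hyinv : ⁅(x : P), y⁻¹⁆ = ⁅(x : P), y⁆⁻¹ := by
        have h0 := hlin x y hy y⁻¹ (Y.inv_mem hy)
        rw [mul_inv_cancel, commutatorElement_one_right] at h0
        exact (inv_eq_of_mul_eq_one_right h0.symm).symm
      rw [hlin x (y₂ * y⁻¹) (Y.mul_mem hy₂ (Y.inv_mem hy)) y₁ hy₁,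
        hlin x y₂ hy₂ y⁻¹ (Y.inv_mem hy), hyinv]
    -- counting
    have hcount : Nat.card ↥Y * Nat.card ↥U ≤ Nat.card ↥Y * Nat.card ↥(cz (body' T 1)) := by
      let F : P → (↥X → P) := fun y x => ⁅w x, y⁆
      have hle1 : (Y : Set P).ncard ≤ (F '' (Y : Set P)).ncard * Nat.card ↥(cz (body' T 1)) := by
        refine card_le_card_range_mul F _ fun b => ?_
        by_cases hne : ((Y : Set P) ∩ F ⁻¹' {b}).Nonempty
        · obtain ⟨y₀, hy₀, hb⟩ := hne
          calc ((Y : Set P) ∩ F ⁻¹' {b}).ncard ≤ ((fun c => y₀ * c) '' (cz (body' T 1) : Set P)).ncard := by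
                refine Set.ncard_le_ncard ?_ (Set.toFinite _)
                rintro y ⟨hy, hyb⟩
                refine ⟨y₀⁻¹ * y, ?_, by simp⟩
                show y₀⁻¹ * y ∈ cz (body' T 1)
                rw [Subgroup.mem_centralizer_iff]
                intro g hg
                obtain ⟨x, hx, a, ha, b', hb', z, hz, hxa, hxb, rfl⟩ := (hbody T 1 g).mp hg
                have hq1 := huniq T x hx a ha _ (hfa ⟨x, hx⟩) hxa (hfat ⟨x, hx⟩)
                have hq2 := huniq D x hx b' hb' _ (hfb ⟨x, hx⟩) hxb (hfbt ⟨x, hx⟩)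
                have hy0Y : y₀⁻¹ * y ∈ Y := Y.mul_mem (Y.inv_mem hy₀) hy
                have hF0 : F y₀ = F y := hb.trans hyb.symm
                have h0 : ⁅w ⟨x, hx⟩, y₀⁆ = ⁅w ⟨x, hx⟩, y⁆ := congrFun hF0 ⟨x, hx⟩
                have hwc : Commute (w ⟨x, hx⟩) (y₀⁻¹ * y) := by
                  set v := w ⟨x, hx⟩
                  rw [commutatorElement_def, commutatorElement_def] at h0
                  show v * (y₀⁻¹ * y) = y₀⁻¹ * y * v
                  calc v * (y₀⁻¹ * y) = y₀⁻¹ * ((v * y₀ * v⁻¹ * y₀⁻¹)⁻¹ * v) * y := by group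
                    _ = y₀⁻¹ * ((v * y * v⁻¹ * y⁻¹)⁻¹ * v) * y := by rw [h0]
                    _ = _ := by group
                have e : x * a * b' ^ 1 * z = w ⟨x, hx⟩ * ((fb ⟨x, hx⟩)⁻¹ * ((fa ⟨x, hx⟩)⁻¹ * a) * fb ⟨x, hx⟩ *
                    ((fb ⟨x, hx⟩)⁻¹ * b') * z) := by simp only [w]; group
                rw [e]
                refine ((Commute.mul_left hwc (hcen _ ?_ _ hy0Y))).eq
                refine (cz Y).mul_mem ((cz Y).mul_mem ?_ ?_) hz
                · have hq : (fa ⟨x, hx⟩)⁻¹ * a ∈ cz Y := by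
                    have := (cz Y).inv_mem hq1; simpa using this
                  rw [(hcen _ ((cz Y).inv_mem ((cz Y).inv_mem hq)) _ (Y.inv_mem (hX'Y (hfb ⟨x, hx⟩)))).symm.eq |> fun _ =>
                    (show (fb ⟨x, hx⟩)⁻¹ * ((fa ⟨x, hx⟩)⁻¹ * a) * fb ⟨x, hx⟩ = (fa ⟨x, hx⟩)⁻¹ * a by
                      rw [mul_assoc, (hcen _ hq _ (hX'Y (hfb ⟨x, hx⟩))).eq]; group)]
                  exact hq
                · have := (cz Y).inv_mem hq2; simpa using this
            _ ≤ _ := by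
              refine (Set.ncard_image_le (Set.toFinite _)).trans (le_of_eq ?_)
              rw [← Nat.card_coe_set_eq]; rfl
        · rw [Set.not_nonempty_iff_eq_empty.mp hne]; simp
      have hle2 : (F '' (Y : Set P)).ncard * Nat.card ↥U ≤ Nat.card ↥Y := by
        have hsub : F '' (Y : Set P) ⊆ E '' (Y : Set P) := by
          rintro _ ⟨y, hy, rfl⟩
          obtain ⟨y₀, hy₀, e⟩ := hF y hy
          exact ⟨y₀, hy₀, (funext e).symm⟩
        refine (Nat.mul_le_mul_right _ (Set.ncard_le_ncard hsub (Set.toFinite _))).trans ?_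
        have : ((E '' (Y : Set P)) ×ˢ (U : Set P)).ncard ≤ (Y : Set P).ncard := by
          refine Set.ncard_le_ncard_of_injOn
            (fun q => (if h : ∃ y ∈ Y, E y = q.1 then h.choose else 1) * q.2) ?_ ?_ (Set.toFinite _)
          · rintro ⟨q, u⟩ ⟨⟨y, hy, rfl⟩, hu⟩
            have h : ∃ y' ∈ Y, E y' = E y := ⟨y, hy, rfl⟩
            simp only [dif_pos h]
            exact Y.mul_mem h.choose_spec.1 (hUm.2.1.le hu)
          · rintro ⟨q, u⟩ ⟨⟨y, hy, rfl⟩, hu⟩ ⟨q', u'⟩ ⟨⟨y', hy', rfl⟩, hu'⟩ he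
            have h : ∃ v ∈ Y, E v = E y := ⟨y, hy, rfl⟩
            have h' : ∃ v ∈ Y, E v = E y' := ⟨y', hy', rfl⟩
            simp only [dif_pos h, dif_pos h'] at he
            have e0 : E y = E y' := by
              rw [← h.choose_spec.2, ← h'.choose_spec.2, ← hEU _ h.choose_spec.1 u hu,
                ← hEU _ h'.choose_spec.1 u' hu', he]
            have hch : h.choose = h'.choose := by
              congr 1; funext v; rw [e0]
            rw [hch] at he
            exact Prod.ext e0 (mul_left_cancel he)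
        rw [Set.ncard_prod] at this
        simpa [← Nat.card_coe_set_eq] using this
      calc Nat.card ↥Y * Nat.card ↥U ≤ (F '' (Y : Set P)).ncard * Nat.card ↥(cz (body' T 1)) * Nat.card ↥U := by
            refine Nat.mul_le_mul_right _ ?_
            rw [show Nat.card ↥Y = (Y : Set P).ncard from Nat.card_coe_set_eq _]
            exact hle1
        _ = (F '' (Y : Set P)).ncard * Nat.card ↥U * Nat.card ↥(cz (body' T 1)) := by ring
        _ ≤ _ := Nat.mul_le_mul_right _ hle2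
    have hU0 : Nat.card ↥X * Nat.card ↥U = maxCentralizerProduct P := hXL
    calc maxCentralizerProduct P = Nat.card ↥X * Nat.card ↥U := hU0.symm
      _ ≤ Nat.card ↥(body' T 1) * Nat.card ↥(cz (body' T 1)) := by
        rw [hcard T]; exact Nat.mul_le_mul_left _ (Nat.le_of_mul_le_mul_left hcount Nat.card_pos)
  have hne0 : ∀ T, body' T 1 ≠ X' := by
    intro T e
    have h0 : X' ≤ cz Y := by
      have := hcap T; rwa [e, inf_idem] at this
    exact hX'lt.not_ge h0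
  let τ : α → α := fun T => ⟨body' T 1, ⟨isAtom_of_line hY hX hX' h1 hXX' (hlarge T) (hbodyO T 1) (hab T)
    (hYle T) (hcard T) (hcap T), hbodyO T 1, hcard T⟩, hne0 T⟩
  -- iterates
  have hiter : ∀ (k : ℕ) (T : α), ((τ^[k]) T).1 = body' T k := by
    intro k
    induction k with
    | zero =>
      intro T
      ext g
      rw [hbody]
      constructor
      · intro hg
        have hgO : g ∈ (X : Set P) * (X' : Set P) := hOset ▸ T.2.1.2.1 hg
        obtain ⟨x, hx, a, ha, rfl⟩ := hgO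
        obtain ⟨b, hb, hxb⟩ := hdec D x hx
        exact ⟨x, hx, a, ha, b, hb, 1, (cz Y).one_mem, hg, hxb, by simp⟩
      · rintro ⟨x, hx, a, ha, b, hb, z, hz, hxa, -, rfl⟩
        simpa using T.1.mul_mem hxa (hbot T hz)
    | succ k ih =>
      intro T
      rw [Function.iterate_succ_apply']
      show body' ((τ^[k]) T) 1 = body' T (k + 1)
      ext g
      rw [hbody, hbody]
      constructor
      · rintro ⟨x, hx, a', ha', b', hb', z, hz, hxa', hxb', rfl⟩
        obtain ⟨a, ha, hxa⟩ := hdec T x hx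
        obtain ⟨b, hb, hxb⟩ := hdec D x hx
        have hk : x * (a * b ^ k) ∈ ((τ^[k]) T).1 := by
          rw [ih, hbody]
          exact ⟨x, hx, a, ha, b, hb, 1, (cz Y).one_mem, hxa, hxb, by simp [mul_assoc]⟩
        have q1 := huniq _ x hx _ (X'.mul_mem ha (X'.pow_mem hb k)) a' ha' hk hxa'
        have q2 := huniq D x hx b hb b' hb' hxb hxb'
        refine ⟨x, hx, a, ha, b, hb, ((a * b ^ k)⁻¹ * a') * (b⁻¹ * b') * z,
          (cz Y).mul_mem ((cz Y).mul_mem q1 q2) hz, hxa, hxb, ?_⟩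
        calc x * a' * b' ^ 1 * z
            = x * (a * b ^ k) * (((a * b ^ k)⁻¹ * a') * b) * (b⁻¹ * b') * z := by group
          _ = x * (a * b ^ k) * (b * ((a * b ^ k)⁻¹ * a')) * (b⁻¹ * b') * z := by
            rw [(hcen _ q1 b (hX'Y hb)).eq]
          _ = _ := by rw [pow_succ b k]; group
      · rintro ⟨x, hx, a, ha, b, hb, z, hz, hxa, hxb, rfl⟩
        refine ⟨x, hx, a * b ^ k, X'.mul_mem ha (X'.pow_mem hb k), b, hb, z, hz, ?_, hxb, ?_⟩
        · rw [ih, hbody]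
          exact ⟨x, hx, a, ha, b, hb, 1, (cz Y).one_mem, hxa, hxb, by simp [mul_assoc]⟩
        · rw [pow_succ b k]; simp [mul_assoc]
  obtain ⟨e, he⟩ := IsPGroup.iff_card.mp hP
  have hid : ∀ T, (τ^[p ^ e]) T = T := by
    intro T
    apply Subtype.ext
    rw [hiter]
    ext g
    rw [hbody]
    have hb1 : ∀ b : P, b ^ (p ^ e) = 1 := fun b => by
      rw [← he]; exact pow_card_eq_one'
    constructor
    · rintro ⟨x, hx, a, ha, b, hb, z, hz, hxa, hxb, rfl⟩
      rw [hb1]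
      simpa using T.1.mul_mem hxa (hbot T hz)
    · intro hg
      have hgT : g ∈ T.1 := hg
      have hgO : g ∈ (X : Set P) * (X' : Set P) := hOset ▸ T.2.1.2.1 hgT
      obtain ⟨x, hx, a, ha, rfl⟩ := hgO
      obtain ⟨b, hb, hxb⟩ := hdec D x hx
      exact ⟨x, hx, a, ha, b, hb, 1, (cz Y).one_mem, hgT, hxb, by simp [hb1]⟩
  have hnofix : ∀ T, τ T ≠ T := by
    intro T hT
    apply hXlt.not_ge
    intro x hx
    obtain ⟨a, ha, hxa⟩ := hdec T x hx
    obtain ⟨b, hb, hxb⟩ := hdec D x hx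
    have h4 : x * a * b ∈ T.1 := by
      have := hmem1 T x hx a ha b hb hxa hxb
      rwa [show body' T 1 = T.1 from congrArg Subtype.val hT] at this
    have h5 : b ∈ cz Y := by
      rw [← atom_inf hY T.2.1.1 hX' T.2.2]
      refine ⟨?_, hb⟩
      have e : b = (x * a)⁻¹ * (x * a * b) := by group
      rw [e]; exact T.1.mul_mem (T.1.inv_mem hxa) h4
    rw [← atom_inf hY hX'' hX h2]
    exact ⟨by simpa using X''.mul_mem hxb (X''.inv_mem (hbot D h5)), hx⟩
  have hbij : Function.Bijective τ := by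
    have hli : Function.LeftInverse (τ^[p ^ e - 1]) τ := fun T => by
      rw [← Function.iterate_succ_apply, Nat.succ_eq_add_one, Nat.sub_add_cancel (Nat.one_le_pow _ _ hp.out.pos), hid]
    exact Finite.injective_iff_bijective.mp hli.injective
  let σ : Equiv.Perm α := Equiv.ofBijective τ hbij
  have hσ : σ ^ (p ^ e) = 1 := by
    apply Equiv.ext
    intro T
    rw [Equiv.Perm.coe_pow, Equiv.Perm.one_apply]
    exact hid T
  have hZp : IsPGroup p (Subgroup.zpowers σ) := by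
    obtain ⟨k, -, hk⟩ := (Nat.dvd_prime_pow hp.out).mp (orderOf_dvd_of_pow_eq_one hσ)
    exact IsPGroup.of_card (n := k) (by rw [Nat.card_zpowers, hk])
  have hfix : IsEmpty (MulAction.fixedPoints (Subgroup.zpowers σ) α) :=
    ⟨fun T => hnofix T.1 (T.2 ⟨σ, Subgroup.mem_zpowers σ⟩)⟩
  have hdvd : p ∣ Nat.card α := by
    have := hZp.card_modEq_card_fixedPoints α
    rw [Nat.card_of_isEmpty (α := MulAction.fixedPoints (Subgroup.zpowers σ) α)] at this
    exact Nat.modEq_zero_iff_dvd.mp this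
  intro hd
  let β := {T : Subgroup P // IsAtom' Y T ∧ T ≤ O ∧ Nat.card ↥T = Nat.card ↥X}
  have hcardβ : Nat.card β = Nat.card α + 1 := by
    rw [← Nat.card_congr (Equiv.sumCompl fun T : β => T.1 ≠ X'), Nat.card_sum]
    congr 1
    · exact Nat.card_congr (Equiv.subtypeSubtypeEquivSubtypeInter
        (fun T : Subgroup P => IsAtom' Y T ∧ T ≤ O ∧ Nat.card ↥T = Nat.card ↥X) (fun T => T ≠ X'))
    · rw [Nat.card_eq_one_iff_unique]
      refine ⟨⟨fun a b => Subtype.ext (Subtype.ext ?_)⟩, ⟨⟨⟨X', hX', le_sup_right, hXX'.symm⟩, fun h => h rfl⟩⟩⟩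
      rw [not_not.mp a.2, not_not.mp b.2]
  have hd' : p ∣ Nat.card β := hd
  rw [hcardβ, Nat.dvd_add_right hdvd] at hd'
  exact hp.out.ne_one (Nat.dvd_one.mp hd')

omit [Finite P] in
theorem comm_mem_cz {Y : Subgroup P} {g : P} (hg : g ∈ Subgroup.normalizer (Y : Set P)) {z : P}
    (hz : z ∈ cz Y) : ⁅g, z⁆ ∈ cz Y := by
  have h := (Subgroup.mem_normalizer_iff.mp (le_cz_normalizer hg) z).mp hz
  have e : ⁅g, z⁆ = g * z * g⁻¹ * z⁻¹ := commutatorElement_def g z
  rw [e]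
  exact (cz Y).mul_mem h ((cz Y).inv_mem hz)

omit [Finite P] in
theorem comm_mul_central {Y : Subgroup P} {g a z : P} (hg : g ∈ Subgroup.normalizer (Y : Set P))
    (ha : a ∈ Y) (hz : z ∈ cz Y) : ⁅g, a * z⁆ = ⁅g, a⁆ * ⁅g, z⁆ :=
  comm_mul_right (Commute.symm (Subgroup.mem_centralizer_iff.mp (comm_mem_cz hg hz) a ha))

omit [Finite P] in
theorem le_cz_normalizer_self {Y R : Subgroup P} (h : R ≤ Y) :
    R ≤ Subgroup.normalizer ((cz Y : Subgroup P) : Set P) := fun r hr =>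
  le_cz_normalizer (Subgroup.le_normalizer (h hr))

/-- The witness of an element of an abelian subgroup of largest order. -/
theorem witness_abelian (hY : IsCentrallyLarge Y) {A : Subgroup P} (hA : A ∈ maxAbelianSubgroups P)
    {g : P} (hgA : g ∈ A) (hg : g ∈ Subgroup.normalizer (Y : Set P)) :
    IsWitness Y ((Y ⊓ A) ⊔ cz Y) g := by
  obtain ⟨-, -, hS, -, -⟩ := cl_abelian hY hA
  set S := (Y ⊓ A) ⊔ cz Y with hSdef
  have hYC := (centrallyLarge_iff.mp hY).2
  have hSY : S ≤ Y := sup_le inf_le_left hYC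
  have hcen : ∀ h : P, h ∈ A → h ∈ Subgroup.normalizer (Y : Set P) → ∀ c ∈ S, ⁅h, c⁆ ∈ cz Y := by
    intro h hhA hh c hc
    have hc' : c ∈ ((Y ⊓ A : Subgroup P) : Set P) * ((cz Y : Subgroup P) : Set P) := by
      rw [← Subgroup.coe_mul_of_left_le_normalizer_right _ _ (le_cz_normalizer_self inf_le_left)]
      exact hc
    obtain ⟨a, ha, z, hz, rfl⟩ := hc'
    have e : ⁅h, a⁆ = 1 := commutatorElement_eq_one_iff_commute.mpr
      (comm_of_isMulCommutative hA.1 hhA ha.2)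
    rw [comm_mul_central hh ha.1 hz, e, one_mul]
    exact comm_mem_cz hh hz
  refine ⟨hSY, (maxAbelian_cz hS).le, fun c hc => hcen g hgA hg c ((maxAbelian_cz hS).le hc),
    fun s hs V hV hVY => ?_, fun V hV _ => ?_⟩
  · have hle : cz Y ≤ V := (cz_anti hVY).trans (centrallyLarge_iff.mp hV).2
    exact ⟨hle (hcen g hgA hg s hs),
      hle (hcen g⁻¹ (A.inv_mem hgA) (Subgroup.inv_mem _ hg) s hs)⟩
  · obtain ⟨hset, hcl, -, hcap, hset'⟩ := cl_abelian hV hS
    refine ⟨hcl, hset, fun x hx hx' => ?_⟩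
    rw [maxAbelian_cz hS, ← hset', ← hcap]
    exact ⟨hx, hx'⟩

/-- The witness of an element of a minimal centrally large subgroup. -/
theorem witness_minimal (hY : IsCentrallyLarge Y) {R : Subgroup P} (hR : IsMinimalCentrallyLarge R)
    {g : P} (hgR : g ∈ R) (hg : g ∈ Subgroup.normalizer (Y : Set P)) :
    IsWitness Y ((R ⊓ Y) ⊔ cz Y) g := by
  obtain ⟨hYL, hYC⟩ := centrallyLarge_iff.mp hY
  obtain ⟨hRL, hRC⟩ := centrallyLarge_iff.mp hR.1
  set S := (R ⊓ Y) ⊔ cz Y with hSdef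
  have hSY : S ≤ Y := sup_le inf_le_right hYC
  have hSL : IsCentralizerLarge S := (cd (cd hRL hYL).2.1 (cz_large hYL).1).1
  have hczS : ∀ c ∈ cz S, ∃ a ∈ cz R ⊓ Y, ∃ d ∈ cz Y, c = a * d := by
    intro c hc
    rw [hSdef, cz, centralizer_sup] at hc
    have h2 : c ∈ Y := (cz_large hYL).2.le hc.2
    have h4 : c ∈ ((cz R ⊔ cz Y : Subgroup P) : Set P) := (cd hRL hYL).2.2.2.le hc.1
    rw [(cd (cz_large hRL).1 (cz_large hYL).1).2.2.1] at h4
    obtain ⟨a, ha, d, hd, rfl⟩ := h4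
    refine ⟨a, ⟨ha, ?_⟩, d, hd, rfl⟩
    simpa using Y.mul_mem h2 (Y.inv_mem (hYC hd))
  have hSC : cz S ≤ S := by
    intro c hc
    obtain ⟨a, ha, d, hd, rfl⟩ := hczS c hc
    exact Subgroup.mul_mem_sup ⟨hRC ha.1, ha.2⟩ hd
  have hcom : ∀ h : P, h ∈ R → h ∈ Subgroup.normalizer (Y : Set P) → ∀ s ∈ S,
      ∀ V : Subgroup P, IsCentrallyLarge V → V ≤ Y → ⁅h, s⁆ ∈ V := by
    intro h hhR hh s hs V hV hVY
    have hs' : s ∈ ((R ⊓ Y : Subgroup P) : Set P) * ((cz Y : Subgroup P) : Set P) := by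
      rw [← Subgroup.coe_mul_of_left_le_normalizer_right _ _ (le_cz_normalizer_self inf_le_right)]
      exact hs
    obtain ⟨r, hr, d, hd, rfl⟩ := hs'
    rw [comm_mul_central hh hr.2 hd]
    refine V.mul_mem ?_ ((cz_anti hVY).trans (centrallyLarge_iff.mp hV).2 (comm_mem_cz hh hd))
    obtain ⟨R', hR', hle⟩ := exists_minimal_le hV
    have h1 : ⁅h, r⁆ ∈ ⁅R, R⁆ := Subgroup.commutator_mem_commutator hhR hr.1
    rw [minimal_commutator_eq hR hR'] at h1
    refine hle ((Subgroup.commutator_le.mpr fun a ha b hb => ?_) h1)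
    rw [commutatorElement_def]
    exact R'.mul_mem (R'.mul_mem (R'.mul_mem ha hb) (R'.inv_mem ha)) (R'.inv_mem hb)
  refine ⟨hSY, hSC, fun c hc => ?_, fun s hs V hV hVY =>
    ⟨hcom g hgR hg s hs V hV hVY, hcom g⁻¹ (R.inv_mem hgR) (Subgroup.inv_mem _ hg) s hs V hV hVY⟩,
    fun V hV _ => ?_⟩
  · obtain ⟨a, ha, d, hd, rfl⟩ := hczS c hc
    have e : ⁅g, a⁆ = 1 := commutatorElement_eq_one_iff_commute.mpr
      (Subgroup.mem_centralizer_iff.mp ha.1 g hgR)
    rw [comm_mul_central hg ha.2 hd, e, one_mul]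
    exact comm_mem_cz hg hd
  · obtain ⟨hVL, -⟩ := centrallyLarge_iff.mp hV
    refine ⟨cl_sup hV (centrallyLarge_iff.mpr ⟨hSL, hSC⟩), (cd hVL hSL).2.2.1, fun x _ hx => ?_⟩
    rw [(cd hVL hSL).2.2.2] at hx
    rw [← (cd (cz_large hVL).1 (cz_large hSL).1).2.2.1]
    exact hx

/-- Among the members of a conjugation-invariant set outside `H = ⟨s⟩`, one normalizes `H`. -/
theorem exists_normalizing {p : ℕ} [Fact p.Prime] (hP : IsPGroup p P) {Γ : Set P}
    (hΓ : ∀ x : P, ∀ g ∈ Γ, x * g * x⁻¹ ∈ Γ) {s : Set P} (hs : s ⊆ Γ)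
    (h : ¬ Γ ⊆ Subgroup.closure s) :
    ∃ γ ∈ Γ, γ ∉ Subgroup.closure s ∧ γ ∈ Subgroup.normalizer (Subgroup.closure s : Set P) := by
  set H := Subgroup.closure s with hH
  by_contra hc
  push_neg at hc
  set L := Subgroup.closure Γ with hL
  set M := L ⊓ Subgroup.normalizer (H : Set P) with hM
  have hHM : H ≤ M := le_inf (Subgroup.closure_mono hs) Subgroup.le_normalizer
  have hΓM : ∀ γ ∈ Γ, γ ∈ M → γ ∈ H := fun γ hγ hγM => by
    by_contra hn; exact hc γ hγ hn hγM.2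
  have hcl : Subgroup.closure {γ ∈ Γ | γ ∈ M} = H :=
    le_antisymm ((Subgroup.closure_le _).mpr fun γ hγ => hΓM γ hγ.1 hγ.2)
      (Subgroup.closure_mono fun γ hγ => ⟨hs hγ, hHM (Subgroup.subset_closure hγ)⟩)
  have hself : L ⊓ Subgroup.normalizer (M : Set P) = M := by
    refine le_antisymm (fun x hx => ⟨hx.1, ?_⟩) (le_inf inf_le_left Subgroup.le_normalizer)
    refine cj_normal_iff.mpr ?_
    refine Subgroup.eq_of_le_of_card_ge ?_ (card_conj x H).ge
    rw [cj, ← hcl, MonoidHom.map_closure, Subgroup.closure_le]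
    rintro _ ⟨γ, ⟨hγ, hγM⟩, rfl⟩
    exact Subgroup.subset_closure
      ⟨hΓ x γ hγ, (Subgroup.mem_normalizer_iff.mp hx.2 γ).mp hγM⟩
  have hMeq := eq_of_inf_normalizer_eq (hP.to_subgroup L) inf_le_left hself
  exact h fun γ hγ => hΓM γ hγ (hMeq.ge (Subgroup.subset_closure hγ))

/-- Some minimal centrally large subgroup is normalized by all abelian subgroups of largest order
and all minimal centrally large subgroups. -/
theorem exists_normal_minimal {p : ℕ} [Fact p.Prime] (hP : IsPGroup p P) :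
    ∃ Q : Subgroup P, IsMinimalCentrallyLarge Q ∧
      thompsonSubgroupA P ≤ Subgroup.normalizer (Q : Set P) ∧
      minimalCentrallyLargeJoin P ≤ Subgroup.normalizer (Q : Set P) := by
  classical
  let Γ : Set P := {g | (∃ A ∈ maxAbelianSubgroups P, g ∈ A) ∨ ∃ R, IsMinimalCentrallyLarge R ∧ g ∈ R}
  have hΓ : ∀ x : P, ∀ g ∈ Γ, x * g * x⁻¹ ∈ Γ := by
    rintro x g (⟨A, hA, hg⟩ | ⟨R, hR, hg⟩)
    · exact Or.inl ⟨_, maxAbelian_cj x hA, mem_cj hg⟩
    · exact Or.inr ⟨_, minimal_cj x hR, mem_cj hg⟩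
  have hjoin : Γ ⊆ Subgroup.normalizer (minimalCentrallyLargeJoin P : Set P) := by
    intro g _
    refine cj_normal_iff.mpr (Subgroup.eq_of_le_of_card_ge ?_ (card_conj g _).ge)
    refine Subgroup.map_le_iff_le_comap.mpr (sSup_le fun R hR => ?_)
    exact Subgroup.map_le_iff_le_comap.mp (le_sSup (minimal_cj g hR))
  obtain ⟨Y, ⟨hY, hYΓ⟩, hmin⟩ := (wellFounded_lt (α := Subgroup P)).has_min
    {Y : Subgroup P | IsCentrallyLarge Y ∧ Γ ⊆ Subgroup.normalizer (Y : Set P)}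
    ⟨minimalCentrallyLargeJoin P, minimalJoin_cl, hjoin⟩
  refine ⟨Y, ⟨hY, fun V hVY hV => ?_⟩, sSup_le fun A hA g hg => hYΓ (Or.inl ⟨A, hA, hg⟩),
    sSup_le fun R hR g hg => hYΓ (Or.inr ⟨R, hR, hg⟩)⟩
  by_contra hne
  obtain ⟨U₀, ⟨hU₀, hU₀Y⟩, hU₀max⟩ := (wellFounded_gt (α := Subgroup P)).has_min
    {U : Subgroup P | IsCentrallyLarge U ∧ U < Y} ⟨V, hV, lt_of_le_of_ne hVY hne⟩
  have hX₀ : IsAtom' Y (cz U₀) :=
    ⟨U₀, ⟨hU₀, hU₀Y, fun W hW hlt hWY => hU₀max W ⟨hW, hWY⟩ hlt⟩, rfl⟩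
  obtain ⟨H, ⟨⟨s, hsΓ, rfl⟩, X, hX, hXH⟩, hHmax⟩ := (wellFounded_gt (α := Subgroup P)).has_min
    {H : Subgroup P | (∃ s : Set P, s ⊆ Γ ∧ H = Subgroup.closure s) ∧
      ∃ X, IsAtom' Y X ∧ H ≤ Subgroup.normalizer (X : Set P)}
    ⟨⊥, ⟨∅, Set.empty_subset _, Subgroup.closure_empty.symm⟩, cz U₀, hX₀, bot_le⟩
  by_cases hall : Γ ⊆ Subgroup.closure s
  · obtain ⟨-, -, -, -, hUm⟩ := atom_facts hY hX
    exact hmin (cz X) ⟨hUm.1, fun γ hγ => le_cz_normalizer (hXH (hall hγ))⟩ hUm.2.1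
  obtain ⟨γ, hγΓ, hγH, hγN⟩ := exists_normalizing hP hΓ hsΓ hall
  have hnew : insert γ s ⊆ Γ := Set.insert_subset hγΓ hsΓ
  have hlt : Subgroup.closure s < Subgroup.closure (insert γ s) :=
    lt_of_le_of_ne (Subgroup.closure_mono (Set.subset_insert γ s))
      fun e => hγH (e ▸ Subgroup.subset_closure (Set.mem_insert γ s))
  set H' := Subgroup.closure (insert γ s) with hH'
  have hbad : ∀ T, IsAtom' Y T → ¬ H' ≤ Subgroup.normalizer (T : Set P) := fun T hT hle =>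
    hHmax H' ⟨⟨_, hnew, rfl⟩, T, hT, hle⟩ hlt
  have hmove : cj γ X ≠ X := fun e => hbad X hX <| (Subgroup.closure_le _).mpr <|
    Set.insert_subset (cj_normal_iff.mpr e) fun x hx => hXH (Subgroup.subset_closure hx)
  have hγY : cj γ Y = Y := cj_normal_iff.mp (hYΓ hγΓ)
  obtain ⟨S, hS⟩ : ∃ S, IsWitness Y S γ := by
    rcases hγΓ with ⟨A, hA, hg⟩ | ⟨R, hR, hg⟩
    · exact ⟨_, witness_abelian hY hA hg (cj_normal_iff.mpr hγY)⟩
    · exact ⟨_, witness_minimal hY hR hg (cj_normal_iff.mpr hγY)⟩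
  obtain ⟨hX', X'', hX'', hne1, hne2, hle, hOfix⟩ := exists_third hY hX hγY hS hmove
  set O := X ⊔ cj γ X with hO
  have hH'O : H' ≤ Subgroup.normalizer (O : Set P) := by
    refine (Subgroup.closure_le _).mpr (Set.insert_subset (cj_normal_iff.mpr hOfix) fun x hx => ?_)
    have hxH : x ∈ Subgroup.closure s := Subgroup.subset_closure hx
    have h1 : cj x X = X := cj_normal_iff.mp (hXH hxH)
    have h2 : cj (γ⁻¹ * x * γ) X = X := cj_normal_iff.mp (hXH (by
      have := (Subgroup.mem_normalizer_iff.mp (Subgroup.inv_mem _ hγN) x).mp hxH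
      simpa using this))
    refine cj_normal_iff.mpr ?_
    rw [hO, cj_sup, h1, cj_cj, show x * γ = γ * (γ⁻¹ * x * γ) by group, ← cj_cj, h2]
  have hH'Y : H' ≤ Subgroup.normalizer (Y : Set P) :=
    (Subgroup.closure_le _).mpr fun x hx => hYΓ (hnew hx)
  let β := {T : Subgroup P // IsAtom' Y T ∧ T ≤ O ∧ Nat.card ↥T = Nat.card ↥X}
  have hndvd : ¬ p ∣ Nat.card β :=
    not_dvd_atoms_line hP hY hX hX' hX'' hmove.symm hne1 hne2 hle (card_conj γ X).symm
  letI : SMul ↥H' β := ⟨fun h T => ⟨cj (h : P) T.1, by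
    obtain ⟨U, hU, hUT⟩ := T.2.1
    refine ⟨⟨cj (h : P) U, maxCL_cj _ (cj_normal_iff.mp (hH'Y h.2)) hU, by rw [cz_cj, hUT]⟩, ?_,
      (card_conj _ _).trans T.2.2.2⟩
    exact (cj_le_cj T.2.2.1).trans (cj_normal_iff.mp (hH'O h.2)).le⟩⟩
  letI : MulAction ↥H' β :=
    { one_smul := fun T => Subtype.ext (cj_one T.1)
      mul_smul := fun a b T => Subtype.ext (cj_cj (a : P) (b : P) T.1).symm }
  obtain ⟨T, hT⟩ := (hP.to_subgroup H').nonempty_fixed_point_of_prime_not_dvd_card β hndvd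
  exact hbad T.1 T.2.1 fun x hx => cj_normal_iff.mpr (congrArg Subtype.val (hT ⟨x, hx⟩))

end Cfsg.Agent.Lib.LAEven57.CLN
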