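import Cfsg.Prelude.Def_BaumannBlocks
import Cfsg.Agent.Lib.LA5.Basic

/-!
The Chermak–Delgado family, centrally large and minimal centrally large subgroups.
-/

set_option autoImplicit false

open Cfsg
open scoped Pointwise commutatorElement

namespace Cfsg.Agent.Lib.LAEven57.CL

open Cfsg.Agent.Lib.LA5.Basic

variable {P : Type*} [Group P]

/-- The centralizer, as a subgroup. -/
abbrev cz (R : Subgroup P) : Subgroup P := Subgroup.centralizer (R : Set P)

theorem cz_anti {R S : Subgroup P} (h : R ≤ S) : cz S ≤ cz R :=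
  Subgroup.centralizer_le (SetLike.coe_subset_coe.mpr h)

theorem le_cz_cz (R : Subgroup P) : R ≤ cz (cz R) := Subgroup.le_centralizer_iff.mp le_rfl

theorem card_center (R : Subgroup P) :
    Nat.card ↥(Subgroup.center ↥R) = Nat.card ↥(R ⊓ cz R) := by
  rw [← Subgroup.card_map_of_injective (f := R.subtype) R.subtype_injective]
  refine Nat.card_congr (MulEquiv.subgroupCongr ?_).toEquiv
  ext x
  constructor
  · rintro ⟨y, hy, rfl⟩
    exact ⟨y.2, Subgroup.mem_centralizer_iff.mpr fun z hz =>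
      congrArg Subtype.val (Subgroup.mem_center_iff.mp hy ⟨z, hz⟩)⟩
  · rintro ⟨h1, h2⟩
    exact ⟨⟨x, h1⟩, Subgroup.mem_center_iff.mpr fun z =>
      Subtype.ext (Subgroup.mem_centralizer_iff.mp h2 z z.2), rfl⟩

theorem comm_of_isMulCommutative {A : Subgroup P} (h : IsMulCommutative ↥A) {a b : P}
    (ha : a ∈ A) (hb : b ∈ A) : a * b = b * a := by
  haveI := h
  exact congrArg Subtype.val (mul_comm' (⟨a, ha⟩ : ↥A) ⟨b, hb⟩)

theorem isMulCommutative_iff_le_cz {A : Subgroup P} : IsMulCommutative ↥A ↔ A ≤ cz A := by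
  constructor
  · intro h a ha
    exact Subgroup.mem_centralizer_iff.mpr fun b hb => comm_of_isMulCommutative h hb ha
  · intro h
    exact ⟨⟨fun a b => Subtype.ext (Subgroup.mem_centralizer_iff.mp (h b.2) a a.2)⟩⟩

theorem inf_cz_abelian (R : Subgroup P) : R ⊓ cz R ≤ cz (R ⊓ cz R) :=
  le_trans inf_le_right (cz_anti inf_le_left)

variable [Finite P]

/-- `|R| |C(R)|`. -/
noncomputable abbrev mC (R : Subgroup P) : ℕ := Nat.card ↥R * Nat.card ↥(cz R)

/-- `|R| |Z(R)|`. -/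
noncomputable abbrev mZ (R : Subgroup P) : ℕ := Nat.card ↥R * Nat.card ↥(R ⊓ cz R)

theorem centralizerSet_bdd :
    BddAbove {k : ℕ | ∃ R : Subgroup P, Nat.card ↥R * Nat.card ↥(cz R) = k} :=
  (Set.finite_range fun R : Subgroup P => Nat.card ↥R * Nat.card ↥(cz R)).bddAbove

theorem centralSet_bdd :
    BddAbove {k : ℕ | ∃ R : Subgroup P, Nat.card ↥R * Nat.card ↥(Subgroup.center ↥R) = k} :=
  (Set.finite_range fun R : Subgroup P => Nat.card ↥R * Nat.card ↥(Subgroup.center ↥R)).bddAbove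

theorem mC_le (R : Subgroup P) : mC R ≤ maxCentralizerProduct P :=
  le_csSup centralizerSet_bdd ⟨R, rfl⟩

theorem mZ_le (R : Subgroup P) : mZ R ≤ maxCentralProduct P := by
  rw [mZ, ← card_center]
  exact le_csSup centralSet_bdd ⟨R, rfl⟩

theorem exists_centralizerLarge : ∃ R : Subgroup P, IsCentralizerLarge R :=
  Nat.sSup_mem (s := {k : ℕ | ∃ R : Subgroup P, Nat.card ↥R * Nat.card ↥(cz R) = k})
    ⟨_, ⊥, rfl⟩ centralizerSet_bdd

theorem exists_centrallyLarge : ∃ R : Subgroup P, IsCentrallyLarge R :=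
  Nat.sSup_mem (s := {k : ℕ | ∃ R : Subgroup P, Nat.card ↥R * Nat.card ↥(Subgroup.center ↥R) = k})
    ⟨_, ⊥, rfl⟩ centralSet_bdd

theorem mZ_le_mC (R : Subgroup P) : mZ R ≤ mC R :=
  Nat.mul_le_mul_left _ (Subgroup.card_le_of_le inf_le_right)

theorem eq_of_le_mC {R : Subgroup P} (h : maxCentralizerProduct P ≤ mC R) : IsCentralizerLarge R :=
  le_antisymm (mC_le R) h

/-- The Chermak–Delgado argument. -/
theorem cd {Q R : Subgroup P} (hQ : IsCentralizerLarge Q) (hR : IsCentralizerLarge R) :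
    IsCentralizerLarge (Q ⊔ R) ∧ IsCentralizerLarge (Q ⊓ R) ∧
      ((Q ⊔ R : Subgroup P) : Set P) = (Q : Set P) * (R : Set P) ∧
      cz (Q ⊓ R) = cz Q ⊔ cz R := by
  have h1 := card_mul_le_card_sup_mul_card_inf Q R
  have h2 := card_mul_le_card_sup_mul_card_inf (cz Q) (cz R)
  have hC : cz (Q ⊔ R) = cz Q ⊓ cz R := centralizer_sup Q R
  have h3 : Nat.card ↥(cz Q ⊔ cz R) ≤ Nat.card ↥(cz (Q ⊓ R)) :=
    Subgroup.card_le_of_le (centralizer_sup_le Q R)
  have hQR : Nat.card Q * Nat.card R * (Nat.card ↥(cz Q) * Nat.card ↥(cz R))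
      = maxCentralizerProduct P * maxCentralizerProduct P := by
    have hq : Nat.card Q * Nat.card ↥(cz Q) = maxCentralizerProduct P := hQ
    have hr : Nat.card R * Nat.card ↥(cz R) = maxCentralizerProduct P := hR
    calc _ = (Nat.card Q * Nat.card ↥(cz Q)) * (Nat.card R * Nat.card ↥(cz R)) := by ring
      _ = _ := by rw [hq, hr]
  set s := Nat.card ↥(Q ⊔ R) with hs
  set i := Nat.card ↥(Q ⊓ R) with hi
  set j := Nat.card ↥(cz Q ⊓ cz R) with hj
  set t := Nat.card ↥(cz Q ⊔ cz R) with ht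
  set u := Nat.card ↥(cz (Q ⊓ R)) with hu
  have hsup : s * j ≤ maxCentralizerProduct P := by
    have := mC_le (Q ⊔ R); rwa [mC, hC] at this
  have hinf : i * u ≤ maxCentralizerProduct P := mC_le (Q ⊓ R)
  have hf : 0 < maxCentralizerProduct P :=
    lt_of_lt_of_le (Nat.mul_pos Nat.card_pos Nat.card_pos) (mC_le (⊥ : Subgroup P))
  have hmain : maxCentralizerProduct P * maxCentralizerProduct P ≤ (s * j) * (i * u) :=
    calc _ = _ := hQR.symm
      _ ≤ (s * i) * (t * j) := Nat.mul_le_mul h1 h2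
      _ ≤ (s * i) * (u * j) := Nat.mul_le_mul_left _ (Nat.mul_le_mul_right _ h3)
      _ = _ := by ring
  have e1 : s * j = maxCentralizerProduct P := by
    refine le_antisymm hsup (Nat.le_of_mul_le_mul_right ?_ hf)
    exact hmain.trans (Nat.mul_le_mul_left _ hinf)
  have e2 : i * u = maxCentralizerProduct P := by
    refine le_antisymm hinf (Nat.le_of_mul_le_mul_left ?_ hf)
    exact hmain.trans (Nat.mul_le_mul_right _ hsup)
  have hip : 0 < i := Nat.card_pos
  have hjp : 0 < j := Nat.card_pos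
  have hsp : 0 < s := Nat.card_pos
  refine ⟨(show Nat.card ↥(Q ⊔ R) * Nat.card ↥(cz (Q ⊔ R)) = maxCentralizerProduct P by rw [hC]; exact e1) , e2, ?_, ?_⟩
  · refine sup_eq_setMul_of_card ?_
    refine Nat.le_of_mul_le_mul_right (c := u * j) ?_ (Nat.mul_pos Nat.card_pos hjp)
    calc s * i * (u * j) = (s * j) * (i * u) := by ring
      _ = maxCentralizerProduct P * maxCentralizerProduct P := by rw [e1, e2]
      _ = _ := hQR.symm
      _ ≤ Nat.card Q * Nat.card R * (t * j) := Nat.mul_le_mul_left _ h2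
      _ ≤ Nat.card Q * Nat.card R * (u * j) := Nat.mul_le_mul_left _ (Nat.mul_le_mul_right _ h3)
  · refine (Subgroup.eq_of_le_of_card_ge (centralizer_sup_le Q R) ?_).symm
    show u ≤ t
    refine Nat.le_of_mul_le_mul_left (c := s * i * j) ?_ (Nat.mul_pos (Nat.mul_pos hsp hip) hjp)
    calc s * i * j * u = (s * j) * (i * u) := by ring
      _ = maxCentralizerProduct P * maxCentralizerProduct P := by rw [e1, e2]
      _ = _ := hQR.symm
      _ ≤ (s * i) * (t * j) := Nat.mul_le_mul h1 h2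
      _ = _ := by ring

theorem cz_large {Q : Subgroup P} (hQ : IsCentralizerLarge Q) :
    IsCentralizerLarge (cz Q) ∧ cz (cz Q) = Q := by
  have hle : Nat.card Q ≤ Nat.card ↥(cz (cz Q)) := Subgroup.card_le_of_le (le_cz_cz Q)
  have h1 : IsCentralizerLarge (cz Q) := by
    refine eq_of_le_mC ?_
    calc maxCentralizerProduct P = Nat.card Q * Nat.card ↥(cz Q) := hQ.symm
      _ ≤ Nat.card ↥(cz (cz Q)) * Nat.card ↥(cz Q) := Nat.mul_le_mul_right _ hle
      _ = _ := mul_comm _ _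
  refine ⟨h1, (Subgroup.eq_of_le_of_card_ge (le_cz_cz Q) ?_).symm⟩
  refine Nat.le_of_mul_le_mul_right (c := Nat.card ↥(cz Q)) ?_ Nat.card_pos
  exact le_of_eq (by rw [mul_comm]; exact h1.trans hQ.symm)

theorem maxCentralProduct_eq : maxCentralProduct P = maxCentralizerProduct P := by
  refine le_antisymm ?_ ?_
  · obtain ⟨R, hR⟩ := exists_centrallyLarge (P := P)
    rw [IsCentrallyLarge, card_center] at hR
    exact hR ▸ (mZ_le_mC R).trans (mC_le R)
  · obtain ⟨Q, hQ⟩ := exists_centralizerLarge (P := P)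
    obtain ⟨hC, hCC⟩ := cz_large hQ
    have hD := (cd hQ hC).1
    have hle : cz (Q ⊔ cz Q) ≤ Q ⊔ cz Q := (cz_anti (le_sup_left : Q ≤ Q ⊔ cz Q)).trans le_sup_right
    calc maxCentralizerProduct P = mC (Q ⊔ cz Q) := hD.symm
      _ = mZ (Q ⊔ cz Q) := by rw [mZ, inf_eq_right.mpr hle]
      _ ≤ _ := mZ_le _

theorem centrallyLarge_iff {Q : Subgroup P} :
    IsCentrallyLarge Q ↔ IsCentralizerLarge Q ∧ cz Q ≤ Q := by
  constructor
  · intro h
    have h' : mZ Q = maxCentralizerProduct P := by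
      rw [mZ, ← card_center, ← maxCentralProduct_eq]; exact h
    have hL : IsCentralizerLarge Q := eq_of_le_mC (h' ▸ mZ_le_mC Q)
    refine ⟨hL, ?_⟩
    have : Q ⊓ cz Q = cz Q := Subgroup.eq_of_le_of_card_ge inf_le_right
      (Nat.le_of_mul_le_mul_left (le_of_eq (hL.trans h'.symm)) Nat.card_pos)
    exact inf_eq_right.mp this
  · rintro ⟨h, hle⟩
    show Nat.card ↥Q * Nat.card ↥(Subgroup.center ↥Q) = maxCentralProduct P
    rw [card_center, inf_eq_right.mpr hle, maxCentralProduct_eq]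
    exact h

theorem cl_inf_cz {Q : Subgroup P} (hQ : IsCentrallyLarge Q) : Q ⊓ cz Q = cz Q :=
  inf_eq_right.mpr (centrallyLarge_iff.mp hQ).2

theorem cl_sup {Q R : Subgroup P} (hQ : IsCentrallyLarge Q) (hR : IsCentrallyLarge R) :
    IsCentrallyLarge (Q ⊔ R) := by
  rw [centrallyLarge_iff] at *
  exact ⟨(cd hQ.1 hR.1).1, (cz_anti le_sup_left).trans (hQ.2.trans le_sup_left)⟩

theorem cl_sSup {𝒮 : Set (Subgroup P)} (hne : 𝒮.Nonempty) (h : ∀ R ∈ 𝒮, IsCentrallyLarge R) :
    IsCentrallyLarge (sSup 𝒮) := by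
  have hfin : 𝒮.Finite := Set.toFinite _
  have : sSup 𝒮 = hfin.toFinset.sup' (hfin.toFinset_nonempty.mpr hne) id := by
    rw [Finset.sup'_eq_sup]
    refine le_antisymm (sSup_le fun R hR => Finset.le_sup (f := id) (hfin.mem_toFinset.mpr hR)) ?_
    exact Finset.sup_le fun R hR => le_sSup (hfin.mem_toFinset.mp hR)
  rw [this]
  exact Finset.sup'_induction _ _ (fun a ha b hb => cl_sup ha hb) fun R hR => h R (hfin.mem_toFinset.mp hR)

theorem exists_minimal_le {Q : Subgroup P} (hQ : IsCentrallyLarge Q) :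
    ∃ R, IsMinimalCentrallyLarge R ∧ R ≤ Q := by
  obtain ⟨R, ⟨hR, hle⟩, hmin⟩ := (wellFounded_lt (α := Subgroup P)).has_min
    {R : Subgroup P | IsCentrallyLarge R ∧ R ≤ Q} ⟨Q, hQ, le_rfl⟩
  refine ⟨R, ⟨hR, fun R' hle' hR' => ?_⟩, hle⟩
  by_contra hne
  exact hmin R' ⟨hR', hle'.trans hle⟩ (lt_of_le_of_ne hle' hne)

theorem centrallyLargeJoin_cl : IsCentrallyLarge (centrallyLargeJoin P) :=
  cl_sSup exists_centrallyLarge (fun _ h => h)

theorem minimalJoin_cl : IsCentrallyLarge (minimalCentrallyLargeJoin P) := by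
  refine cl_sSup ?_ (fun _ h => h.1)
  obtain ⟨Q, hQ⟩ := exists_centrallyLarge (P := P)
  obtain ⟨R, hR, -⟩ := exists_minimal_le hQ
  exact ⟨R, hR⟩

theorem maxAbelian_cz {A : Subgroup P} (hA : A ∈ maxAbelianSubgroups P) : cz A = A := by
  refine le_antisymm (fun c hc => ?_) (isMulCommutative_iff_le_cz.mp hA.1)
  have hle : A ⊔ Subgroup.zpowers c ≤ cz (A ⊔ Subgroup.zpowers c) := by
    rw [cz, centralizer_sup]
    refine le_inf (sup_le (isMulCommutative_iff_le_cz.mp hA.1) (Subgroup.zpowers_le.mpr hc))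
      (sup_le (Subgroup.le_centralizer_iff.mp (Subgroup.zpowers_le.mpr hc)) ?_)
    exact isMulCommutative_iff_le_cz.mp inferInstance
  have : A = A ⊔ Subgroup.zpowers c :=
    Subgroup.eq_of_le_of_card_ge le_sup_left (hA.2 _ (isMulCommutative_iff_le_cz.mpr hle))
  rw [this]
  exact Subgroup.mem_sup_right (Subgroup.mem_zpowers c)

theorem exists_maxAbelian : (maxAbelianSubgroups P).Nonempty := by
  obtain ⟨A, hA, hmax⟩ := Set.exists_max_image {B : Subgroup P | IsMulCommutative ↥B}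
    (fun B => Nat.card ↥B) (Set.toFinite _) ⟨⊥, isMulCommutative_iff_le_cz.mpr bot_le⟩
  exact ⟨A, hA, fun B hB => hmax B hB⟩

theorem abelian_sq_le {B : Subgroup P} (hB : IsMulCommutative ↥B) :
    Nat.card B * Nat.card B ≤ maxCentralProduct P := by
  have := mZ_le B
  rwa [mZ, inf_eq_left.mpr (isMulCommutative_iff_le_cz.mp hB)] at this

/-- The interplay of a centrally large subgroup and an abelian subgroup of largest order. -/
theorem cl_abelian {Q A : Subgroup P} (hQ : IsCentrallyLarge Q) (hA : A ∈ maxAbelianSubgroups P) :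
    ((Q ⊔ A : Subgroup P) : Set P) = (Q : Set P) * (A : Set P) ∧ IsCentrallyLarge (Q ⊔ A) ∧
      ((Q ⊓ A) ⊔ cz Q) ∈ maxAbelianSubgroups P ∧
      (Q ⊔ A) ⊓ cz (Q ⊓ A) = cz Q ⊔ A ∧
      ((cz Q ⊔ A : Subgroup P) : Set P) = (cz Q : Set P) * (A : Set P) := by
  obtain ⟨hQL, hQC⟩ := centrallyLarge_iff.mp hQ
  have hAc := isMulCommutative_iff_le_cz.mp hA.1
  set X := Q ⊓ A with hX
  set Z := cz Q with hZ
  have hXZ : X ⊔ Z ≤ cz (X ⊔ Z) := by
    rw [cz, centralizer_sup]
    refine le_inf (sup_le ?_ ?_) (sup_le ?_ ?_)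
    · exact (inf_le_right.trans hAc).trans (cz_anti inf_le_right)
    · exact cz_anti inf_le_left
    · exact Subgroup.le_centralizer_iff.mp (cz_anti inf_le_left)
    · exact cz_anti hQC
  have hab : IsMulCommutative ↥(X ⊔ Z) := isMulCommutative_iff_le_cz.mpr hXZ
  have hXA : Nat.card ↥(X ⊔ Z) ≤ Nat.card A := hA.2 _ hab
  have h1 := card_mul_le_card_sup_mul_card_inf X Z
  have h2 := card_mul_le_card_sup_mul_card_inf Q A
  have hcap : X ⊓ Z = Z ⊓ A := by
    refine le_antisymm (le_inf inf_le_right (inf_le_left.trans inf_le_right)) ?_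
    exact le_inf (le_inf (inf_le_left.trans hQC) inf_le_right) inf_le_left
  have hzc : Z ⊓ A ≤ (Q ⊔ A) ⊓ cz (Q ⊔ A) := by
    refine le_inf (inf_le_right.trans le_sup_right) ?_
    rw [cz, centralizer_sup]
    exact le_inf inf_le_left (inf_le_right.trans hAc)
  set s := Nat.card ↥(Q ⊔ A) with hs
  set q := Nat.card ↥Q with hq
  set a := Nat.card ↥A with ha
  set x := Nat.card ↥X with hx
  set z := Nat.card ↥Z with hz
  set w := Nat.card ↥(Z ⊓ A) with hw
  set y := Nat.card ↥(X ⊔ Z) with hy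
  have hf : q * z = maxCentralProduct P := by
    rw [maxCentralProduct_eq]; exact hQL
  have hsw : s * w ≤ maxCentralProduct P :=
    (Nat.mul_le_mul_left _ (Subgroup.card_le_of_le hzc)).trans (mZ_le _)
  rw [hcap] at h1
  change x * z ≤ y * w at h1
  change q * a ≤ s * x at h2
  have hxp : 0 < x := Nat.card_pos
  have hwp : 0 < w := Nat.card_pos
  have hap : 0 < a := Nat.card_pos
  have hzp : 0 < z := Nat.card_pos
  have hsw' : s * w = maxCentralProduct P := by
    refine le_antisymm hsw ?_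
    refine Nat.le_of_mul_le_mul_right (c := a * x) ?_ (Nat.mul_pos hap hxp)
    calc maxCentralProduct P * (a * x) = (q * a) * (x * z) := by rw [← hf]; ring
      _ ≤ (s * x) * (y * w) := Nat.mul_le_mul h2 h1
      _ ≤ (s * x) * (a * w) := Nat.mul_le_mul_left _ (Nat.mul_le_mul_right _ hXA)
      _ = _ := by ring
  have hsx : s * x = q * a := by
    refine le_antisymm ?_ h2
    refine Nat.le_of_mul_le_mul_right (c := z) ?_ hzp
    calc s * x * z = s * (x * z) := by ring
      _ ≤ s * (y * w) := Nat.mul_le_mul_left _ h1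
      _ ≤ s * (a * w) := Nat.mul_le_mul_left _ (Nat.mul_le_mul_right _ hXA)
      _ = (s * w) * a := by ring
      _ = _ := by rw [hsw', ← hf]; ring
  have hya : y = a := by
    refine le_antisymm hXA ?_
    refine Nat.le_of_mul_le_mul_right (c := s * w) ?_ (Nat.mul_pos Nat.card_pos hwp)
    calc a * (s * w) = (q * a) * z := by rw [hsw', ← hf]; ring
      _ = s * (x * z) := by rw [← hsx]; ring
      _ ≤ s * (y * w) := Nat.mul_le_mul_left _ h1
      _ = _ := by ring
  have hset : ((Q ⊔ A : Subgroup P) : Set P) = (Q : Set P) * (A : Set P) :=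
    sup_eq_setMul_of_card hsx.le
  have hCL : IsCentrallyLarge (Q ⊔ A) := by
    show Nat.card ↥(Q ⊔ A) * Nat.card ↥(Subgroup.center ↥(Q ⊔ A)) = maxCentralProduct P
    rw [card_center]
    exact le_antisymm (mZ_le _) (hsw' ▸ Nat.mul_le_mul_left _ (Subgroup.card_le_of_le hzc))
  have hmax : (X ⊔ Z) ∈ maxAbelianSubgroups P := ⟨hab, fun B hB => (hA.2 B hB).trans hya.ge⟩
  have hle : (Z ⊔ A) ≤ (Q ⊔ A) ⊓ cz X := by
    refine sup_le (le_inf (hQC.trans le_sup_left) (cz_anti inf_le_left)) ?_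
    exact le_inf le_sup_right (hAc.trans (cz_anti inf_le_right))
  have hge : ∀ g ∈ (Q ⊔ A) ⊓ cz X, g ∈ (Z : Set P) * (A : Set P) := by
    rintro g ⟨hg1, hg2⟩
    have hg1' : g ∈ (Q : Set P) * (A : Set P) := hset ▸ hg1
    obtain ⟨u, hu, v, hv, rfl⟩ := hg1'
    have hu2 : u ∈ cz (X ⊔ Z) := by
      rw [cz, centralizer_sup]
      refine ⟨?_, Subgroup.le_centralizer_iff.mp le_rfl hu⟩
      have hv2 : v ∈ cz X := (hAc.trans (cz_anti inf_le_right)) hv
      have := (cz X).mul_mem hg2 ((cz X).inv_mem hv2)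
      simpa [mul_assoc] using this
    rw [maxAbelian_cz hmax] at hu2
    have hu3 : u ∈ ((Z ⊔ X : Subgroup P) : Set P) := by rw [sup_comm]; exact hu2
    have hp : ((Z ⊔ X : Subgroup P) : Set P) = (Z : Set P) * (X : Set P) := by
      refine sup_eq_setMul_of_card ?_
      rw [sup_comm Z X, inf_comm Z X, hcap]
      show y * w ≤ z * x
      refine Nat.le_of_mul_le_mul_right (c := s) ?_ Nat.card_pos
      calc y * w * s = (s * w) * a := by rw [hya]; ring
        _ = (q * a) * z := by rw [hsw', ← hf]; ring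
        _ ≤ _ := le_of_eq (by rw [← hsx]; ring)
    rw [hp] at hu3
    obtain ⟨c, hc, d, hd, rfl⟩ := hu3
    exact ⟨c, hc, d * v, A.mul_mem hd.2 hv, (mul_assoc c d v).symm⟩
  refine ⟨hset, hCL, hmax, le_antisymm (fun g hg => ?_) hle, ?_⟩
  · obtain ⟨c, hc, d, hd, rfl⟩ := hge g hg
    exact Subgroup.mul_mem_sup hc hd
  · refine Set.Subset.antisymm (fun g hg => hge g (hle hg)) ?_
    rintro _ ⟨c, hc, d, hd, rfl⟩
    exact Subgroup.mul_mem_sup hc hd

theorem center_thompsonA_eq : cz (thompsonSubgroupA P) ≤ thompsonSubgroupA P := by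
  obtain ⟨A, hA⟩ := exists_maxAbelian (P := P)
  have hle : A ≤ thompsonSubgroupA P := le_sSup hA
  exact (cz_anti hle).trans ((maxAbelian_cz hA).le.trans hle)

/-- A centrally large subgroup containing `J(P)` contains `C(Z(J(P)))`. -/
theorem cz_center_thompsonA_le {L : Subgroup P} (hL : IsCentrallyLarge L)
    (hJ : thompsonSubgroupA P ≤ L) :
    cz (thompsonSubgroupA P ⊓ cz (thompsonSubgroupA P)) ≤ L := by
  obtain ⟨hLL, hLC⟩ := centrallyLarge_iff.mp hL
  calc cz (thompsonSubgroupA P ⊓ cz (thompsonSubgroupA P))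
      ≤ cz (cz L) := cz_anti (le_inf ((cz_anti hJ).trans center_thompsonA_eq) (cz_anti hJ))
    _ = L := (cz_large hLL).2

theorem thompsonA_le_sup {Q : Subgroup P} (hQ : IsCentrallyLarge Q) :
    IsCentrallyLarge (Q ⊔ thompsonSubgroupA P) := by
  have : Q ⊔ thompsonSubgroupA P = sSup ((fun A => Q ⊔ A) '' maxAbelianSubgroups P) := by
    refine le_antisymm (sup_le ?_ (sSup_le fun A hA => ?_)) (sSup_le ?_)
    · obtain ⟨A, hA⟩ := exists_maxAbelian (P := P)
      exact le_sup_left.trans (le_sSup (a := Q ⊔ A) ⟨A, hA, rfl⟩)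
    · exact le_sup_right.trans (le_sSup (a := Q ⊔ A) ⟨A, hA, rfl⟩)
    · rintro _ ⟨A, hA, rfl⟩
      exact sup_le_sup_left (le_sSup hA) _
  rw [this]
  refine cl_sSup (exists_maxAbelian.image _) ?_
  rintro _ ⟨A, hA, rfl⟩
  exact (cl_abelian hQ hA).2.1

theorem cz_center_thompsonA_le_join :
    cz (thompsonSubgroupA P ⊓ cz (thompsonSubgroupA P)) ≤ centrallyLargeJoin P :=
  cz_center_thompsonA_le centrallyLargeJoin_cl
    (le_sup_right.trans (le_sSup (thompsonA_le_sup centrallyLargeJoin_cl)))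

theorem minimal_eq_inf_sup {Q R : Subgroup P} (hQ : IsMinimalCentrallyLarge Q)
    (hR : IsMinimalCentrallyLarge R) : (Q ⊓ R) ⊔ cz Q = Q := by
  obtain ⟨hQL, hQC⟩ := centrallyLarge_iff.mp hQ.1
  obtain ⟨hRL, hRC⟩ := centrallyLarge_iff.mp hR.1
  set X := (Q ⊓ R) ⊔ cz Q with hXdef
  have hX : IsCentralizerLarge X := (cd (cd hQL hRL).2.1 (cz_large hQL).1).1
  have hXQ : X ≤ Q := sup_le inf_le_left hQC
  refine hQ.2 X hXQ (centrallyLarge_iff.mpr ⟨hX, fun g hg => ?_⟩)
  rw [hXdef, cz, centralizer_sup] at hg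
  obtain ⟨h1, h2⟩ := hg
  have h3 : g ∈ Q := (cz_large hQL).2.le h2
  have h4 : g ∈ ((cz Q ⊔ cz R : Subgroup P) : Set P) := (cd hQL hRL).2.2.2.le h1
  rw [(cd (cz_large hQL).1 (cz_large hRL).1).2.2.1] at h4
  obtain ⟨c, hc, d, hd, rfl⟩ := h4
  refine X.mul_mem (Subgroup.mem_sup_right hc) (Subgroup.mem_sup_left ⟨?_, hRC hd⟩)
  have := Q.mul_mem (Q.inv_mem (hQC hc)) h3
  simpa using this

theorem minimal_commutator_le {Q R : Subgroup P} (hQ : IsMinimalCentrallyLarge Q)
    (hR : IsMinimalCentrallyLarge R) : ⁅Q, Q⁆ ≤ ⁅R, R⁆ := by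
  obtain ⟨hQL, hQC⟩ := centrallyLarge_iff.mp hQ.1
  obtain ⟨hRL, -⟩ := centrallyLarge_iff.mp hR.1
  have hset := (cd (cd hQL hRL).2.1 (cz_large hQL).1).2.2.1
  rw [minimal_eq_inf_sup hQ hR] at hset
  rw [Subgroup.commutator_le]
  intro u hu v hv
  have hu' : u ∈ (Q : Set P) := hu
  have hv' : v ∈ (Q : Set P) := hv
  rw [hset] at hu' hv'
  obtain ⟨x, hx, z, hz, rfl⟩ := hu'
  obtain ⟨x', hx', z', hz', rfl⟩ := hv'
  have hcz : ∀ (c : P), c ∈ cz Q → ∀ g ∈ Q, Commute c g := fun c hc g hg =>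
    (Subgroup.mem_centralizer_iff.mp hc g hg).symm
  have e : ⁅x * z, x' * z'⁆ = ⁅x, x'⁆ := by
    have a1 := (hcz z hz x' hx'.1).eq
    have a2 := (hcz z hz z' (hQC hz')).eq
    have a3 := (hcz z' hz' x⁻¹ (Q.inv_mem hx.1)).eq
    rw [commutatorElement_def, commutatorElement_def, mul_inv_rev, mul_inv_rev]
    calc x * z * (x' * z') * (z⁻¹ * x⁻¹) * (z'⁻¹ * x'⁻¹)
        = x * (z * x') * z' * z⁻¹ * x⁻¹ * z'⁻¹ * x'⁻¹ := by group
      _ = x * x' * (z * z') * z⁻¹ * x⁻¹ * z'⁻¹ * x'⁻¹ := by rw [a1]; group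
      _ = x * x' * (z' * x⁻¹) * z'⁻¹ * x'⁻¹ := by rw [a2]; group
      _ = x * x' * x⁻¹ * x'⁻¹ := by rw [a3]; group
  rw [e]
  exact Subgroup.commutator_mem_commutator hx.2 hx'.2

theorem minimal_commutator_eq {Q R : Subgroup P} (hQ : IsMinimalCentrallyLarge Q)
    (hR : IsMinimalCentrallyLarge R) : ⁅Q, Q⁆ = ⁅R, R⁆ :=
  le_antisymm (minimal_commutator_le hQ hR) (minimal_commutator_le hR hQ)

theorem minimal_card_eq {Q R : Subgroup P} (hQ : IsMinimalCentrallyLarge Q)
    (hR : IsMinimalCentrallyLarge R) :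
    Nat.card ↥Q = Nat.card ↥R ∧ Nat.card ↥(cz Q) = Nat.card ↥(cz R) := by
  have key : ∀ {Q R : Subgroup P}, IsMinimalCentrallyLarge Q → IsMinimalCentrallyLarge R →
      Nat.card ↥Q * Nat.card ↥(cz Q ⊓ cz R) = Nat.card ↥(Q ⊓ R) * Nat.card ↥(cz Q) := by
    intro Q R hQ hR
    obtain ⟨hQL, hQC⟩ := centrallyLarge_iff.mp hQ.1
    obtain ⟨hRL, hRC⟩ := centrallyLarge_iff.mp hR.1
    have e := minimal_eq_inf_sup hQ hR
    have hcap : (Q ⊓ R) ⊓ cz Q = cz Q ⊓ cz R := by
      refine le_antisymm (le_inf inf_le_right ?_) (le_inf (le_inf (inf_le_left.trans hQC)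
        (inf_le_right.trans hRC)) inf_le_left)
      intro g hg
      have h2 : g ∈ cz ((R ⊓ Q) ⊔ cz R) := by
        rw [cz, centralizer_sup]
        refine ⟨(cz_anti inf_le_right) hg.2, ?_⟩
        exact le_cz_cz R hg.1.2
      rwa [minimal_eq_inf_sup hR hQ] at h2
    have hset := (cd (cd hQL hRL).2.1 (cz_large hQL).1).2.2.1
    have h1 := card_mul_card_inf (Q ⊓ R) (cz Q)
    rw [← hset] at h1
    rw [e, hcap] at h1
    exact h1
  have k1 := key hQ hR
  have k2 := key hR hQ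
  rw [inf_comm (cz R), inf_comm R] at k2
  have hQf : Nat.card ↥Q * Nat.card ↥(cz Q) = maxCentralizerProduct P :=
    (centrallyLarge_iff.mp hQ.1).1
  have hRf : Nat.card ↥R * Nat.card ↥(cz R) = maxCentralizerProduct P :=
    (centrallyLarge_iff.mp hR.1).1
  set q := Nat.card ↥Q
  set r := Nat.card ↥R
  set zq := Nat.card ↥(cz Q)
  set zr := Nat.card ↥(cz R)
  set d := Nat.card ↥(Q ⊓ R)
  set i := Nat.card ↥(cz Q ⊓ cz R)
  have hd : 0 < d := Nat.card_pos
  have hi : 0 < i := Nat.card_pos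
  have hz : zq = zr := by
    have : d * (zq * zq) = d * (zr * zr) := by
      calc d * (zq * zq) = (d * zq) * zq := by ring
        _ = (q * zq) * i := by rw [← k1]; ring
        _ = (r * zr) * i := by rw [hQf, hRf]
        _ = (d * zr) * zr := by rw [← k2]; ring
        _ = _ := by ring
    exact Nat.mul_self_inj.mp (Nat.eq_of_mul_eq_mul_left hd this)
  exact ⟨Nat.eq_of_mul_eq_mul_right hi (k1.trans (hz ▸ k2.symm)), hz⟩

theorem abelian_minimal_iff {Q : Subgroup P} (hQ : IsMinimalCentrallyLarge Q)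
    (hab : IsMulCommutative ↥Q) (X : Subgroup P) :
    IsMinimalCentrallyLarge X ↔ X ∈ maxAbelianSubgroups P := by
  have hQc : cz Q = Q :=
    le_antisymm (centrallyLarge_iff.mp hQ.1).2 (isMulCommutative_iff_le_cz.mp hab)
  have hmin : ∀ Y : Subgroup P, IsMinimalCentrallyLarge Y → IsMulCommutative ↥Y ∧ Nat.card ↥Y = Nat.card ↥Q := by
    intro Y hY
    refine ⟨?_, (minimal_card_eq hY hQ).1⟩
    have h0 : ⁅Q, Q⁆ = ⊥ := Subgroup.commutator_eq_bot_iff_le_centralizer.mpr hQc.ge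
    rw [← minimal_commutator_eq hY hQ, Subgroup.commutator_eq_bot_iff_le_centralizer] at h0
    exact isMulCommutative_iff_le_cz.mpr h0
  have hf : maxCentralProduct P = Nat.card ↥Q * Nat.card ↥Q := by
    have := (centrallyLarge_iff.mp hQ.1).1
    rw [IsCentralizerLarge, ← maxCentralProduct_eq] at this
    conv_lhs => rw [← this]
    change Nat.card ↥Q * Nat.card ↥(cz Q) = _
    rw [hQc]
  have hbound : ∀ B : Subgroup P, IsMulCommutative ↥B → Nat.card ↥B ≤ Nat.card ↥Q := by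
    intro B hB
    exact Nat.mul_self_le_mul_self_iff.mp (hf ▸ abelian_sq_le hB)
  constructor
  · intro hX
    exact ⟨(hmin X hX).1, fun B hB => (hmin X hX).2 ▸ hbound B hB⟩
  · intro hX
    have hcard : Nat.card ↥X = Nat.card ↥Q := le_antisymm (hbound X hX.1) (hX.2 Q hab)
    have hCL : IsCentrallyLarge X := by
      show Nat.card ↥X * Nat.card ↥(Subgroup.center ↥X) = maxCentralProduct P
      rw [card_center, inf_eq_left.mpr (isMulCommutative_iff_le_cz.mp hX.1), hcard, hf]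
    obtain ⟨Y, hY, hYX⟩ := exists_minimal_le hCL
    have : Y = X := Subgroup.eq_of_le_of_card_ge hYX (by rw [hcard, (hmin Y hY).2])
    exact this ▸ hY

theorem abelian_of_thompsonA_top (hJ : thompsonSubgroupA P = ⊤)
    (hsq : ∀ A ∈ maxAbelianSubgroups P, Nat.card ↥A ^ 2 = Nat.card P * Nat.card ↥(Subgroup.center P))
    {Q : Subgroup P} (hQ : IsMinimalCentrallyLarge Q) : IsMulCommutative ↥Q := by
  have htop : IsCentrallyLarge (⊤ : Subgroup P) := by
    have := thompsonA_le_sup hQ.1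
    rwa [hJ, sup_top_eq] at this
  obtain ⟨A, hA⟩ := exists_maxAbelian (P := P)
  obtain ⟨-, -, hB, -, -⟩ := cl_abelian hQ.1 hA
  set B := (Q ⊓ A) ⊔ cz Q with hBdef
  have hBQ : B ≤ Q := sup_le inf_le_left (centrallyLarge_iff.mp hQ.1).2
  have hf : Nat.card ↥B * Nat.card ↥B = maxCentralProduct P := by
    have h1 : Nat.card ↥(⊤ : Subgroup P) * Nat.card ↥(Subgroup.center ↥(⊤ : Subgroup P)) =
        maxCentralProduct P := htop
    rw [card_center, top_inf_eq, Subgroup.card_top] at h1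
    rw [← sq, hsq B hB, ← h1, cz, Subgroup.coe_top, Subgroup.centralizer_univ]
  have hCL : IsCentrallyLarge B := by
    show Nat.card ↥B * Nat.card ↥(Subgroup.center ↥B) = maxCentralProduct P
    rw [card_center, inf_eq_left.mpr (isMulCommutative_iff_le_cz.mp hB.1), hf]
  rw [← hQ.2 B hBQ hCL]
  exact hB.1

theorem thompsonA_eq_of_abelian (h : ∀ Q : Subgroup P, IsMinimalCentrallyLarge Q → IsMulCommutative ↥Q) :
    cz (thompsonSubgroupA P ⊓ cz (thompsonSubgroupA P)) = thompsonSubgroupA P := by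
  obtain ⟨Q, hQ⟩ := exists_centrallyLarge (P := P)
  obtain ⟨R, hR, -⟩ := exists_minimal_le hQ
  have hJ : IsCentrallyLarge (thompsonSubgroupA P) := by
    refine cl_sSup exists_maxAbelian fun A hA => ?_
    exact ((abelian_minimal_iff hR (h R hR) A).mpr hA).1
  rw [cl_inf_cz hJ]
  exact (cz_large (centrallyLarge_iff.mp hJ).1).2

end Cfsg.Agent.Lib.LAEven57.CL
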