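import Cfsg.Agent.Lib.LAEven57.GlaubermanCenter
import Cfsg.Agent.Lib.FusionSystem.ControlFocal
import Cfsg.Agent.Lib.FusionSystem.Group
import Cfsg.Agent.Lib.FusionP3.Agemo
import Cfsg.Agent.Lib.ZJ.Control

/-!
# Centres of fusion systems and splitting of fixed points

`mem_center_of_fixed` : for odd `p` a point of `Z(S)` fixed by `Aut_F(J(S))` is central in `F`.
`exists_split` : averaging over `N / S` splits `M ∩ C(N)` off `M ∩ C(S)`.
-/

set_option autoImplicit false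
set_option linter.style.haveILetI false
set_option linter.unusedSectionVars false

open Cfsg

namespace Cfsg.Agent.Lib.LAEven57.CentreSplit

universe u

open Cfsg.FusionSystem Cfsg.Agent.Lib Cfsg.Agent.Lib.FS

theorem exists_pow_eq_self_of_coprime' {G : Type*} [Group G] (c : G) {m n : ℕ} (hn : orderOf c ∣ n)
    (h : m.Coprime n) : ∃ e : ℕ, (c ^ m) ^ e = c :=
  exists_pow_eq_self_of_coprime (h.coprime_dvd_right hn)

theorem center_le_J {Ω : Type u} [Group Ω] {S : Subgroup Ω} [Finite S] :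
    S ⊓ Subgroup.centralizer (S : Set Ω) ≤ thompsonSubgroupAOf S := by
  intro z hz
  obtain ⟨A, hA⟩ := Transfer.AbelianJ.maxAbIn_nonempty (⊤ : Subgroup S)
  set z' : S := ⟨z, hz.1⟩
  have hzc : ∀ a : S, a * z' = z' * a := fun a => Subtype.ext (Subgroup.mem_centralizer_iff.1 hz.2 a a.2)
  have hcomm : IsMulCommutative (Subgroup.closure ((A : Set S) ∪ {z'})) := by
    refine Subgroup.isMulCommutative_closure ?_
    rintro a (ha | rfl) b (hb | rfl)
    · exact congrArg Subtype.val (hA.2.1.is_comm.comm (⟨a, ha⟩ : A) ⟨b, hb⟩)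
    · exact hzc a
    · exact (hzc b).symm
    · rfl
  have hle : A ≤ Subgroup.closure ((A : Set S) ∪ {z'}) := fun a ha => Subgroup.subset_closure (Or.inl ha)
  have he := Subgroup.eq_of_le_of_card_ge hle (hA.2.2 _ le_top hcomm)
  refine ⟨z', ?_, rfl⟩
  rw [← ZJ.thompsonSubgroupAOf_top]
  exact Transfer.AbelianJ.le_thompsonSubgroupAOf hA (he.ge (Subgroup.subset_closure (Or.inr rfl)))

/-- The centre of `F` is the set of points of `Z(S)` fixed by `Aut_F(J(S))`. -/
theorem mem_center_of_fixed {Ω : Type u} [Group Ω] {S : Subgroup Ω} [Finite S] {p : ℕ} [Fact p.Prime]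
    (hp : p ≠ 2) (hS : IsPGroup p S) {F : FusionSystem S} (hF : F.IsSaturated p) {z : Ω}
    (hz : z ∈ S ⊓ Subgroup.centralizer (S : Set Ω))
    (hfix : ∀ (α : F.autGroup (thompsonSubgroupAOf S)) (h : z ∈ thompsonSubgroupAOf S),
      (((α : MulAut (thompsonSubgroupAOf S)) ⟨z, h⟩ : thompsonSubgroupAOf S) : Ω) = z) :
    z ∈ F.center := by
  let W : ∀ (Q : Type u) [Group Q], Subgroup Q := fun Q _ => thompsonSubgroupA Q
  have hW2 : ∀ (Q R : Type u) [Group Q] [Group R] [Finite Q], IsPGroup p Q → ∀ φ : Q ≃* R,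
      (W Q).map φ.toMonoidHom = W R := fun Q R _ _ _ _ φ => by
    show (thompsonSubgroupA Q).map φ.toMonoidHom = thompsonSubgroupA R
    rw [← ZJ.thompsonSubgroupAOf_top, Transfer.AbelianJ.map_thompsonSubgroupAOf _ φ.injective,
      Subgroup.map_top_of_surjective _ φ.surjective, ZJ.thompsonSubgroupAOf_top]
  have hW1 : ∀ (Q : Type u) [Group Q] [Finite Q], IsPGroup p Q → Nontrivial Q → W Q ≠ ⊥ :=
    fun Q _ _ _ _ h => Transfer.AbelianJ.thompsonSubgroupAOf_ne_bot (P := (⊤ : Subgroup Q))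
      (fun h' => top_ne_bot h') ((ZJ.thompsonSubgroupAOf_top Q).trans h)
  have hC : ∀ (G : Type u) [Group G] [Finite G] (P : Sylow p G), pCore p G ⊓ Subgroup.center G =
      pCore p G ⊓ (Subgroup.center ↥(Subgroup.normalizer (Control.wOf W (P : Subgroup G) : Set G))).map
        (Subgroup.normalizer (Control.wOf W (P : Subgroup G) : Set G)).subtype := by
    intro G _ _ P
    refine le_antisymm ?_ ?_
    · rintro x ⟨hx, hxc⟩
      have hxn : x ∈ Subgroup.normalizer (Control.wOf W (P : Subgroup G) : Set G) :=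
        ConjFunctor.Basic.mem_normalizer_of_forall fun a ha => by
          rwa [← Subgroup.mem_center_iff.1 hxc a, mul_inv_cancel_right]
      exact ⟨hx, ⟨x, hxn⟩, Subgroup.mem_center_iff.2 fun g => Subtype.ext (Subgroup.mem_center_iff.1 hxc g), rfl⟩
    · rintro x ⟨hx, n, hn, rfl⟩
      exact ⟨hx, LAEven57.GlaubermanCenter.mem_center hp P hx fun g hg =>
        congrArg Subtype.val (Subgroup.mem_center_iff.1 hn ⟨g, hg⟩)⟩
  set J := thompsonSubgroupAOf S with hJ
  obtain ⟨N, hN⟩ := exists_normalizerSystem F (Q := J) (Control.wOf_le (W := W) S)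
  have hWn : S ≤ Subgroup.normalizer (J : Set Ω) := Control.le_normalizer_wOf (W := W) hW2 hS
  have heq : normalizerIn S J = S := inf_eq_left.2 hWn
  haveI : Finite (normalizerIn S J) := finite_sub (S := S) (normalizerIn_le _)
  have hNs := normalizerSystem_isSaturated hS hF
    (Control.isFullyNormalized_of_le_normalizer (Control.wOf_le (W := W) S) hWn) hN
  rw [← Control.center_eq (W := W) hW1 hW2 hC hS F hF N hN]
  have hzJ : z ∈ J := center_le_J hz
  suffices hc : N.IsCentral (Subgroup.zpowers z) from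
    le_sSup (show Subgroup.zpowers z ∈ {Q | N.IsCentral Q} from hc) (Subgroup.mem_zpowers z)
  refine (isCentral_iff (isPGroup_of_le hS (normalizerIn_le _)) hNs).2
    ⟨by rw [Subgroup.zpowers_le, heq]; exact hz.1, fun x hx y ⟨φ, hφ, hy⟩ => ?_⟩
  haveI : Finite J := finite_sub (Control.wOf_le (W := W) S)
  obtain ⟨-, -, -, ψ, hψ, he, hmap⟩ := (hN _).le hφ
  have hxJ : x ∈ J := (Subgroup.zpowers_le.2 hzJ) hx
  obtain ⟨ψ', hψ', he'⟩ := exists_restrict hψ (le_sup_right : J ≤ Subgroup.zpowers x ⊔ J)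
  have hr : ψ'.range = J := range_eq_of_mem hψ' (fun v => by
    rw [he']; exact hmap.le ⟨_, v.2, rfl⟩) le_rfl
  have hfx : ψ' ⟨x, hxJ⟩ = x := by
    obtain ⟨k, rfl⟩ := Subgroup.mem_zpowers_iff.1 hx
    have h1 : ψ' ⟨z, hzJ⟩ = z := hfix ⟨_, homEquiv_mem_autGroup hψ' hr⟩ hzJ
    rw [show (⟨z ^ k, hxJ⟩ : J) = ⟨z, hzJ⟩ ^ k from Subtype.ext rfl, map_zpow, h1]
  rw [← hy, ← he]
  refine Eq.trans ?_ hfx
  rw [he']
  rfl

/-- The transfer `z ↦ ∏ q z q⁻¹` over `N / S` retracts `M ∩ C(S)` onto `M ∩ C(N)`. -/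
theorem exists_split {G : Type u} [Group G] [Finite G] {p : ℕ} [Fact p.Prime] (S : Sylow p G) {N M : Subgroup G}
    (hSN : (S : Subgroup G) ≤ N) (hMS : M ≤ (S : Subgroup G)) (hMn : N ≤ Subgroup.normalizer (M : Set G))
    (hMc : ∀ a ∈ M, ∀ b ∈ M, a * b = b * a) :
    ∃ K : Subgroup G, K ≤ M ⊓ Subgroup.centralizer ((S : Subgroup G) : Set G) ∧
      (M ⊓ Subgroup.centralizer (N : Set G)) ⊓ K = ⊥ ∧
      (M ⊓ Subgroup.centralizer (N : Set G)) ⊔ K = M ⊓ Subgroup.centralizer ((S : Subgroup G) : Set G) := by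
  classical
  set Sg : Subgroup G := (S : Subgroup G) with hSg
  set Z := M ⊓ Subgroup.centralizer (Sg : Set G) with hZ
  set X := M ⊓ Subgroup.centralizer (N : Set G) with hX
  letI : CommGroup M := { mul_comm := fun a b => Subtype.ext (hMc a a.2 b b.2) }
  have hXZ : X ≤ Z := inf_le_inf_left _ (Subgroup.centralizer_le hSN)
  let r : N →* MulAut M := M.normalizerMonoidHom.comp (Subgroup.inclusion hMn)
  have hr : ∀ (n : N) (v : M), ((r n v : M) : G) = n * v * (n : G)⁻¹ := fun n v => rfl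
  set B := Sg.subgroupOf N with hB
  haveI : Fintype (N ⧸ B) := Fintype.ofFinite _
  have hm : ¬ p ∣ B.index := fun h =>
    S.not_dvd_index (h.trans ⟨N.index, (Subgroup.relIndex_mul_index hSN).symm⟩)
  set m := B.index with hmdef
  have hcard : Fintype.card (N ⧸ B) = m := by rw [← Nat.card_eq_fintype_card]; rfl
  let emb : Z → M := fun z => ⟨z, z.2.1⟩
  have hwd : ∀ α γ : N, (QuotientGroup.mk α : N ⧸ B) = QuotientGroup.mk γ → ∀ z : Z,
      r α (emb z) = r γ (emb z) := by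
    intro α γ h z
    have h1 : (α : G)⁻¹ * γ ∈ Sg := Subgroup.mem_subgroupOf.1 (QuotientGroup.eq.1 h)
    have h2 := Subgroup.mem_centralizer_iff.1 z.2.2 _ h1
    refine Subtype.ext ?_
    rw [hr, hr]
    calc (α : G) * z * (α : G)⁻¹ = (α : G) * (((α : G)⁻¹ * γ) * z * ((α : G)⁻¹ * γ)⁻¹) * (α : G)⁻¹ := by
          rw [h2, mul_inv_cancel_right]
      _ = γ * z * (γ : G)⁻¹ := by group
  let τ : Z →* M := MonoidHom.mk' (fun z => ∏ q : N ⧸ B, r q.out (emb z)) fun a b => by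
    rw [← Finset.prod_mul_distrib]
    exact Finset.prod_congr rfl fun q _ => map_mul (r q.out) (emb a) (emb b)
  have hτX : ∀ z : Z, ((τ z : M) : G) ∈ X := by
    intro z
    refine ⟨(τ z).2, Subgroup.mem_centralizer_iff.2 fun n hn => mul_inv_eq_iff_eq_mul.1 ?_⟩
    suffices h : r ⟨n, hn⟩ (τ z) = τ z from congrArg Subtype.val h
    show r _ (∏ q : N ⧸ B, r q.out (emb z)) = ∏ q : N ⧸ B, r q.out (emb z)
    rw [map_prod]
    refine Fintype.prod_equiv (MulAction.toPerm (⟨n, hn⟩ : N)) _ _ fun q => ?_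
    rw [← MulAut.mul_apply, ← map_mul]
    refine hwd _ _ ?_ z
    rw [MulAction.toPerm_apply, QuotientGroup.out_eq']
    conv_rhs => rw [← QuotientGroup.out_eq' q, MulAction.Quotient.smul_mk]
    rfl
  have hτc : ∀ z : Z, (z : G) ∈ X → ((τ z : M) : G) = (z : G) ^ m := by
    intro z hz
    have h1 : ∀ q : N ⧸ B, r q.out (emb z) = emb z := fun q => Subtype.ext (by
      rw [hr, Subgroup.mem_centralizer_iff.1 hz.2 _ (q.out : N).2, mul_inv_cancel_right])
    show (((∏ q : N ⧸ B, r q.out (emb z)) : M) : G) = _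
    rw [Finset.prod_congr rfl fun q _ => h1 q, Finset.prod_const, Finset.card_univ, hcard]
    rfl
  have hcop : ∀ k, m.Coprime (p ^ k) := fun k =>
    (((Fact.out : p.Prime).coprime_iff_not_dvd.2 hm).symm.pow_right k)
  refine ⟨τ.ker.map Z.subtype, Subgroup.map_subtype_le _, ?_, le_antisymm ?_ fun z hz => ?_⟩
  · refine eq_bot_iff.2 ?_
    rintro x ⟨hx, v, hv, rfl⟩
    have h1 := hτc v hx
    rw [MonoidHom.mem_ker.1 hv] at h1
    obtain ⟨k, hk⟩ := S.2 ⟨v, hMS v.2.1⟩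
    exact Subgroup.mem_bot.2 (orderOf_eq_one_iff.1 (Nat.eq_one_of_dvd_coprimes (hcop k)
      (orderOf_dvd_of_pow_eq_one h1.symm) (orderOf_dvd_of_pow_eq_one (congrArg Subtype.val hk))))
  · exact sup_le hXZ (Subgroup.map_subtype_le _)
  · set c := ((τ ⟨z, hz⟩ : M) : G) with hc
    have hcX : c ∈ X := hτX _
    obtain ⟨k, hk⟩ := S.2 ⟨c, hMS hcX.1⟩
    obtain ⟨e, he⟩ := exists_pow_eq_self_of_coprime' c
      (orderOf_dvd_of_pow_eq_one (congrArg Subtype.val hk)) (hcop k)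
    rw [← mul_inv_cancel_left (c ^ e) z]
    refine Subgroup.mul_mem_sup (pow_mem hcX e) (Subgroup.mem_map.2
      ⟨⟨(c ^ e)⁻¹ * z, Z.mul_mem (Z.inv_mem (hXZ (pow_mem hcX e))) hz⟩, ?_, rfl⟩)
    refine MonoidHom.mem_ker.2 (Subtype.ext ?_)
    have h2 := hτc ⟨c ^ e, hXZ (pow_mem hcX e)⟩ (pow_mem hcX e)
    rw [show (⟨(c ^ e)⁻¹ * z, Z.mul_mem (Z.inv_mem (hXZ (pow_mem hcX e))) hz⟩ : Z) =
      (⟨c ^ e, hXZ (pow_mem hcX e)⟩ : Z)⁻¹ * ⟨z, hz⟩ from rfl, map_mul, map_inv]
    simp only [Subgroup.coe_mul, Subgroup.coe_inv, h2, ← hc]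
    rw [← pow_mul, mul_comm e m, pow_mul, he, inv_mul_cancel]
    rfl

end Cfsg.Agent.Lib.LAEven57.CentreSplit
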