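import Cfsg.Prelude.Def_LocalStructure
import Cfsg.Agent.Lib.Linear.Order
import Cfsg.Agent.Lib.Linear.Simple

/-!
# Groups of least order with a non-normal Sylow `p`-subgroup

`le_card` : a finite group which is not `p`-closed has order at least
`min (p * m) (p * (p ^ 2 - 1) / 2)`, given the structure of simple groups of order below `p ^ 3`.
`exists_example` : that order occurs.
-/

set_option autoImplicit false
set_option linter.style.haveILetI false

namespace Cfsg.Agent.Lib.LAEven57.LeastNonClosed

variable {p : ℕ} [hp : Fact p.Prime]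

theorem not_closed_of_equiv {G H : Type*} [Group G] [Group H] (e : G ≃* H)
    (h : Cfsg.IsPClosed p H) [Finite G] : Cfsg.IsPClosed p G := fun P => by
  have h1 : ((P.mapSurjective e.surjective (f := e.toMonoidHom) : Sylow p H) : Subgroup H).Normal := h _
  have h2 : ((P : Subgroup G).map e.toMonoidHom).Normal := h1
  have h3 := h2.comap e.toMonoidHom
  rwa [Subgroup.comap_map_eq_self_of_injective e.injective] at h3

/-- A normal Sylow subgroup of a normal subgroup is normal. -/
theorem normal_of_closed_normal {H : Type*} [Group H] [Finite H] {N : Subgroup H} [N.Normal]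
    (h : Cfsg.IsPClosed p N) (Q : Sylow p N) : ((Q : Subgroup N).map N.subtype).Normal := by
  have : (Q : Subgroup N).Normal := h Q
  have := Q.characteristic_of_normal this
  exact ConjAct.normal_of_characteristic_of_normal

theorem index_dvd_card {H : Type*} [Group H] [Finite H] (A : Subgroup H) {K : Subgroup H} [K.Normal]
    (h : A ⊔ K = ⊤) : A.index ∣ Nat.card K := by
  have h1 : K.index = K.relIndex A := by
    rw [← Subgroup.relIndex_sup_right (H := A), h, Subgroup.relIndex_top_right]
  have h2 := (K.subgroupOf A).card_mul_index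
  have h3 : (K.subgroupOf A).index = K.index := h1.symm
  rw [h3] at h2
  refine ⟨Nat.card (K.subgroupOf A), ?_⟩
  refine Nat.eq_of_mul_eq_mul_right (Nat.pos_of_ne_zero (K.index_ne_zero_of_finite)) ?_
  rw [mul_assoc, h2, K.card_mul_index, mul_comm, A.card_mul_index]

theorem le_card (hp2 : p ≠ 2) {m : ℕ} (hm : ∀ k : ℕ, IsPrimePow k → k % p = 1 → m ≤ k)
    (key : ∀ (G : Type) [Group G] [Finite G] [IsSimpleGroup G], ¬ IsCyclic G → p ∣ Nat.card G →
      Nat.card G < p ^ 3 →
      (∃ (F : Type) (_ : Field F) (_ : Fintype F), Fintype.card F = p ∧ 3 < p ∧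
          Nonempty (G ≃* Matrix.ProjectiveSpecialLinearGroup (Fin 2) F)) ∨
      (∃ (k : ℕ) (F : Type) (_ : Field F) (_ : Fintype F), Fintype.card F = 2 ^ k ∧ p = 2 ^ k + 1 ∧ 3 < p ∧
          Nonempty (G ≃* Matrix.ProjectiveSpecialLinearGroup (Fin 2) F))) :
    ∀ (N : ℕ) (H : Type) [Group H] [Finite H], Nat.card H = N → ¬ Cfsg.IsPClosed p H →
      min (p * m) (p * (p ^ 2 - 1) / 2) ≤ Nat.card H := by
  have hodd : p % 2 = 1 := Nat.odd_iff.1 (hp.out.odd_of_ne_two hp2)
  have hp3 : 3 ≤ p := by have := hp.out.two_le; omega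
  intro N
  induction N using Nat.strong_induction_on with
  | _ N ih =>
  intro H _ _ hN hnc
  classical
  obtain ⟨P, hP⟩ : ∃ P : Sylow p H, ¬ (P : Subgroup H).Normal := not_forall.1 hnc
  by_cases hsub : ∃ K : Subgroup H, K ≠ ⊤ ∧ ¬ Cfsg.IsPClosed p K
  · obtain ⟨K, hK, hKc⟩ := hsub
    have hlt : Nat.card K < Nat.card H := by
      refine lt_of_le_of_ne K.card_le_card_group fun he => hK (K.eq_top_of_card_eq he)
    exact (ih _ (hN ▸ hlt) K rfl hKc).trans hlt.le
  simp only [not_exists, not_and, not_not] at hsub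
  by_cases hquo : ∃ (K : Subgroup H) (_ : K.Normal), K ≠ ⊥ ∧ ¬ Cfsg.IsPClosed p (H ⧸ K)
  · obtain ⟨K, _, hK, hKc⟩ := hquo
    have hlt : Nat.card (H ⧸ K) < Nat.card H := by
      have := K.card_mul_index
      have h1 : 1 < Nat.card K := (Subgroup.one_lt_card_iff_ne_bot K).2 hK
      have h2 : 0 < K.index := Nat.pos_of_ne_zero Subgroup.index_ne_zero_of_finite
      show K.index < Nat.card H
      nlinarith
    exact (ih _ (hN ▸ hlt) (H ⧸ K) rfl hKc).trans hlt.le
  simp only [not_exists, not_and, not_not] at hquo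
  have hPne : (P : Subgroup H) ≠ ⊥ := fun h => hP (h ▸ inferInstance)
  have hdvd : p ∣ Nat.card H := by
    by_contra h
    exact hPne (Subgroup.card_eq_one.1 (by
      obtain ⟨k, hk⟩ := IsPGroup.iff_card.1 P.2
      rcases Nat.eq_zero_or_pos k with rfl | hk0
      · simpa using hk
      · exact absurd ((dvd_pow_self p hk0.ne').trans (hk ▸ Subgroup.card_subgroup_dvd_card _)) h))
  by_cases hsimple : IsSimpleGroup H
  · haveI := hsimple
    have hnoncyc : ¬ IsCyclic H := fun hc => by
      haveI := hc
      letI := IsCyclic.commGroup (α := H)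
      exact hP (Subgroup.normal_of_comm _)
    rcases lt_or_ge (Nat.card H) (p ^ 3) with hlt | hge
    · rcases key H hnoncyc hdvd hlt with ⟨F, _, _, hF, h3, ⟨e⟩⟩ | ⟨k, F, _, _, hF, hpk, h3, ⟨e⟩⟩
      · refine le_of_le_of_eq (min_le_right _ _) ?_
        rw [Nat.card_congr e.toEquiv]
        have h := Linear.two_mul_card_PSL_two_of_odd (F := F) (hF.symm ▸ hp.out.odd_of_ne_two hp2)
        rw [hF] at h
        rw [show p ^ 2 - 1 = (p - 1) * (p + 1) by
          rw [mul_comm, ← Nat.sq_sub_sq, one_pow], ← mul_assoc, ← h]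
        omega
      · refine (min_le_right _ _).trans ?_
        rw [Nat.card_congr e.toEquiv]
        have hk : k ≠ 0 := fun h => by rw [h] at hpk; omega
        have h := Linear.card_PSL_two_of_even (F := F)
          (hF.symm ▸ (Nat.even_pow.2 ⟨even_two, hk⟩))
        rw [hF] at h
        rw [h]
        refine Nat.div_le_of_le_mul ?_
        subst hpk
        have h4 : 4 ≤ 2 ^ k := by
          rcases k with _ | _ | k
          · exact absurd rfl hk
          · norm_num at h3
          · calc 4 = 2 ^ 2 := rfl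
              _ ≤ _ := Nat.pow_le_pow_right two_pos (by omega)
        obtain ⟨t, ht⟩ : ∃ t, 2 ^ k = t + 4 := ⟨2 ^ k - 4, by omega⟩
        rw [ht, show (t + 4 + 1) ^ 2 - 1 = (t + 4) * (t + 6) by
          rw [show (t + 4 + 1) ^ 2 = (t + 4) * (t + 6) + 1 by ring, Nat.add_sub_cancel],
          show t + 4 - 1 = t + 3 by omega]
        nlinarith [Nat.zero_le ((t + 5) * (t + 4) * t)]
    · refine (min_le_right _ _).trans (le_trans ?_ hge)
      refine le_trans (Nat.div_le_self _ _) ?_
      rw [pow_succ' p 2]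
      exact Nat.mul_le_mul_left _ (Nat.sub_le _ _)
  -- a proper nontrivial normal subgroup
  haveI : Nontrivial H := ⟨by
    obtain ⟨x, -, hx⟩ := SetLike.not_le_iff_exists.1
      (show ¬ (P : Subgroup H) ≤ ⊥ from fun h => hPne (le_bot_iff.1 h))
    exact ⟨x, 1, fun h => hx (h ▸ one_mem _)⟩⟩
  obtain ⟨K, hKn, hKb, hKt⟩ : ∃ K : Subgroup H, K.Normal ∧ K ≠ ⊥ ∧ K ≠ ⊤ := by
    by_contra h
    refine hsimple ⟨fun K hK => ?_⟩
    by_contra hc
    exact h ⟨K, hK, fun e => hc (Or.inl e), fun e => hc (Or.inr e)⟩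
  haveI := hKn
  have hsup : (P : Subgroup H) ⊔ K = ⊤ := by
    by_contra hne
    have hPK : ((P : Subgroup H) ⊔ K).Normal := by
      have h1 : (((P.mapSurjective (QuotientGroup.mk'_surjective K) : Sylow p (H ⧸ K))) :
          Subgroup (H ⧸ K)).Normal := hquo K hKn hKb _
      have h2 := h1.comap (QuotientGroup.mk' K)
      rwa [Sylow.coe_mapSurjective, Subgroup.comap_map_eq, QuotientGroup.ker_mk'] at h2
    haveI := hPK
    let Q : Sylow p ((P : Subgroup H) ⊔ K : Subgroup H) := P.subtype le_sup_left
    have := normal_of_closed_normal (hsub _ hne) Q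
    rw [Sylow.coe_subtype, Subgroup.map_subgroupOf_eq_of_le le_sup_left] at this
    exact hP this
  have hKp : ¬ p ∣ Nat.card K := by
    intro hd
    let Q : Sylow p K := default
    have hQn := normal_of_closed_normal (hsub K hKt) Q
    set Q' := (Q : Subgroup K).map K.subtype with hQ'
    have hQb : Q' ≠ ⊥ := fun h => by
      rw [hQ', Subgroup.map_eq_bot_iff_of_injective _ K.subtype_injective] at h
      exact Q.ne_bot_of_dvd_card hd h
    haveI := hQn
    have hQP : Q' ≤ P := (Q.2.map _).le_sylow_of_normal P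
    have h1 : (((P.mapSurjective (QuotientGroup.mk'_surjective Q') : Sylow p (H ⧸ Q'))) :
        Subgroup (H ⧸ Q')).Normal := hquo Q' hQn hQb _
    have h2 := h1.comap (QuotientGroup.mk' Q')
    rw [Sylow.coe_mapSurjective, Subgroup.comap_map_eq, QuotientGroup.ker_mk', sup_eq_left.2 hQP] at h2
    exact hP h2
  -- some invariant Sylow subgroup of `K` is moved
  have hKR : ∃ (r : ℕ) (_ : Fact r.Prime) (R : Subgroup H) (S : Sylow p H), IsPGroup r R ∧ R ≤ K ∧
      (S : Subgroup H) ≤ Subgroup.normalizer (R : Set H) ∧ (S : Subgroup H) ⊔ R = ⊤ := by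
    by_contra hno
    apply hP
    rw [← Subgroup.normalizer_eq_top_iff, eq_top_iff, ← hsup]
    refine sup_le Subgroup.le_normalizer ?_
    refine Subgroup.relIndex_eq_one.1 (Nat.eq_one_iff_not_exists_prime_dvd.2 fun r hr hrd => ?_)
    haveI := Fact.mk hr
    let R₀ : Sylow r K := default
    set R := (R₀ : Subgroup K).map K.subtype with hR
    have hF : Subgroup.normalizer (R : Set H) ⊔ K = ⊤ := Sylow.normalizer_sup_eq_top R₀
    let T : Sylow p (Subgroup.normalizer (R : Set H)) := default
    obtain ⟨S, hS⟩ := ((T.2.map (Subgroup.normalizer (R : Set H)).subtype)).exists_le_sylow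
    have hTS : (T : Subgroup (Subgroup.normalizer (R : Set H))).map
        (Subgroup.normalizer (R : Set H)).subtype = S := by
      refine Subgroup.eq_of_le_of_card_ge hS ?_
      rw [Subgroup.card_map_of_injective (Subgroup.subtype_injective _), T.card_eq_multiplicity,
        S.card_eq_multiplicity]
      refine Nat.pow_le_pow_right hp.out.pos ?_
      have hidx : ¬ p ∣ (Subgroup.normalizer (R : Set H)).index :=
        fun hd => hKp (hd.trans (index_dvd_card _ hF))
      rw [← (Subgroup.normalizer (R : Set H)).card_mul_index,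
        Nat.factorization_mul Nat.card_pos.ne' Subgroup.index_ne_zero_of_finite, Finsupp.add_apply,
        Nat.factorization_eq_zero_of_not_dvd hidx, add_zero]
    have hSR : (S : Subgroup H) ≤ Subgroup.normalizer (R : Set H) := hTS ▸ Subgroup.map_subtype_le _
    have hne : (S : Subgroup H) ⊔ R ≠ ⊤ := fun h =>
      hno ⟨r, inferInstance, R, S, R₀.2.map _, Subgroup.map_subtype_le _, hSR, h⟩
    let S' : Sylow p ((S : Subgroup H) ⊔ R : Subgroup H) := S.subtype le_sup_left
    have hRS : R ≤ Subgroup.normalizer ((S : Subgroup H) : Set H) := by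
      intro x hx
      have hn : (S' : Subgroup ((S : Subgroup H) ⊔ R : Subgroup H)).Normal := hsub _ hne S'
      rw [Sylow.coe_subtype] at hn
      exact (Subgroup.normal_subgroupOf_iff_le_normalizer le_sup_left).1 hn (Subgroup.mem_sup_right hx)
    obtain ⟨g, hg⟩ := MulAction.exists_smul_eq H S P
    -- `R^g` normalizes `P`
    have hKi : (Subgroup.normalizer ((P : Subgroup H) : Set H)).relIndex K ∣
        (R.map (MulAut.conj g).toMonoidHom).relIndex K := by
      refine Subgroup.relIndex_dvd_of_le_left K ?_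
      rintro _ ⟨x, hx, rfl⟩
      rw [← hg]
      refine Subgroup.mem_normalizer_iff.2 fun y => ?_
      have h := Subgroup.mem_normalizer_iff.1 (hRS hx) (g⁻¹ * y * g)
      simp only [Sylow.coe_subgroup_smul, Subgroup.mem_smul_pointwise_iff_exists, MulAut.smul_def,
        MulAut.conj_apply, MulEquiv.coe_toMonoidHom]
      constructor
      · rintro ⟨s, hs, rfl⟩
        exact ⟨x * s * x⁻¹, (Subgroup.mem_normalizer_iff.1 (hRS hx) s).1 hs, by group⟩
      · rintro ⟨s, hs, he⟩
        refine ⟨x⁻¹ * s * x, ?_, ?_⟩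
        · exact (Subgroup.mem_normalizer_iff'.1 (hRS hx) _).2 (by simpa [mul_assoc] using hs)
        · calc g * (x⁻¹ * s * x) * g⁻¹ = (g * x * g⁻¹)⁻¹ * (g * s * g⁻¹) * (g * x * g⁻¹) := by group
            _ = y := by rw [he]; group
    have hcard : (R.map (MulAut.conj g).toMonoidHom).relIndex K = R.relIndex K := by
      conv_lhs => rw [← Subgroup.Normal.map_conj_eq (H := K) g]
      exact Subgroup.relIndex_map_map_of_injective _ _ (MulAut.conj g).injective
    rw [hcard] at hKi
    refine R₀.not_dvd_index (hrd.trans (hKi.trans (dvd_of_eq ?_)))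
    rw [Subgroup.relIndex, hR, Subgroup.subgroupOf, Subgroup.comap_map_eq_self_of_injective K.subtype_injective]
  obtain ⟨r, _, R, S, hRr, hRK, hSR, hST⟩ := hKR
  have hidx : (S : Subgroup H).index ∣ Nat.card R := by
    haveI : R.Normal := Subgroup.normalizer_eq_top_iff.1 (eq_top_iff.2 (hST ▸ sup_le hSR Subgroup.le_normalizer))
    exact index_dvd_card _ hST
  obtain ⟨a, ha⟩ := IsPGroup.iff_card.1 hRr
  have hn1 : Nat.card (Sylow p H) ≠ 1 := fun h1 => hP (by
    haveI := (Nat.card_eq_one_iff_unique.1 h1).1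
    exact P.normal_of_subsingleton)
  have hnd : Nat.card (Sylow p H) ∣ r ^ a := ha ▸ (S.card_dvd_index.trans hidx)
  obtain ⟨b, -, hb⟩ := (Nat.dvd_prime_pow (Fact.out : r.Prime)).1 hnd
  have hb0 : b ≠ 0 := fun h => hn1 (by rw [hb, h, pow_zero])
  have hmod : Nat.card (Sylow p H) % p = 1 := by
    have := card_sylow_modEq_one p H
    rw [Nat.ModEq, Nat.one_mod_eq_one.2 hp.out.ne_one] at this
    exact this
  have hmle : m ≤ (S : Subgroup H).index := (hm _ (hb ▸ (Fact.out : r.Prime).isPrimePow.pow hb0) hmod).trans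
    (Nat.le_of_dvd (Nat.pos_of_ne_zero Subgroup.index_ne_zero_of_finite) S.card_dvd_index)
  refine (min_le_left _ _).trans ?_
  rw [← (S : Subgroup H).card_mul_index]
  refine Nat.mul_le_mul (Nat.le_of_dvd Nat.card_pos ?_) hmle
  exact S.dvd_card_of_dvd_card hdvd

theorem exists_example (hp2 : p ≠ 2) {m : ℕ} (hmp : IsPrimePow m) (hm1 : m % p = 1)
    (hm : ∀ k : ℕ, IsPrimePow k → k % p = 1 → m ≤ k) :
    ∃ (H : Type) (_ : Group H) (_ : Finite H), Nat.card H = min (p * m) (p * (p ^ 2 - 1) / 2) ∧
      ¬ Cfsg.IsPClosed p H := by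
  classical
  have hp1 := hp.out.two_le
  rcases le_or_gt (p * m) (p * (p ^ 2 - 1) / 2) with hle | hgt
  · -- the affine group
    obtain ⟨q, k, hq, hk, rfl⟩ := (isPrimePow_nat_iff m).1 hmp
    haveI := Fact.mk hq
    let F := GaloisField q k
    have hF : Nat.card F = q ^ k := GaloisField.card q k hk.ne'
    haveI : Fintype F := Fintype.ofFinite F
    have hdiv : p ∣ Nat.card Fˣ := by
      rw [Nat.card_units, hF]
      refine (Nat.modEq_iff_dvd' hmp.one_lt.le).1 ?_
      rw [Nat.ModEq, hm1, Nat.one_mod_eq_one.2 hp.out.ne_one]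
    obtain ⟨u, hu⟩ := exists_prime_orderOf_dvd_card' p hdiv
    let D := Subgroup.zpowers u
    let φ : D →* MulAut (Multiplicative F) :=
      MonoidHom.mk' (fun d => AddEquiv.toMultiplicative (DistribMulAction.toAddEquiv F (d : Fˣ))) fun a b => by
        ext x
        exact congrArg Multiplicative.ofAdd (mul_smul (a : Fˣ) (b : Fˣ) (Multiplicative.toAdd x))
    refine ⟨Multiplicative F ⋊[φ] D, inferInstance, Finite.of_equiv _ SemidirectProduct.equivProd.symm, ?_, ?_⟩
    · rw [min_eq_left hle, SemidirectProduct.card, Nat.card_congr Multiplicative.toAdd, hF, Nat.card_zpowers, hu,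
        mul_comm]
    · intro hcl
      haveI : Finite (Multiplicative F ⋊[φ] D) := Finite.of_equiv _ SemidirectProduct.equivProd.symm
      set i : D →* Multiplicative F ⋊[φ] D := SemidirectProduct.inr
      have hpD : IsPGroup p i.range := by
        refine IsPGroup.of_card (n := 1) ?_
        rw [← Nat.card_congr (MonoidHom.ofInjective SemidirectProduct.inr_injective).toEquiv, Nat.card_zpowers, hu,
          pow_one]
      obtain ⟨P, hP⟩ := hpD.exists_le_sylow
      have hPn : (P : Subgroup (Multiplicative F ⋊[φ] D)).Normal := hcl P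
      let d : D := ⟨u, Subgroup.mem_zpowers u⟩
      let x : Multiplicative F := Multiplicative.ofAdd (1 : F)
      have h1 : (SemidirectProduct.inl x * i d * (SemidirectProduct.inl x)⁻¹) * (i d)⁻¹ ∈ (P : Subgroup _) :=
        Subgroup.mul_mem _ (hPn.conj_mem _ (hP ⟨d, rfl⟩) _) (Subgroup.inv_mem _ (hP ⟨d, rfl⟩))
      have h2 : (SemidirectProduct.inl x * i d * (SemidirectProduct.inl x)⁻¹) * (i d)⁻¹ =
          SemidirectProduct.inl (x * (φ d x)⁻¹) := by
        rw [show x * (φ d x)⁻¹ = x * φ d x⁻¹ from congrArg (x * ·) (map_inv (φ d) x).symm, map_mul,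
          SemidirectProduct.inl_aut]
        rw [map_inv SemidirectProduct.inl x, map_inv]
        simp only [i]
        group
      rw [h2] at h1
      obtain ⟨j, hj⟩ := P.2 ⟨_, h1⟩
      have h3 : orderOf (x * (φ d x)⁻¹) ∣ p ^ j := by
        refine orderOf_dvd_of_pow_eq_one (SemidirectProduct.inl_injective (φ := φ) ?_)
        rw [map_pow, map_one]
        exact congrArg Subtype.val hj
      have h4 : orderOf (x * (φ d x)⁻¹) ∣ q ^ k := by
        rw [← hF, ← Nat.card_congr Multiplicative.toAdd]
        exact orderOf_dvd_natCard _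
      have hqp : q ≠ p := fun h => by
        subst h
        rw [Nat.mod_eq_zero_of_dvd (dvd_pow_self q hk.ne')] at hm1
        omega
      have h5 := orderOf_eq_one_iff.1 (Nat.eq_one_of_dvd_coprimes
        (((Nat.coprime_primes hp.out hq).2 hqp.symm).pow j k) h3 h4)
      rw [mul_inv_eq_one] at h5
      have h6 : (u : F) = 1 := by
        have := congrArg Multiplicative.toAdd h5
        simpa [x, φ, d, Units.smul_def] using this.symm
      rw [Units.val_eq_one.1 h6, orderOf_one] at hu
      omega
  · -- the simple group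
    have hp5 : 4 ≤ p := by
      by_contra h
      have hp3 : p = 3 := by omega
      subst hp3
      have h4 : m ≤ 4 := hm 4 (show IsPrimePow (2 ^ 2) from (Nat.prime_two.isPrimePow).pow (by norm_num)) (by norm_num)
      norm_num at hgt
      omega
    haveI : Fact p.Prime := hp
    haveI : IsSimpleGroup (Matrix.ProjectiveSpecialLinearGroup (Fin 2) (ZMod p)) :=
      Linear.isSimpleGroup_PSL le_rfl fun _ => by rw [Nat.card_zmod]; exact hp5
    refine ⟨Matrix.ProjectiveSpecialLinearGroup (Fin 2) (ZMod p), inferInstance, inferInstance, ?_, ?_⟩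
    · rw [min_eq_right hgt.le]
      have h := Linear.two_mul_card_PSL_two_of_odd (F := ZMod p) (by rw [ZMod.card]; exact hp.out.odd_of_ne_two hp2)
      rw [ZMod.card] at h
      rw [show p ^ 2 - 1 = (p - 1) * (p + 1) by rw [mul_comm, ← Nat.sq_sub_sq, one_pow], ← mul_assoc, ← h]
      omega
    · intro hcl
      have hcard : 2 * Nat.card (Matrix.ProjectiveSpecialLinearGroup (Fin 2) (ZMod p)) = p * (p - 1) * (p + 1) := by
        have h := Linear.two_mul_card_PSL_two_of_odd (F := ZMod p) (by rw [ZMod.card]; exact hp.out.odd_of_ne_two hp2)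
        rwa [ZMod.card] at h
      let P : Sylow p (Matrix.ProjectiveSpecialLinearGroup (Fin 2) (ZMod p)) := default
      rcases IsSimpleGroup.eq_bot_or_eq_top_of_normal _ (hcl P) with h | h
      · refine P.ne_bot_of_dvd_card ?_ h
        refine ((Nat.coprime_primes hp.out Nat.prime_two).2 hp2).dvd_of_dvd_mul_left ?_
        rw [hcard, mul_assoc]
        exact dvd_mul_right p _
      · obtain ⟨j, hj⟩ := IsPGroup.iff_card.1 P.2
        rw [h, Subgroup.card_top] at hj
        rw [hj] at hcard
        have h2 : 2 ∣ p ^ j * 2 := dvd_mul_left 2 _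
        have h3 : (p - 1) * (p + 1) ∣ 2 * p ^ j := ⟨p, by rw [hcard]; ring⟩
        have h4 : Nat.Coprime (p + 1) (p ^ j) := by
          refine Nat.Coprime.pow_right j ?_
          rw [Nat.coprime_comm]
          exact (hp.out.coprime_iff_not_dvd).2 fun hd => by
            have := (Nat.dvd_add_right dvd_rfl).1 hd
            exact hp.out.ne_one (Nat.dvd_one.1 this)
        have h5 := Nat.le_of_dvd two_pos (h4.dvd_of_dvd_mul_right ((dvd_mul_left (p + 1) (p - 1)).trans h3))
        omega

end Cfsg.Agent.Lib.LAEven57.LeastNonClosed
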