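import Cfsg.Agent.Lib.LAEven57.Basic
import Cfsg.Agent.Lib.LA5.Basic
import Mathlib.GroupTheory.Transfer
import Mathlib.GroupTheory.SpecificGroups.Cyclic
import Mathlib.GroupTheory.PGroup

/-!
A subgroup of prime index in a maximal subgroup with small intersections with its conjugates.
-/

set_option autoImplicit false

open scoped Pointwise

namespace Cfsg.Agent.Lib.LAEven57.MaxPrime

open Cfsg.Agent.Lib.LA5.Basic

variable {G : Type*} [Group G]

/-- The conjugate `g H g⁻¹`. -/
abbrev cj (g : G) (H : Subgroup G) : Subgroup G := H.map (MulAut.conj g).toMonoidHom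

theorem mem_cj {g x : G} {H : Subgroup G} : x ∈ cj g H ↔ g⁻¹ * x * g ∈ H := mem_conj_iff

theorem cj_mono {g : G} {H K : Subgroup G} (h : H ≤ K) : cj g H ≤ cj g K := Subgroup.map_mono h

theorem cj_cj (g h : G) (H : Subgroup G) : cj g (cj h H) = cj (g * h) H := map_conj_mul g h H

theorem cj_one (H : Subgroup G) : cj (1 : G) H = H := map_conj_one H

theorem cj_eq_iff {g : G} {H : Subgroup G} :
    cj g H = H ↔ g ∈ Subgroup.normalizer (H : Set G) := mem_normalizer_iff_conj_eq.symm

/-- Wielandt's transfer argument. -/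
theorem exists_normal_of_inf_conj_le [Finite G] (M H : Subgroup G) (hn : (H.subgroupOf M).Normal)
    (hp : (H.relIndex M).Prime) (hHM : H ≤ M) (hTI : ∀ g : G, g ∉ M → M ⊓ cj g M ≤ H) :
    ∃ N : Subgroup G, N.Normal ∧ N ⊓ M = H ∧ N ⊔ M = ⊤ := by
  classical
  haveI := hn
  haveI : Fact (Nat.card (↥M ⧸ H.subgroupOf M)).Prime := ⟨hp⟩
  haveI : IsCyclic (↥M ⧸ H.subgroupOf M) := isCyclic_of_prime_card rfl
  letI : CommGroup (↥M ⧸ H.subgroupOf M) := IsCyclic.commGroup
  let φ : ↥M →* ↥M ⧸ H.subgroupOf M := QuotientGroup.mk' (H.subgroupOf M)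
  haveI : M.FiniteIndex := inferInstance
  let V : G →* ↥M ⧸ H.subgroupOf M := MonoidHom.transfer φ
  have hV : ∀ x : ↥M, V (x : G) = φ x := by
    intro x
    show MonoidHom.transfer φ (x : G) = φ x
    letI : Fintype (Quotient (MulAction.orbitRel (Subgroup.zpowers (x : G)) (G ⧸ M))) := Fintype.ofFinite _
    rw [MonoidHom.transfer_eq_prod_quotient_orbitRel_zpowers_quot]
    set q₀ : Quotient (MulAction.orbitRel (Subgroup.zpowers (x : G)) (G ⧸ M)) :=
      Quotient.mk'' ((1 : G) : G ⧸ M) with hq₀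
    have hfix : ∀ (c : G ⧸ M), c = ((1 : G) : G ⧸ M) → (x : G) • c = c := by
      rintro c rfl
      rw [MulAction.Quotient.smul_coe, smul_eq_mul, mul_one, QuotientGroup.eq]
      simp
    have hout : q₀.out = ((1 : G) : G ⧸ M) := by
      obtain ⟨⟨k, hk⟩, e⟩ : q₀.out ∈ MulAction.orbit (Subgroup.zpowers (x : G)) ((1 : G) : G ⧸ M) :=
        MulAction.orbitRel_apply.mp (Quotient.exact' (Quotient.out_eq' q₀))
      obtain ⟨n, rfl⟩ := Subgroup.mem_zpowers_iff.mp hk
      rw [← e]
      show ((x : G) ^ n) • ((1 : G) : G ⧸ M) = _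
      rw [MulAction.Quotient.smul_coe, smul_eq_mul, mul_one, QuotientGroup.eq, mul_one]
      exact M.inv_mem (M.zpow_mem x.2 n)
    refine (Finset.prod_eq_single q₀ (fun q _ hq => ?_) (fun h => absurd (Finset.mem_univ _) h)).trans ?_
    · refine (QuotientGroup.eq_one_iff _).mpr ?_
      rw [Subgroup.mem_subgroupOf]
      set a := q.out.out with ha
      have haM : a ∉ M := by
        intro h
        apply hq
        have e : q.out = ((1 : G) : G ⧸ M) := by
          rw [← QuotientGroup.out_eq' q.out, QuotientGroup.eq]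
          simpa using h
        rw [← Quotient.out_eq' q, e]
      refine hTI a⁻¹ (fun h => haM (inv_inv a ▸ M.inv_mem h)) ⟨?_, ?_⟩
      · exact QuotientGroup.out_conj_pow_minimalPeriod_mem M (x : G) q.out
      · exact mem_cj.mpr (by
          simp only [inv_inv]
          simpa [mul_assoc, ha] using M.pow_mem x.2 _)
    · have h1 : Function.minimalPeriod (((x : G)) • · : G ⧸ M → G ⧸ M) q₀.out = 1 :=
        Function.minimalPeriod_eq_one_iff_isFixedPt.mpr (hfix _ hout)
      have hm : q₀.out.out ∈ M := by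
        have := QuotientGroup.out_eq' q₀.out
        rw [hout, QuotientGroup.eq, mul_one] at this
        rw [hout]
        simpa using this
      refine Eq.trans ?_ (show (φ ⟨_, hm⟩)⁻¹ * φ x * φ ⟨_, hm⟩ = φ x by
        rw [mul_comm (φ ⟨_, hm⟩)⁻¹, inv_mul_cancel_right])
      rw [← map_inv, ← map_mul, ← map_mul]
      congr 1
      apply Subtype.ext
      simp [h1]
  refine ⟨V.ker, MonoidHom.normal_ker V, ?_, ?_⟩
  · ext y
    constructor
    · rintro ⟨h1, h2⟩
      have := hV ⟨y, h2⟩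
      rw [MonoidHom.mem_ker.mp h1] at this
      exact Subgroup.mem_subgroupOf.mp ((QuotientGroup.eq_one_iff _).mp this.symm)
    · intro hy
      refine ⟨MonoidHom.mem_ker.mpr ?_, hHM hy⟩
      exact (hV ⟨y, hHM hy⟩).trans ((QuotientGroup.eq_one_iff _).mpr (Subgroup.mem_subgroupOf.mpr hy))
  · refine eq_top_iff.mpr fun y _ => ?_
    obtain ⟨m, hm⟩ := QuotientGroup.mk'_surjective (H.subgroupOf M) (V y)
    have h1 : y * (m : G)⁻¹ ∈ V.ker := by
      rw [MonoidHom.mem_ker, map_mul, map_inv, hV m]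
      show V y * (φ m)⁻¹ = 1
      rw [show φ m = V y from hm, mul_inv_cancel]
    simpa using Subgroup.mul_mem_sup h1 m.2

theorem sup_zpowers_eq [Finite G] {M H : Subgroup G} (hp : (H.relIndex M).Prime) (hHM : H ≤ M) {v : G}
    (hvM : v ∈ M) (hvH : v ∉ H) : H ⊔ Subgroup.zpowers v = M := by
  set L := H ⊔ Subgroup.zpowers v with hL
  have hLM : L ≤ M := sup_le hHM (Subgroup.zpowers_le.mpr hvM)
  have h := Subgroup.relIndex_mul_relIndex H L M le_sup_left hLM
  rcases (Nat.dvd_prime hp).mp (Dvd.intro_left _ h) with h1 | h1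
  · exact le_antisymm hLM (Subgroup.relIndex_eq_one.mp h1)
  · rw [h1] at h
    have : H.relIndex L = 1 := Nat.eq_of_mul_eq_mul_right hp.pos (h.trans (one_mul _).symm)
    exact absurd (Subgroup.relIndex_eq_one.mp this (Subgroup.mem_sup_right (Subgroup.mem_zpowers v))) hvH

theorem le_normalizer_sup {A B C : Subgroup G} (hA : C ≤ Subgroup.normalizer (A : Set G))
    (hB : C ≤ Subgroup.normalizer (B : Set G)) : C ≤ Subgroup.normalizer ((A ⊔ B : Subgroup G) : Set G) := by
  intro c hc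
  rw [← cj_eq_iff, cj, Subgroup.map_sup]
  exact congrArg₂ (· ⊔ ·) (cj_eq_iff.mpr (hA hc)) (cj_eq_iff.mpr (hB hc))

theorem le_normalizer_cj {H M : Subgroup G} (h : M ≤ Subgroup.normalizer (H : Set G)) (g : G) :
    cj g M ≤ Subgroup.normalizer ((cj g H : Subgroup G) : Set G) := by
  rintro _ ⟨m, hm, rfl⟩
  rw [← cj_eq_iff, cj_cj]
  show cj (g * m * g⁻¹ * g) H = _
  rw [inv_mul_cancel_right, ← cj_cj, cj_eq_iff.mpr (h hm)]

/-- The normal subgroup cutting `M` in `H`. -/
theorem exists_normal_inf_eq [Finite G] {M H : Subgroup G} (hM : IsCoatom M) (hHM : H ≤ M)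
    (hn : (H.subgroupOf M).Normal) (hp : (H.relIndex M).Prime) (hMn : ¬ M.Normal)
    (hcl : ∀ g : G, (H ⊔ cj g H) ⊓ M = H) :
    ∃ N : Subgroup G, N.Normal ∧ N ⊓ M = H ∧ N ⊔ M = ⊤ := by
  have hnM : M ≤ Subgroup.normalizer (H : Set G) := (Subgroup.normal_subgroupOf_iff_le_normalizer hHM).mp hn
  have hNM : Subgroup.normalizer (M : Set G) = M :=
    (hM.le_iff.mp Subgroup.le_normalizer).resolve_left fun e => hMn (Subgroup.normalizer_eq_top_iff.mp e)
  by_cases hall : ∀ g : G, g ∉ M → M ⊓ cj g M ≤ H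
  · exact exists_normal_of_inf_conj_le M H hn hp hHM hall
  push_neg at hall
  obtain ⟨g, hg, hle⟩ := hall
  obtain ⟨v, ⟨hvM, hvM'⟩, hvH⟩ := SetLike.not_le_iff_exists.mp hle
  have hvH' : v ∉ cj g H := fun h => hvH ((hcl g).le ⟨Subgroup.mem_sup_right h, hvM⟩)
  have e1 : H ⊔ Subgroup.zpowers v = M := sup_zpowers_eq hp hHM hvM hvH
  have hu : g⁻¹ * v * g ∈ M := mem_cj.mp hvM'
  have e2 : cj g H ⊔ Subgroup.zpowers v = cj g M := by
    have := congrArg (cj g) (sup_zpowers_eq hp hHM hu fun h => hvH' (mem_cj.mpr h))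
    rw [cj, Subgroup.map_sup, MonoidHom.map_zpowers] at this
    rw [show (MulAut.conj g).toMonoidHom (g⁻¹ * v * g) = v by simp [mul_assoc]] at this
    exact this
  set K := H ⊔ cj g H with hK
  have hne : M < M ⊔ cj g M := by
    refine lt_of_le_of_ne le_sup_left fun e => hg ?_
    have h' : cj g M ≤ M := e.symm.le.trans' le_sup_right
    exact hNM.le (cj_eq_iff.mp (Subgroup.eq_of_le_of_card_ge h' (card_conj g M).ge))
  have htop : M ⊔ cj g M = ⊤ := hM.2 _ hne
  have hKv : K ⊔ Subgroup.zpowers v = ⊤ := by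
    rw [eq_top_iff, ← htop]
    exact sup_le (e1.ge.trans (sup_le_sup_right le_sup_left _)) (e2.ge.trans (sup_le_sup_right le_sup_right _))
  have hvK : Subgroup.zpowers v ≤ Subgroup.normalizer (K : Set G) :=
    le_normalizer_sup ((Subgroup.zpowers_le.mpr hvM).trans hnM)
      ((Subgroup.zpowers_le.mpr hvM').trans (le_normalizer_cj hnM g))
  have hKn : K.Normal := Subgroup.normalizer_eq_top_iff.mp
    (eq_top_iff.mpr (hKv ▸ sup_le Subgroup.le_normalizer hvK))
  refine ⟨K, hKn, hcl g, eq_top_iff.mpr (hKv ▸ sup_le le_sup_left ?_)⟩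
  exact (Subgroup.zpowers_le.mpr hvM).trans le_sup_right

theorem closure_inf_eq [Finite G] {M H : Subgroup G} (hM : IsCoatom M) (hHM : H ≤ M)
    (hmaxH : IsCoatom (H.subgroupOf M)) (hcl : ∀ g : G, (H ⊔ cj g H) ⊓ M = H) :
    Subgroup.normalClosure (H : Set G) ⊓ M = H := by
  have hnM : M ≤ Subgroup.normalizer (H : Set G) := by
    intro m hm
    rw [← cj_eq_iff]
    refine Subgroup.eq_of_le_of_card_ge ?_ (card_conj m H).ge
    have h1 : cj m H ≤ M := by
      rintro _ ⟨x, hx, rfl⟩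
      exact M.mul_mem (M.mul_mem hm (hHM hx)) (M.inv_mem hm)
    exact le_trans (le_inf le_sup_right h1) (hcl m).le
  have hn : (H.subgroupOf M).Normal := (Subgroup.normal_subgroupOf_iff_le_normalizer hHM).mpr hnM
  refine le_antisymm ?_ (le_inf Subgroup.subset_normalClosure hHM)
  by_cases hMn : M.Normal
  · have hHn : H.Normal := ⟨fun h hh g => (hcl g).le
      ⟨Subgroup.mem_sup_right ⟨h, hh, rfl⟩, hMn.conj_mem h (hHM hh) g⟩⟩
    exact inf_le_left.trans (Subgroup.normalClosure_le_normal le_rfl)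
  haveI := hn
  have hp : (H.relIndex M).Prime := by
    obtain ⟨v, hv⟩ : ∃ v : ↥M, v ∉ H.subgroupOf M := by
      by_contra h
      push_neg at h
      exact hmaxH.1 (eq_top_iff.mpr fun x _ => h x)
    have hv1 : (v : ↥M ⧸ H.subgroupOf M) ≠ 1 := fun e => hv ((QuotientGroup.eq_one_iff v).mp e)
    haveI : Nontrivial (↥M ⧸ H.subgroupOf M) := ⟨⟨_, 1, hv1⟩⟩
    have hs := QuotientGroup.mk'_surjective (H.subgroupOf M)
    have hsub : ∀ L : Subgroup (↥M ⧸ H.subgroupOf M), L = ⊥ ∨ L = ⊤ := by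
      intro L
      rcases hmaxH.le_iff.mp (QuotientGroup.le_comap_mk' _ L) with h | h
      · exact Or.inr (Subgroup.comap_injective hs (h.trans (Subgroup.comap_top _).symm))
      · left
        refine Subgroup.comap_injective hs (h.trans ?_)
        rw [MonoidHom.comap_bot, QuotientGroup.ker_mk']
    haveI : IsCyclic (↥M ⧸ H.subgroupOf M) := by
      refine ⟨⟨(v : ↥M ⧸ H.subgroupOf M), fun x => ?_⟩⟩
      have hz := (hsub (Subgroup.zpowers (v : ↥M ⧸ H.subgroupOf M))).resolve_left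
        fun e => hv1 (Subgroup.zpowers_eq_bot.mp e)
      exact Subgroup.mem_zpowers_iff.mp (hz ▸ Subgroup.mem_top x)
    haveI : IsMulCommutative (↥M ⧸ H.subgroupOf M) :=
      ⟨⟨(IsCyclic.commGroup (α := ↥M ⧸ H.subgroupOf M)).mul_comm⟩⟩
    haveI : IsSimpleGroup (↥M ⧸ H.subgroupOf M) := ⟨fun L _ => hsub L⟩
    exact Group.is_simple_iff_prime_card.mp inferInstance
  obtain ⟨N, hN, hNM, -⟩ := exists_normal_inf_eq hM hHM hn hp hMn hcl
  haveI := hN
  exact (inf_le_inf_right M (Subgroup.normalClosure_le_normal (hNM ▸ inf_le_left : H ≤ N))).trans hNM.le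

theorem simple_exists_generating [Finite G] [IsSimpleGroup G] {M H : Subgroup G} (hM : IsCoatom M)
    (hHM : H ≤ M) (hn : (H.subgroupOf M).Normal) (hp : (H.relIndex M).Prime) :
    ∃ g : G, H ⊔ cj g H = ⊤ := by
  by_contra hc
  push_neg at hc
  have hnM : M ≤ Subgroup.normalizer (H : Set G) := (Subgroup.normal_subgroupOf_iff_le_normalizer hHM).mp hn
  have hHne : H ≠ M := by
    rintro rfl
    exact hp.ne_one (Subgroup.relIndex_self _)
  have hMbot : M ≠ ⊥ := fun e => hHne (le_antisymm hHM (e ▸ bot_le))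
  have hMn : ¬ M.Normal := fun h => h.eq_bot_or_eq_top.elim hMbot hM.1
  have hfix : ∀ g : G, cj g H ≤ M → cj g H = H := by
    intro g hle
    by_contra hne
    have hH0 : H ≠ ⊥ := fun e => hne (by rw [e]; exact Subgroup.map_bot _)
    have hNH : Subgroup.normalizer (H : Set G) = M := (hM.le_iff.mp hnM).resolve_left fun e => by
      rcases (Subgroup.normalizer_eq_top_iff.mp e).eq_bot_or_eq_top with h | h
      · exact hH0 h
      · exact hM.1 (top_le_iff.mp (h ▸ hHM))
    have hgM : g ∉ M := fun h => hne (cj_eq_iff.mpr (hnM h))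
    have hNM : Subgroup.normalizer (M : Set G) = M :=
      (hM.le_iff.mp Subgroup.le_normalizer).resolve_left fun e => hMn (Subgroup.normalizer_eq_top_iff.mp e)
    have hMg : cj g M ≠ M := fun e => hgM (hNM.le (cj_eq_iff.mp e))
    set H₁ := cj g H with hH₁
    have hsup : H ⊔ H₁ = M := by
      obtain ⟨v, hv, hvH⟩ : ∃ v ∈ H₁, v ∉ H := by
        by_contra h
        push_neg at h
        exact hne (Subgroup.eq_of_le_of_card_ge h (card_conj g H).ge)
      exact le_antisymm (sup_le hHM hle)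
        ((sup_zpowers_eq hp hHM (hle hv) hvH).ge.trans (sup_le_sup_left (Subgroup.zpowers_le.mpr hv) _))
    -- the intersection with the second conjugate
    have hcard : Nat.card ↥M = H.relIndex M * Nat.card ↥H := by
      rw [← Subgroup.index_mul_card (H.subgroupOf M), Nat.card_congr (Subgroup.subgroupOfEquivOfLe hHM).toEquiv]
      rfl
    have hMM : M ⊓ cj g M = H₁ := by
      by_contra hne'
      have hle' : H₁ ≤ M ⊓ cj g M := le_inf hle (cj_mono hHM)
      obtain ⟨v, hv, hv'⟩ := SetLike.exists_of_lt (lt_of_le_of_ne hle' (Ne.symm hne'))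
      have hv2 := mem_cj.mp hv.2
      have := congrArg (cj g) (sup_zpowers_eq hp hHM hv2 fun h => hv' (mem_cj.mpr h))
      rw [cj, Subgroup.map_sup, MonoidHom.map_zpowers] at this
      have hgv : (MulAut.conj g).toMonoidHom (g⁻¹ * v * g) = v := by simp [mul_assoc]
      rw [hgv] at this
      refine hMg (Subgroup.eq_of_le_of_card_ge ?_ (card_conj g M).ge)
      exact this.symm.le.trans (sup_le hle (Subgroup.zpowers_le.mpr hv.1))
    set H₂ := cj g H₁ with hH₂
    have hH₂M : ¬ H₂ ≤ M := by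
      intro h
      have h2 : H₂ ≤ H₁ := (le_inf h (cj_mono hle)).trans hMM.le
      have h3 : H₂ = H₁ := Subgroup.eq_of_le_of_card_ge h2 (card_conj g H₁).ge
      have h4 := congrArg (cj g⁻¹) h3
      rw [hH₂, cj_cj, inv_mul_cancel, cj_one, hH₁, cj_cj, inv_mul_cancel, cj_one] at h4
      exact hne h4
    have hK : (H ⊔ H₂) ⊓ M = H := by
      by_contra hne'
      obtain ⟨v, hv, hv'⟩ := SetLike.exists_of_lt
        (lt_of_le_of_ne (le_inf le_sup_left hHM) (Ne.symm hne') : H < (H ⊔ H₂) ⊓ M)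
      have hMK : M ≤ H ⊔ H₂ := (sup_zpowers_eq hp hHM hv.2 hv').ge.trans
        (sup_le le_sup_left (Subgroup.zpowers_le.mpr hv.1))
      rcases hM.le_iff.mp hMK with e | e
      · exact hc (g * g) (by rw [← cj_cj]; exact e)
      · exact hH₂M (e.le.trans' le_sup_right)
    set D := H ⊓ H₁ with hD
    have hgD : cj g D = D := by
      refine Subgroup.eq_of_le_of_card_ge ?_ (card_conj g D).ge
      have h1 : cj g D ≤ H₁ := cj_mono inf_le_left
      have h2 : cj g D ≤ H₂ := cj_mono inf_le_right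
      exact le_inf ((le_inf (h2.trans le_sup_right) (h1.trans hle)).trans hK.le) h1
    have hH₁D : H₁ ≤ Subgroup.normalizer (D : Set G) := by
      intro x hx
      rw [← cj_eq_iff]
      refine Subgroup.eq_of_le_of_card_ge ?_ (card_conj x D).ge
      exact le_inf ((cj_mono inf_le_left).trans (cj_eq_iff.mpr (hnM (hle hx))).le)
        ((cj_mono inf_le_right).trans (cj_eq_iff.mpr (Subgroup.le_normalizer hx)).le)
    have hgD' : cj g⁻¹ D = D := by
      conv_lhs => rw [← hgD]
      rw [cj_cj, inv_mul_cancel, cj_one]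
    have hHD : H ≤ Subgroup.normalizer (D : Set G) := by
      intro x hx
      have h1 : cj (g * x * g⁻¹) D = D := cj_eq_iff.mpr (hH₁D ⟨x, hx, rfl⟩)
      rw [← cj_eq_iff, show x = g⁻¹ * (g * x * g⁻¹ * g) by group, ← cj_cj, ← cj_cj, hgD, h1, hgD']
    have hMD : M ≤ Subgroup.normalizer (D : Set G) := hsup ▸ sup_le hHD hH₁D
    have hDtop : Subgroup.normalizer (D : Set G) = ⊤ :=
      (hM.le_iff.mp hMD).resolve_right fun e => hgM (e ▸ cj_eq_iff.mp hgD)
    have hDbot : D = ⊥ := by
      rcases (Subgroup.normalizer_eq_top_iff.mp hDtop).eq_bot_or_eq_top with h | h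
      · exact h
      · exact absurd (top_le_iff.mp (h ▸ inf_le_left.trans hHM)) hM.1
    have hmul : Nat.card ↥M = Nat.card ↥H * Nat.card ↥H := by
      have h1 := card_mul_card_inf H H₁
      rw [← Subgroup.coe_mul_of_right_le_normalizer_left H H₁ (hle.trans hnM), hsup, ← hD, hDbot,
        Subgroup.card_bot, mul_one] at h1
      rw [hH₁, card_conj] at h1
      exact h1
    haveI : Fact (H.relIndex M).Prime := ⟨hp⟩
    have hMcard : Nat.card ↥M = H.relIndex M ^ 2 := by
      rw [hcard, Nat.eq_of_mul_eq_mul_right Nat.card_pos (hcard.symm.trans hmul), sq]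
    have hcomm := (IsPGroup.isMulCommutative_of_card_eq_prime_sq hMcard).is_comm.comm
    refine hMg (Subgroup.eq_of_le_of_card_ge ?_ (card_conj g M).le).symm
    intro m hm
    refine mem_cj.mpr (hNH.le (cj_eq_iff.mp ?_))
    have hmH : cj m H₁ = H₁ := by
      refine Subgroup.eq_of_le_of_card_ge ?_ (card_conj m H₁).ge
      rintro _ ⟨y, hy, rfl⟩
      have := congrArg Subtype.val (hcomm (⟨m, hm⟩ : ↥M) ⟨y, hle hy⟩)
      show m * y * m⁻¹ ∈ H₁
      rw [show m * y = y * m from this, mul_inv_cancel_right]; exact hy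
    rw [hH₁] at hmH
    rw [← cj_cj, ← cj_cj, hmH, cj_cj, inv_mul_cancel, cj_one]
  have hcl : ∀ g : G, (H ⊔ cj g H) ⊓ M = H := by
    intro g
    by_cases hle : cj g H ≤ M
    · rw [hfix g hle, sup_idem, inf_eq_left.mpr hHM]
    · by_contra hne'
      obtain ⟨v, hv, hv'⟩ := SetLike.exists_of_lt
        (lt_of_le_of_ne (le_inf le_sup_left hHM) (Ne.symm hne') : H < (H ⊔ cj g H) ⊓ M)
      have hMK : M ≤ H ⊔ cj g H := (sup_zpowers_eq hp hHM hv.2 hv').ge.trans
        (sup_le le_sup_left (Subgroup.zpowers_le.mpr hv.1))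
      rcases hM.le_iff.mp hMK with e | e
      · exact hc g e
      · exact hle (e.le.trans' le_sup_right)
  obtain ⟨N, hN, hNM, hsup⟩ := exists_normal_inf_eq hM hHM hn hp hMn hcl
  rcases hN.eq_bot_or_eq_top with h | h
  · rw [h, bot_sup_eq] at hsup; exact hM.1 hsup
  · rw [h, top_inf_eq] at hNM; exact hHne hNM.symm

end Cfsg.Agent.Lib.LAEven57.MaxPrime
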