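import Cfsg.Prelude.Def_SylowChains

/-!
Chains of Sylow subgroups as a reflexive transitive relation, and their transport between subgroups.
-/

set_option autoImplicit false

namespace Cfsg.Agent.Lib.LAEven57.SylowConn

open Cfsg Relation

variable {G : Type*} [Group G] {p : ℕ}

theorem conjRight_conjRight (x y : G) (X : Subgroup G) :
    subgroupConjRight y (subgroupConjRight x X) = subgroupConjRight (x * y) X := by
  rw [subgroupConjRight, subgroupConjRight, subgroupConjRight, Subgroup.map_map]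
  congr 1
  ext z
  simp [mul_assoc]

theorem conjRight_one (X : Subgroup G) : subgroupConjRight (1 : G) X = X := by
  ext z
  simp [subgroupConjRight]

/-- One link of a chain. -/
def Step (p : ℕ) (𝓕 : Set (Subgroup G)) (D : Subgroup G) (A B : Sylow p G) : Prop :=
  ∃ X x, X ∈ sylowMembers p 𝓕 (A : Subgroup G) ∧ X ∈ sylowMembers p 𝓕 (B : Subgroup G) ∧ x ∈ X ∧
    subgroupConjRight x (B : Subgroup G) = (A : Subgroup G) ∧ D ≤ (A : Subgroup G) ⊓ X ∧ D ≤ (B : Subgroup G) ⊓ X

theorem Step.mono {𝓕 : Set (Subgroup G)} {D D' : Subgroup G} (h : D ≤ D') {A B : Sylow p G}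
    (hs : Step p 𝓕 D' A B) : Step p 𝓕 D A B := by
  obtain ⟨X, x, h1, h2, h3, h4, h5, h6⟩ := hs
  exact ⟨X, x, h1, h2, h3, h4, h.trans h5, h.trans h6⟩

theorem controls {𝓕 : Set (Subgroup G)}
    (h : ∀ S T : Sylow p G, S ≠ T → (S : Subgroup G) ⊓ T ≠ ⊥ →
      ReflTransGen (Step p 𝓕 ((S : Subgroup G) ⊓ T)) S T) :
    ControlsSylowIntersections p 𝓕 := by
  intro S T hne hD
  have hST := h S T hne hD
  generalize ((S : Subgroup G) ⊓ T) = D at hST ⊢
  clear h hD hne
  induction hST using ReflTransGen.head_induction_on with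
  | refl => exact ⟨0, fun _ => T, Fin.elim0, Fin.elim0, rfl, rfl, fun i => i.elim0⟩
  | @head A B hab _ ih =>
    obtain ⟨X, x, h1, h2, h3, h4, -, h6⟩ := hab
    obtain ⟨n, c, Y, y, hc0, hcn, hch⟩ := ih
    refine ⟨n + 1, Fin.cons A c, Fin.cons X Y, Fin.cons x y, rfl, ?_, ?_⟩
    · rw [← Fin.succ_last, Fin.cons_succ, hcn]
    · intro i
      cases i using Fin.cases with
      | zero =>
        simp only [Fin.castSucc_zero, Fin.cons_zero, Fin.cons_succ, hc0]
        exact ⟨h1, h2, h3, h4, h6⟩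
      | succ j =>
        simp only [← Fin.succ_castSucc, Fin.cons_succ]
        exact hch j

theorem conn_of_controls {𝓕 : Set (Subgroup G)} (h : ControlsSylowIntersections p 𝓕) {S T : Sylow p G}
    (hne : S ≠ T) {D : Subgroup G} (hD : D ≤ (S : Subgroup G) ⊓ T) (hD0 : D ≠ ⊥) :
    ReflTransGen (Step p 𝓕 D) S T := by
  obtain ⟨n, c, X, x, h0, hn, hch⟩ := h S T hne (fun e => hD0 (le_bot_iff.mp (e ▸ hD)))
  have hDc : ∀ i, D ≤ (c i : Subgroup G) := by
    intro i
    cases i using Fin.cases with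
    | zero => rw [h0]; exact hD.trans inf_le_left
    | succ j => exact hD.trans ((hch j).2.2.2.2.trans inf_le_left)
  have : ∀ i, ReflTransGen (Step p 𝓕 D) S (c i) := by
    intro i
    induction i using Fin.induction with
    | zero => rw [h0]
    | succ i ih =>
      obtain ⟨h1, h2, h3, h4, h5⟩ := hch i
      exact ih.tail ⟨X i, x i, h1, h2, h3, h4,
        le_inf (hDc _) (hD.trans (h5.trans inf_le_right)), hD.trans h5⟩
  rw [← hn]
  exact this _

variable [Finite G] [Fact p.Prime]

omit [Finite G] [Fact p.Prime] in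
theorem sylowMembers_of_le {𝓕 : Set (Subgroup G)} {X : Subgroup G} (hX : X ∈ 𝓕) (A : Sylow p G)
    (h : (A : Subgroup G) ≤ X) : X ∈ sylowMembers p 𝓕 (A : Subgroup G) := by
  refine ⟨hX, A.subtype h, ?_⟩
  rw [Sylow.coe_subtype, Subgroup.map_subgroupOf_eq_of_le h, inf_eq_left.mpr h]

theorem le_of_mem {𝓕 : Set (Subgroup G)} {X : Subgroup G} {A R : Sylow p G} (hR : (R : Subgroup G) ≤ X)
    (hX : X ∈ sylowMembers p 𝓕 (A : Subgroup G)) : (A : Subgroup G) ≤ X := by
  obtain ⟨-, P, hP⟩ := hX
  have h1 : Nat.card ((A : Subgroup G) ⊓ X : Subgroup G) = Nat.card (A : Subgroup G) := by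
    rw [← hP, Subgroup.card_map_of_injective X.subtype_injective, P.card_eq_multiplicity,
      ← (R.subtype hR).card_eq_multiplicity, Sylow.coe_subtype,
      Nat.card_congr (Subgroup.subgroupOfEquivOfLe hR).toEquiv, R.card_eq_multiplicity,
      A.card_eq_multiplicity]
  have h2 : (A : Subgroup G) ⊓ X = (A : Subgroup G) :=
    Subgroup.eq_of_le_of_card_ge inf_le_left h1.ge
  exact h2 ▸ inf_le_right

theorem card_map_sylow {M : Subgroup G} (A : Sylow p M) :
    Nat.card ((A : Subgroup M).map M.subtype) = p ^ (Nat.card M).factorization p := by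
  rw [Subgroup.card_map_of_injective M.subtype_injective, A.card_eq_multiplicity]

/-- A subgroup containing a Sylow subgroup: its Sylow subgroups are Sylow in the group. -/
theorem exists_sylow_map {M : Subgroup G} (S : Sylow p G) (hS : (S : Subgroup G) ≤ M) (A : Sylow p M) :
    ∃ Q : Sylow p G, (Q : Subgroup G) = (A : Subgroup M).map M.subtype := by
  obtain ⟨Q, hQ⟩ := (A.2.map M.subtype).exists_le_sylow
  refine ⟨Q, (Subgroup.eq_of_le_of_card_ge hQ (le_of_eq ?_)).symm⟩
  rw [card_map_sylow, ← card_map_sylow (S.subtype hS), Sylow.coe_subtype,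
    Subgroup.map_subgroupOf_eq_of_le hS, S.card_eq_multiplicity, Q.card_eq_multiplicity]

omit [Finite G] [Fact p.Prime] in
theorem functorFamily_top_mem {f : Subgroup G → Set (Subgroup G)} (R : Sylow p G) {F : Subgroup G}
    (hF : F ∈ f (R : Subgroup G)) : Subgroup.normalizer (F : Set G) ∈ functorFamily p f ⊤ := by
  refine ⟨R.subtype le_top, F, ?_, by rw [top_inf_eq]⟩
  rwa [Sylow.coe_subtype, Subgroup.map_subgroupOf_eq_of_le le_top]

/-- One link of a chain for the family induced by `f` in `M`, written in the ambient group. -/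
def StepM (p : ℕ) (f : Subgroup G → Set (Subgroup G)) (M : Subgroup G) (D : Subgroup G)
    (A B : Sylow p M) : Prop :=
  ∃ (R : Sylow p M) (F : Subgroup G) (x : G), F ∈ f ((R : Subgroup M).map M.subtype) ∧
    x ∈ M ∧ x ∈ Subgroup.normalizer (F : Set G) ∧
    (A : Subgroup M).map M.subtype ≤ Subgroup.normalizer (F : Set G) ∧
    (B : Subgroup M).map M.subtype ≤ Subgroup.normalizer (F : Set G) ∧
    subgroupConjRight x ((B : Subgroup M).map M.subtype) = (A : Subgroup M).map M.subtype ∧
    D ≤ (A : Subgroup M).map M.subtype ∧ D ≤ (B : Subgroup M).map M.subtype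

omit [Finite G] [Fact p.Prime] in
theorem map_conjRight_subtype {M : Subgroup G} (x : M) (B : Subgroup M) :
    (subgroupConjRight x B).map M.subtype = subgroupConjRight (x : G) (B.map M.subtype) := by
  rw [subgroupConjRight, subgroupConjRight, Subgroup.map_map, Subgroup.map_map]
  congr 1

theorem regular_conn {f : Subgroup G → Set (Subgroup G)} (hf : IsNormalizerFunctor p f) {M : Subgroup G}
    (hr : IsFunctorRegular p f M) {A B : Sylow p M} {D : Subgroup G} (hD0 : D ≠ ⊥)
    (hA : D ≤ (A : Subgroup M).map M.subtype) (hB : D ≤ (B : Subgroup M).map M.subtype) :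
    ReflTransGen (StepM p f M D) A B := by
  rcases eq_or_ne A B with rfl | hne
  · exact .refl
  have hDM : D ≤ M := hA.trans (Subgroup.map_subtype_le _)
  have hmapD : (D.subgroupOf M).map M.subtype = D := Subgroup.map_subgroupOf_eq_of_le hDM
  have key := conn_of_controls hr hne (D := D.subgroupOf M) ?_ ?_
  · refine Relation.ReflTransGen.mono (fun P Q hs => ?_) _ _ key
    obtain ⟨X', x, h1, h2, h3, h4, h5, h6⟩ := hs
    obtain ⟨X, ⟨R, F, hF, rfl⟩, rfl⟩ := h1.1
    have hRN : (R : Subgroup M).map M.subtype ≤ Subgroup.normalizer (F : Set G) :=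
      Subgroup.le_normalizer.trans ((hf _ (R.2.map _)).1 F hF).2
    have hR : (R : Subgroup M) ≤ (M ⊓ Subgroup.normalizer (F : Set G)).subgroupOf M := fun y hy =>
      ⟨y.2, hRN ⟨y, hy, rfl⟩⟩
    refine ⟨R, F, x, hF, x.2, h3.2, ?_, ?_, ?_, ?_, ?_⟩
    · rintro _ ⟨y, hy, rfl⟩
      exact (le_of_mem hR h1 hy).2
    · rintro _ ⟨y, hy, rfl⟩
      exact (le_of_mem hR h2 hy).2
    · rw [← map_conjRight_subtype, h4]
    · rw [← hmapD]; exact Subgroup.map_mono (h5.trans inf_le_left)
    · rw [← hmapD]; exact Subgroup.map_mono (h6.trans inf_le_left)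
  · refine le_inf ?_ ?_ <;> rw [← Subgroup.map_le_map_iff_of_injective M.subtype_injective, hmapD]
    exacts [hA, hB]
  · intro e
    exact hD0 (by rw [← hmapD, e, Subgroup.map_bot])

omit [Finite G] [Fact p.Prime] in
theorem regular_of_conn {f : Subgroup G → Set (Subgroup G)} {M : Subgroup G}
    (h : ∀ (A B : Sylow p M) (D : Subgroup G), D ≠ ⊥ → D ≤ (A : Subgroup M).map M.subtype →
      D ≤ (B : Subgroup M).map M.subtype → ReflTransGen (StepM p f M D) A B) :
    IsFunctorRegular p f M := by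
  refine controls (fun A B _ hne0 => ?_)
  have key := h A B (((A : Subgroup M) ⊓ B).map M.subtype)
    (fun e => hne0 (Subgroup.map_eq_bot_iff_of_injective _ M.subtype_injective |>.mp e))
    (Subgroup.map_mono inf_le_left) (Subgroup.map_mono inf_le_right)
  refine Relation.ReflTransGen.mono (fun P Q hs => ?_) _ _ key
  obtain ⟨R, F, x, hF, hxM, hxN, hP, hQ, hc, hDP, hDQ⟩ := hs
  set X' := (M ⊓ Subgroup.normalizer (F : Set G)).subgroupOf M with hX'
  have hmem : X' ∈ (fun X : Subgroup G => X.subgroupOf M) '' functorFamily p f M := ⟨_, ⟨R, F, hF, rfl⟩, rfl⟩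
  have hP' : (P : Subgroup M) ≤ X' := fun y hy => ⟨y.2, hP ⟨y, hy, rfl⟩⟩
  have hQ' : (Q : Subgroup M) ≤ X' := fun y hy => ⟨y.2, hQ ⟨y, hy, rfl⟩⟩
  have hDP' := (Subgroup.map_le_map_iff_of_injective M.subtype_injective).mp hDP
  have hDQ' := (Subgroup.map_le_map_iff_of_injective M.subtype_injective).mp hDQ
  refine ⟨X', ⟨x, hxM⟩, sylowMembers_of_le hmem P hP', sylowMembers_of_le hmem Q hQ', ⟨hxM, hxN⟩, ?_,
    le_inf hDP' (hDP'.trans hP'), le_inf hDQ' (hDQ'.trans hQ')⟩
  apply Subgroup.map_injective M.subtype_injective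
  rw [map_conjRight_subtype]
  exact hc

end Cfsg.Agent.Lib.LAEven57.SylowConn
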