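import Cfsg.Agent.Lib.LAEven57.Isolated
import Cfsg.Agent.Lib.Cores.Basic
import Mathlib.GroupTheory.SchurZassenhaus
import Mathlib.GroupTheory.Abelianization.Defs

/-!
Minimal counterexamples to the `Z*_p` statement.
-/

set_option autoImplicit false

namespace Cfsg.Agent.Lib.LAEven57

open scoped commutatorElement

variable {G : Type*} [Group G] [Finite G] {p : ℕ} [Fact p.Prime]

theorem pPrimeCore_eq_bot_of_minimal {x : G} (hnz : ¬ InZStar p x)
    (hquot : ∀ (N : Subgroup G) [N.Normal], N ≠ ⊥ → InZStar p (QuotientGroup.mk x : G ⧸ N)) :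
    pPrimeCore p G = ⊥ := by
  by_contra h
  apply hnz
  intro g
  have h1 := hquot (pPrimeCore p G) h (QuotientGroup.mk g)
  rw [Cfsg.Agent.Lib.Cores.pPrimeCore_quotient_pPrimeCore, Subgroup.mem_bot] at h1
  exact (QuotientGroup.eq_one_iff _).mp h1

/-- A normal subgroup of order prime to `p` of a subgroup normal in `G` lies in the core, if it is
characteristic there. -/
theorem map_pPrimeCore_le_of_normal (N : Subgroup G) [N.Normal] :
    (pPrimeCore p ↥N).map N.subtype ≤ pPrimeCore p G := by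
  haveI := Cfsg.Agent.Lib.Cores.normal_map_subtype N (pPrimeCore p ↥N)
  refine Cfsg.Agent.Lib.Cores.le_pPrimeCore ?_
  rw [Subgroup.card_map_of_injective N.subtype_injective]
  exact Cfsg.Agent.Lib.Cores.pPrimeCore_coprime p

/-- An element of order prime to `p` of an abelian normal subgroup is trivial when `O_{p'} = 1`. -/
theorem isPGroup_of_abelian_normal (hcore : pPrimeCore p G = ⊥) (N : Subgroup G) [N.Normal]
    (hab : ∀ a ∈ N, ∀ b ∈ N, Commute a b) : IsPGroup p N := by
  let M : Subgroup G :=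
    { carrier := {a | a ∈ N ∧ (orderOf a).Coprime p}
      one_mem' := ⟨N.one_mem, by simp⟩
      mul_mem' := by
        rintro a b ⟨ha, ha'⟩ ⟨hb, hb'⟩
        refine ⟨N.mul_mem ha hb, Nat.Coprime.coprime_dvd_left (hab a ha b hb).orderOf_mul_dvd_mul_orderOf ?_⟩
        exact Nat.Coprime.mul_left ha' hb'
      inv_mem' := by
        rintro a ⟨ha, ha'⟩
        exact ⟨N.inv_mem ha, by rwa [orderOf_inv]⟩ }
  have hMn : M.Normal := ⟨fun a ha g => ⟨‹N.Normal›.conj_mem a ha.1 g, by
    rw [orderOf_conj']; exact ha.2⟩⟩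
  have hMc : (Nat.card M).Coprime p := by
    rw [Nat.coprime_comm, (Fact.out : p.Prime).coprime_iff_not_dvd]
    intro hd
    obtain ⟨a, ha⟩ := exists_prime_orderOf_dvd_card' p hd
    have := a.2.2
    rw [Subgroup.orderOf_coe, ha] at this
    exact (Fact.out : p.Prime).ne_one (Nat.eq_one_of_dvd_coprimes this dvd_rfl dvd_rfl)
  haveI := hMn
  have hM : M ≤ pPrimeCore p G := Cfsg.Agent.Lib.Cores.le_pPrimeCore hMc
  rw [hcore] at hM
  exact isPGroup_of_coprime_eq_one fun a ha hap => Subgroup.mem_bot.mp (hM ⟨ha, hap⟩)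

theorem minimal_counterexample_simple {x : G} (hx : orderOf x = p) (hiso : IsIsolated x)
    (hnz : ¬ InZStar p x)
    (hmin : ∀ (H : Subgroup G) (hxH : x ∈ H), H ≠ ⊤ → InZStar p (⟨x, hxH⟩ : ↥H))
    (hquot : ∀ (N : Subgroup G) [N.Normal], N ≠ ⊥ → InZStar p (QuotientGroup.mk x : G ⧸ N)) :
    IsSimpleGroup ↥(commutator G) ∧ ¬ IsMulCommutative ↥(commutator G) ∧
      commutator G ⊔ Subgroup.zpowers x = ⊤ := by
  have hp : p.Prime := Fact.out
  have hx' : ∃ k : ℕ, orderOf x = p ^ k := ⟨1, by rw [hx, pow_one]⟩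
  have hcore := pPrimeCore_eq_bot_of_minimal hnz hquot
  have hnc : ¬ ∀ g : G, g * x = x * g := fun h => hnz fun g => by
    rw [h g, mul_inv_cancel_right, mul_inv_cancel]; exact Subgroup.one_mem _
  have hcorebot : ∀ (N : Subgroup G) [N.Normal], pPrimeCore p ↥N = ⊥ := by
    intro N _
    have := map_pPrimeCore_le_of_normal (p := p) N
    rw [hcore, le_bot_iff] at this
    exact (Subgroup.map_eq_bot_iff_of_injective _ N.subtype_injective).mp this
  -- `x` lies in no proper normal subgroup
  have hB : ∀ (N : Subgroup G), N.Normal → x ∈ N → N = ⊤ := by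
    intro N hN hxN
    by_contra hne
    apply hnc
    intro g
    have hg : g ∈ N ⊔ (⊤ ⊓ Subgroup.centralizer ({x} : Set G)) := by
      rw [sup_centralizer_eq hx' hiso le_top (by rw [Subgroup.normalizer_eq_top]) hxN]
      trivial
    refine Subgroup.mem_centralizer_singleton_iff.mp ?_
    refine (sup_le (fun n hn => ?_) inf_le_right : N ⊔ (⊤ ⊓ Subgroup.centralizer ({x} : Set G)) ≤ _) hg
    rw [Subgroup.mem_centralizer_singleton_iff]
    have h1 := hmin N hxN hne ⟨n, hn⟩
    rw [hcorebot N, Subgroup.mem_bot] at h1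
    have h2 : n * x * n⁻¹ * x⁻¹ = 1 := congrArg Subtype.val h1
    calc n * x = n * x * n⁻¹ * x⁻¹ * (x * n) := by group
      _ = x * n := by rw [h2, one_mul]
  -- every minimal normal subgroup generates `G` with `x`
  have hC : ∀ N : Subgroup G, N.Normal → N ≠ ⊥ → N ⊔ Subgroup.zpowers x = ⊤ := by
    intro N hN hNb
    haveI := hN
    by_contra hne
    have hxH : x ∈ N ⊔ Subgroup.zpowers x := Subgroup.mem_sup_right (Subgroup.mem_zpowers x)
    have hz := hmin _ hxH hne
    set H := N ⊔ Subgroup.zpowers x with hH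
    -- `x` centralizes `N`
    let M : Subgroup G := N ⊓ (pPrimeCore p ↥H).map H.subtype
    have hMle : M = ⊥ := by
      have hMn : (M.subgroupOf N).Normal := by
        refine ⟨fun a ha g => ?_⟩
        rw [Subgroup.mem_subgroupOf] at ha ⊢
        obtain ⟨ha1, b, hb, hb'⟩ := ha
        refine ⟨hN.conj_mem _ ha1 _, ⟨(g : G), Subgroup.mem_sup_left g.2⟩ * b *
          ⟨(g : G), Subgroup.mem_sup_left g.2⟩⁻¹, (pPrimeCore_normal p _).conj_mem b hb _, ?_⟩
        simp only [map_mul, map_inv, hb']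
        rfl
      have hMc : (Nat.card (M.subgroupOf N)).Coprime p := by
        rw [Nat.card_congr (Subgroup.subgroupOfEquivOfLe (inf_le_left : M ≤ N)).toEquiv]
        refine Nat.Coprime.coprime_dvd_left (Subgroup.card_dvd_of_le inf_le_right) ?_
        rw [Subgroup.card_map_of_injective H.subtype_injective]
        exact Cfsg.Agent.Lib.Cores.pPrimeCore_coprime p
      haveI := hMn
      have : M.subgroupOf N ≤ pPrimeCore p ↥N := Cfsg.Agent.Lib.Cores.le_pPrimeCore hMc
      rw [hcorebot N, le_bot_iff, Subgroup.subgroupOf_eq_bot, disjoint_iff] at this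
      rwa [inf_eq_left.mpr (inf_le_left : M ≤ N)] at this
    have hcent : ∀ n ∈ N, n * x = x * n := by
      intro n hn
      have h1 := hz ⟨n, Subgroup.mem_sup_left hn⟩
      have h2 : n * x * n⁻¹ * x⁻¹ ∈ M := by
        refine ⟨?_, _, h1, rfl⟩
        have e : n * x * n⁻¹ * x⁻¹ = n * (x * n⁻¹ * x⁻¹) := by group
        rw [e]
        exact N.mul_mem hn (hN.conj_mem _ (N.inv_mem hn) x)
      rw [hMle, Subgroup.mem_bot] at h2
      calc n * x = n * x * n⁻¹ * x⁻¹ * (x * n) := by group
        _ = x * n := by rw [h2, one_mul]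
    have hNc : ∀ n ∈ N, ∀ g : G, Commute n g := by
      have hCn : (Subgroup.centralizer (N : Set G)).Normal := by infer_instance
      have hxC : x ∈ Subgroup.centralizer (N : Set G) := by
        rw [Subgroup.mem_centralizer_iff]; exact fun n hn => hcent n hn
      have htop := hB _ hCn hxC
      intro n hn g
      have hg : g ∈ Subgroup.centralizer (N : Set G) := htop ▸ Subgroup.mem_top g
      exact Subgroup.mem_centralizer_iff.mp hg n hn
    have hNp : IsPGroup p N := isPGroup_of_abelian_normal hcore N (fun a ha b _ => hNc a ha b)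
    let π := QuotientGroup.mk' N
    let K : Subgroup G := (pPrimeCore p (G ⧸ N)).comap π
    haveI hKn : K.Normal := by infer_instance
    have hNK : N ≤ K := fun n hn => by
      show π n ∈ pPrimeCore p (G ⧸ N)
      rw [show π n = 1 from (QuotientGroup.eq_one_iff n).mpr hn]; exact Subgroup.one_mem _
    have hidx : N.relIndex K = Nat.card (pPrimeCore p (G ⧸ N)) := by
      have h1 : N = (⊥ : Subgroup (G ⧸ N)).comap π := by
        rw [MonoidHom.comap_bot, QuotientGroup.ker_mk']
      conv_lhs => rw [h1]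
      rw [Subgroup.relIndex_comap, Subgroup.map_comap_eq_self_of_surjective
        (QuotientGroup.mk'_surjective N), Subgroup.relIndex_bot_left]
    obtain ⟨a, ha⟩ := IsPGroup.iff_card.mp hNp
    have hcopN : (Nat.card (N.subgroupOf K)).Coprime (N.subgroupOf K).index := by
      rw [Nat.card_congr (Subgroup.subgroupOfEquivOfLe hNK).toEquiv, ha]
      show (p ^ a).Coprime (N.relIndex K)
      rw [hidx]
      exact (Cfsg.Agent.Lib.Cores.pPrimeCore_coprime p).symm.pow_left a
    obtain ⟨C, hC'⟩ := Subgroup.exists_right_complement'_of_coprime hcopN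
    let D : Subgroup G := C.map K.subtype
    have hDc : (Nat.card D).Coprime p := by
      rw [Subgroup.card_map_of_injective K.subtype_injective, ← hC'.symm.index_eq_card]
      show (N.relIndex K).Coprime p
      rw [hidx]; exact Cfsg.Agent.Lib.Cores.pPrimeCore_coprime p
    have hcor : ∀ c ∈ D, (orderOf c).Coprime p := fun c hc =>
      Nat.Coprime.coprime_dvd_left (Subgroup.orderOf_mk c hc ▸ orderOf_dvd_natCard (⟨c, hc⟩ : D)) hDc
    have hDn : D.Normal := by
      refine ⟨fun c hc g => ?_⟩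
      have hcK : c ∈ K := Subgroup.map_subtype_le C hc
      have hgK : g * c * g⁻¹ ∈ K := hKn.conj_mem c hcK g
      obtain ⟨⟨n, d⟩, hnd, -⟩ := hC'.existsUnique (⟨g * c * g⁻¹, hgK⟩ : ↥K)
      have e : ((n : ↥K) : G) * ((d : ↥K) : G) = g * c * g⁻¹ := congrArg Subtype.val hnd
      have hnN : ((n : ↥K) : G) ∈ N := n.2
      have hdD : ((d : ↥K) : G) ∈ D := ⟨(d : ↥K), d.2, rfl⟩
      have hn1 : ((n : ↥K) : G) = 1 := by
        refine eq_one_of_coprime_mem_pGroup hNp ?_ hnN
        have e2 : ((n : ↥K) : G) = g * c * g⁻¹ * ((d : ↥K) : G)⁻¹ := by rw [← e]; group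
        have hcm : Commute (g * c * g⁻¹) ((d : ↥K) : G)⁻¹ := by
          refine Commute.inv_right ?_
          rw [← e]
          exact (hNc _ hnN _).mul_left (Commute.refl _)
        rw [e2]
        refine Nat.Coprime.coprime_dvd_left hcm.orderOf_mul_dvd_mul_orderOf ?_
        rw [orderOf_inv, orderOf_conj']
        exact Nat.Coprime.mul_left (hcor c hc) (hcor _ hdD)
      rw [← e, hn1, one_mul]; exact hdD
    haveI := hDn
    have hD : D ≤ pPrimeCore p G := Cfsg.Agent.Lib.Cores.le_pPrimeCore hDc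
    rw [hcore, le_bot_iff] at hD
    apply hnc
    intro g
    have h1 := hquot N hNb (QuotientGroup.mk g)
    have hgK : g * x * g⁻¹ * x⁻¹ ∈ K := h1
    obtain ⟨⟨n, d⟩, hnd, -⟩ := hC'.existsUnique (⟨_, hgK⟩ : ↥K)
    have e : ((n : ↥K) : G) * ((d : ↥K) : G) = g * x * g⁻¹ * x⁻¹ := congrArg Subtype.val hnd
    have hd1 : ((d : ↥K) : G) = 1 := Subgroup.mem_bot.mp (hD ▸ ⟨(d : ↥K), d.2, rfl⟩)
    have hcom : Commute x (g * x * g⁻¹) := by
      have e2 : g * x * g⁻¹ = ((n : ↥K) : G) * x := by
        rw [hd1, mul_one] at e; rw [e]; group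
      rw [e2]; exact ((hNc _ n.2 x).symm).mul_right (Commute.refl x)
    have h3 := hiso g hcom
    calc g * x = g * x * g⁻¹ * g := by group
      _ = x * g := by rw [h3]
  -- a minimal normal subgroup
  have hnontriv : Nontrivial G := ⟨⟨x, 1, fun e => hp.ne_one (by rw [← hx, e, orderOf_one])⟩⟩
  obtain ⟨N, ⟨hNn, hNb⟩, hNmin⟩ := (wellFounded_lt (α := Subgroup G)).has_min
    {N : Subgroup G | N.Normal ∧ N ≠ ⊥} ⟨⊤, inferInstance, top_ne_bot⟩
  haveI := hNn
  have hmin' : ∀ M : Subgroup G, M.Normal → M ≤ N → M = ⊥ ∨ M = N := by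
    intro M hM hle
    by_contra h
    push Not at h
    exact hNmin M ⟨hM, h.1⟩ (lt_of_le_of_ne hle h.2)
  have htop := hC N hNn hNb
  have hNnab : ¬ ∀ a ∈ N, ∀ b ∈ N, Commute a b := by
    intro hab
    apply hnc
    intro g
    have hsup : IsPGroup p ↥(N ⊔ Subgroup.zpowers x : Subgroup G) :=
      IsPGroup.to_sup_of_normal_left (isPGroup_of_abelian_normal hcore N hab) (zpowers_isPGroup hx')
    exact (commute_of_mem_pGroup hiso hsup (Subgroup.mem_sup_right (Subgroup.mem_zpowers x))
      (htop ▸ Subgroup.mem_top g)).symm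
  have hNcomm : commutator G = N := by
    have hle : commutator G ≤ N := by
      rw [commutator_def, Subgroup.commutator_le]
      intro a _ b _
      let π := QuotientGroup.mk' N
      have hcy : ∀ q : G, ∃ i : ℤ, π q = π x ^ i := by
        intro q
        have : q ∈ N ⊔ Subgroup.zpowers x := htop ▸ Subgroup.mem_top q
        rw [Subgroup.mem_sup_of_normal_left] at this
        obtain ⟨n, hn, z, ⟨i, rfl⟩, rfl⟩ := this
        refine ⟨i, ?_⟩
        rw [map_mul, show π n = 1 from (QuotientGroup.eq_one_iff n).mpr hn, one_mul, map_zpow]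
      obtain ⟨i, hi⟩ := hcy a
      obtain ⟨j, hj⟩ := hcy b
      refine (QuotientGroup.eq_one_iff _).mp ?_
      show π ⁅a, b⁆ = 1
      rw [map_commutatorElement, hi, hj, commutatorElement_eq_one_iff_commute]
      exact Commute.zpow_zpow_self _ i j
    rcases hmin' _ inferInstance hle with h | h
    · exfalso
      apply hNnab
      intro a _ b _
      have : ⁅a, b⁆ ∈ commutator G := Subgroup.commutator_mem_commutator trivial trivial
      rw [h, Subgroup.mem_bot] at this
      exact commutatorElement_eq_one_iff_commute.mp this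
    · exact h
  rw [hNcomm]
  refine ⟨?_, fun hc => hNnab fun a ha b hb => congrArg Subtype.val (mul_comm' (⟨a, ha⟩ : N) ⟨b, hb⟩), htop⟩
  have hnt : Nontrivial N := (Subgroup.nontrivial_iff_ne_bot N).mpr hNb
  refine ⟨fun T hT => ?_⟩
  by_contra hTne
  push Not at hTne
  obtain ⟨S, ⟨hSn, hSb, hST⟩, hSmin⟩ := (wellFounded_lt (α := Subgroup G)).has_min
    {S : Subgroup G | (S.subgroupOf N).Normal ∧ S ≠ ⊥ ∧ S ≤ T.map N.subtype}
    ⟨T.map N.subtype, by rwa [Subgroup.subgroupOf, Subgroup.comap_map_eq_self_of_injective N.subtype_injective],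
      fun e => hTne.1 ((Subgroup.map_eq_bot_iff_of_injective _ N.subtype_injective).mp e), le_rfl⟩
  have hSN : S ≤ N := hST.trans (Subgroup.map_subtype_le T)
  have hSmin' : ∀ M : Subgroup G, (M.subgroupOf N).Normal → M ≤ S → M = ⊥ ∨ M = S := by
    intro M hM hle
    by_contra h
    push Not at h
    exact hSmin M ⟨hM, h.1, hle.trans hST⟩ (lt_of_le_of_ne hle h.2)
  -- conjugation by `x` moves `S`
  have hSmove : x ∉ Subgroup.normalizer (S : Set G) := by
    intro hxS
    have hS : S.Normal := by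
      rw [← Subgroup.normalizer_eq_top_iff, eq_top_iff, ← htop]
      refine sup_le ?_ (Subgroup.zpowers_le.mpr hxS)
      intro n hn
      rw [Subgroup.mem_normalizer_iff]
      intro s
      constructor
      · intro hs
        exact hSn.conj_mem ⟨s, hSN hs⟩ hs ⟨n, hn⟩
      · intro hs
        have := hSn.conj_mem ⟨_, hSN hs⟩ hs ⟨n, hn⟩⁻¹
        simpa [Subgroup.mem_subgroupOf, mul_assoc] using this
    rcases hmin' S hS hSN with h | h
    · exact hSb h
    · apply hTne.2
      rw [h] at hST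
      exact eq_top_iff.mpr fun n _ => by
        obtain ⟨m, hm, hme⟩ := hST n.2
        rwa [show m = n from Subtype.ext hme] at hm
  -- `p` divides the order of `S`
  have hpS : p ∣ Nat.card S := by
    by_contra hd
    haveI := hSn
    have hc : (Nat.card (S.subgroupOf N)).Coprime p := by
      rw [Nat.card_congr (Subgroup.subgroupOfEquivOfLe hSN).toEquiv]
      exact (hp.coprime_iff_not_dvd.mpr hd).symm
    have : S.subgroupOf N ≤ pPrimeCore p ↥N := Cfsg.Agent.Lib.Cores.le_pPrimeCore hc
    rw [hcorebot N, le_bot_iff, Subgroup.subgroupOf_eq_bot, disjoint_iff] at this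
    rw [inf_eq_left.mpr hSN] at this
    exact hSb this
  obtain ⟨s₀, hs₀⟩ := exists_prime_orderOf_dvd_card' p hpS
  set s : G := (s₀ : G) with hs
  have hso : orderOf s = p := by rw [hs, Subgroup.orderOf_coe, hs₀]
  let cj : ℤ → Subgroup G := fun i => S.comap (MulAut.conj (x ^ i)⁻¹).toMonoidHom
  have hcj : ∀ (i : ℤ) (a : G), a ∈ cj i ↔ (x ^ i)⁻¹ * a * x ^ i ∈ S := fun i a => by
    show MulAut.conj (x ^ i)⁻¹ a ∈ S ↔ _
    rw [MulAut.conj_apply, inv_inv]
  have hcjN : ∀ i, cj i ≤ N ∧ ((cj i).subgroupOf N).Normal := by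
    intro i
    refine ⟨fun a ha => ?_, ⟨fun a ha g => ?_⟩⟩
    · have := hNn.conj_mem _ (hSN ((hcj i a).mp ha)) (x ^ i)
      simpa [mul_assoc] using this
    · rw [Subgroup.mem_subgroupOf, hcj] at ha ⊢
      have hg' : (x ^ i)⁻¹ * (g : G) * x ^ i ∈ N := by
        simpa using hNn.conj_mem _ g.2 (x ^ i)⁻¹
      have := hSn.conj_mem ⟨_, hSN ha⟩ ha ⟨_, hg'⟩
      simpa [Subgroup.mem_subgroupOf, mul_assoc] using this
  have hcomm : ∀ i j : ℤ, Commute (x ^ i * s * (x ^ i)⁻¹) (x ^ j * s * (x ^ j)⁻¹) := by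
    intro i j
    have hm : ∀ k : ℤ, x ^ k * s * (x ^ k)⁻¹ ∈ cj k := fun k => by
      rw [hcj]; simp [mul_assoc, hs]
    by_cases hij : (p : ℤ) ∣ i - j
    · have : x ^ i = x ^ j := by
        rw [← mul_inv_eq_one, ← zpow_sub, ← orderOf_dvd_iff_zpow_eq_one, hx]; exact hij
      rw [this]
    · -- distinct conjugates of `S` meet trivially
      have hbot : cj i ⊓ cj j = ⊥ := by
        let M : Subgroup G := S ⊓ cj (j - i)
        have hM : (M.subgroupOf N).Normal := by
          rw [show M.subgroupOf N = S.subgroupOf N ⊓ (cj (j - i)).subgroupOf N from rfl]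
          haveI := hSn; haveI := (hcjN (j - i)).2
          infer_instance
        rcases hSmin' M hM inf_le_left with h | h
        · rw [eq_bot_iff]
          intro a ha
          rw [Subgroup.mem_inf, hcj, hcj] at ha
          have : (x ^ i)⁻¹ * a * x ^ i ∈ M := by
            refine ⟨ha.1, (hcj _ _).mpr ?_⟩
            have e : (x ^ (j - i))⁻¹ * ((x ^ i)⁻¹ * a * x ^ i) * x ^ (j - i) = (x ^ j)⁻¹ * a * x ^ j := by
              rw [zpow_sub]; group
            rw [e]; exact ha.2
          rw [h, Subgroup.mem_bot] at this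
          rw [Subgroup.mem_bot]
          simpa [mul_assoc] using congrArg (fun t => x ^ i * t * (x ^ i)⁻¹) this
        · exfalso
          apply hSmove
          have hle : S ≤ cj (j - i) := h ▸ inf_le_right
          have hnorm : (x ^ (j - i))⁻¹ ∈ Subgroup.normalizer (S : Set G) := by
            refine Subgroup.mem_normalizer_fintype ?_
            intro a ha
            simpa using (hcj _ a).mp (hle ha)
          obtain ⟨u, v, huv⟩ : IsCoprime (p : ℤ) (j - i) := by
            refine (Nat.prime_iff_prime_int.mp hp).coprime_iff_not_dvd.mpr fun hd => hij ?_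
            rwa [← neg_sub, dvd_neg]
          have : x = (x ^ (j - i)) ^ v := by
            rw [← zpow_mul, mul_comm]
            conv_lhs => rw [← zpow_one x, ← huv, zpow_add, mul_comm u, zpow_mul, zpow_natCast,
              show x ^ p = 1 by rw [← hx, pow_orderOf_eq_one], one_zpow, one_mul]
          rw [this]
          exact Subgroup.zpow_mem _ (inv_inv (x ^ (j - i)) ▸ Subgroup.inv_mem _ hnorm) v
      have hc1 : ⁅x ^ i * s * (x ^ i)⁻¹, x ^ j * s * (x ^ j)⁻¹⁆ ∈ cj i ⊓ cj j := by
        set a := x ^ i * s * (x ^ i)⁻¹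
        set b := x ^ j * s * (x ^ j)⁻¹
        have ha := hm i
        have hb := hm j
        have haN := (hcjN i).1 ha
        have hbN := (hcjN j).1 hb
        refine ⟨?_, ?_⟩
        · have h1 := (hcjN i).2.conj_mem ⟨a⁻¹, N.inv_mem haN⟩ (Subgroup.inv_mem _ ha) ⟨b, hbN⟩
          have e : ⁅a, b⁆ = a * (b * a⁻¹ * b⁻¹) := by rw [commutatorElement_def]; group
          rw [e]; exact Subgroup.mul_mem _ ha h1
        · have h1 := (hcjN j).2.conj_mem ⟨b, hbN⟩ hb ⟨a, haN⟩
          rw [commutatorElement_def]; exact Subgroup.mul_mem _ h1 (Subgroup.inv_mem _ hb)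
      rw [hbot, Subgroup.mem_bot] at hc1
      exact commutatorElement_eq_one_iff_commute.mp hc1
  let A : Subgroup G := Subgroup.closure (Set.range fun i : ℤ => x ^ i * s * (x ^ i)⁻¹)
  have hAc : IsMulCommutative ↥A := by
    refine Subgroup.isMulCommutative_closure ?_
    rintro _ ⟨i, rfl⟩ _ ⟨j, rfl⟩
    exact (hcomm i j).eq
  have hAexp : ∀ a ∈ A, a ^ p = 1 := by
    intro a ha
    induction ha using Subgroup.closure_induction with
    | mem a ha =>
      obtain ⟨i, rfl⟩ := ha
      simp only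
      rw [conj_pow, ← hso, pow_orderOf_eq_one]; simp
    | one => exact one_pow p
    | mul a b ha hb iha ihb =>
      have hc : Commute a b := congrArg Subtype.val (mul_comm' (⟨a, ha⟩ : ↥A) ⟨b, hb⟩)
      rw [hc.mul_pow, iha, ihb, one_mul]
    | inv a ha iha => rw [inv_pow, iha, inv_one]
  have hAp : IsPGroup p A := fun a => ⟨1, Subtype.ext (by simpa using hAexp a a.2)⟩
  have hxA : Subgroup.zpowers x ≤ Subgroup.normalizer (A : Set G) := by
    refine Subgroup.zpowers_le.mpr (Subgroup.mem_normalizer_fintype ?_)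
    intro a ha
    have hle : A ≤ A.comap (MulAut.conj x).toMonoidHom := by
      refine (Subgroup.closure_le _).mpr ?_
      rintro _ ⟨i, rfl⟩
      refine Subgroup.subset_closure ⟨1 + i, ?_⟩
      simp [zpow_add, mul_assoc]
    exact hle ha
  have hR : IsPGroup p ↥(Subgroup.zpowers x ⊔ A : Subgroup G) :=
    IsPGroup.to_sup_of_normal_right' (zpowers_isPGroup hx') hAp hxA
  have hsA : s ∈ A := Subgroup.subset_closure ⟨0, by simp⟩
  have hxs : Commute x s := commute_of_mem_pGroup hiso hR
    (Subgroup.mem_sup_left (Subgroup.mem_zpowers x)) (Subgroup.mem_sup_right hsA)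
  -- so `s` lies in two distinct conjugates of `S`
  let M : Subgroup G := S ⊓ cj 1
  have hM : (M.subgroupOf N).Normal := by
    rw [show M.subgroupOf N = S.subgroupOf N ⊓ (cj 1).subgroupOf N from rfl]
    haveI := hSn; haveI := (hcjN 1).2
    infer_instance
  rcases hSmin' M hM inf_le_left with h | h
  · have : s ∈ M := ⟨s₀.2, (hcj 1 s).mpr (by rw [zpow_one, mul_assoc, ← hxs.eq, inv_mul_cancel_left]; exact s₀.2)⟩
    rw [h, Subgroup.mem_bot] at this
    rw [this, orderOf_one] at hso
    exact hp.ne_one hso.symm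
  · apply hSmove
    have hle : S ≤ cj 1 := h ▸ inf_le_right
    rw [← inv_inv x]
    refine Subgroup.inv_mem _ (Subgroup.mem_normalizer_fintype ?_)
    intro a ha
    simpa using (hcj _ a).mp (hle ha)

theorem maximal_invariant_qSubgroup {x : G} (hx : orderOf x = p) (hiso : IsIsolated x)
    (hnz : ¬ InZStar p x)
    (hmin : ∀ (H : Subgroup G) (hxH : x ∈ H), H ≠ ⊤ → InZStar p (⟨x, hxH⟩ : ↥H))
    (hquot : ∀ (N : Subgroup G) [N.Normal], N ≠ ⊥ → InZStar p (QuotientGroup.mk x : G ⧸ N))
    {q : ℕ} [Fact q.Prime] (Q : Subgroup G) (hQ : IsPGroup q Q)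
    (hxQ : x ∈ Subgroup.normalizer (Q : Set G))
    (hmax : ∀ R : Subgroup G, IsPGroup q ↥R → x ∈ Subgroup.normalizer (R : Set G) → Q ≤ R → R = Q) :
    Q = ⊥ ∨ ∃ S : Sylow q G, (S : Subgroup G) = Q := by
  have hx' : ∃ k : ℕ, orderOf x = p ^ k := ⟨1, by rw [hx, pow_one]⟩
  by_cases hqp : q = p
  · subst hqp
    right
    have hxQ' := Subgroup.zpowers_le.mpr hxQ
    have hsup := IsPGroup.to_sup_of_normal_right' (zpowers_isPGroup hx') hQ hxQ'
    have hxmem : x ∈ Subgroup.zpowers x ⊔ Q := Subgroup.mem_sup_left (Subgroup.mem_zpowers x)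
    have hQeq : Subgroup.zpowers x ⊔ Q = Q := hmax _ hsup (Subgroup.le_normalizer hxmem) le_sup_right
    obtain ⟨S, hS⟩ := hQ.exists_le_sylow
    have hxS : x ∈ (S : Subgroup G) := hS (hQeq ▸ hxmem)
    exact ⟨S, hmax S S.isPGroup' (Subgroup.le_normalizer hxS) hS⟩
  · by_cases hQb : Q = ⊥
    · exact Or.inl hQb
    right
    have hcore := pPrimeCore_eq_bot_of_minimal hnz hquot
    set H := Subgroup.normalizer (Q : Set G) with hHdef
    have hHne : H ≠ ⊤ := by
      intro e
      apply hQb
      haveI : Q.Normal := Subgroup.normalizer_eq_top_iff.mp e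
      obtain ⟨a, ha⟩ := IsPGroup.iff_card.mp hQ
      have : Q ≤ pPrimeCore p G := Cfsg.Agent.Lib.Cores.le_pPrimeCore (by
        rw [ha]
        exact Nat.Coprime.pow_left a ((Nat.coprime_primes Fact.out Fact.out).mpr hqp))
      rwa [hcore, le_bot_iff] at this
    have hz := hmin H hxQ hHne
    set x' : ↥H := ⟨x, hxQ⟩ with hx'def
    -- a Sylow `q`-subgroup of `H` normalized by `x`
    let R₀ : Sylow q ↥H := default
    let M := pPrimeCore p ↥H
    let L : Subgroup ↥H := M ⊔ (R₀ : Subgroup ↥H)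
    have hLinv : ∀ l ∈ L, x' * l * x'⁻¹ ∈ L := by
      intro l hl
      have h1 := hz l
      have e : x' * l * x'⁻¹ = (l * x' * l⁻¹ * x'⁻¹)⁻¹ * l := by group
      rw [e]
      exact L.mul_mem (L.inv_mem (Subgroup.mem_sup_left h1)) hl
    have hxL : x' ∈ Subgroup.normalizer (L : Set ↥H) := Subgroup.mem_normalizer_fintype hLinv
    have hLcop : (Nat.card L).Coprime p := by
      haveI : M.Normal := pPrimeCore_normal p _
      refine Nat.Coprime.coprime_dvd_left ?_ (Nat.Coprime.mul_left
        (Cfsg.Agent.Lib.Cores.pPrimeCore_coprime (G := ↥H) p) ?_ :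
          (Nat.card M * Nat.card (R₀ : Subgroup ↥H)).Coprime p)
      · rw [mul_comm]
        have h9 := Cfsg.Agent.Lib.Cores.card_sup_dvd_mul (R₀ : Subgroup ↥H) M
        rw [show (R₀ : Subgroup ↥H) ⊔ M = L from sup_comm _ _] at h9
        exact h9
      · obtain ⟨a, ha⟩ := IsPGroup.iff_card.mp R₀.isPGroup'
        rw [ha]
        exact Nat.Coprime.pow_left a ((Nat.coprime_primes Fact.out Fact.out).mpr hqp)
    -- `⟨x⟩` acts on the Sylow subgroups of `L`
    let α := {R : Subgroup ↥H // R ≤ L ∧ IsPGroup q R ∧ Nat.card R = Nat.card (R₀ : Subgroup ↥H)}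
    have hα : ¬ p ∣ Nat.card α := by
      have hR₀ : (R₀ : Subgroup ↥H) ≤ L := le_sup_right
      have hcard : Nat.card α = Nat.card (Sylow q ↥L) := by
        refine Nat.card_congr
          { toFun := fun R => Sylow.ofCard (R.1.subgroupOf L) ?_
            invFun := fun P => ⟨(P : Subgroup ↥L).map L.subtype, Subgroup.map_subtype_le _, P.isPGroup'.map _, ?_⟩
            left_inv := ?_
            right_inv := ?_ }
        · rw [Nat.card_congr (Subgroup.subgroupOfEquivOfLe R.2.1).toEquiv, R.2.2.2,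
            ← Nat.card_congr (Subgroup.subgroupOfEquivOfLe hR₀).toEquiv]
          exact Sylow.card_eq_multiplicity (R₀.subtype hR₀)
        · rw [Subgroup.card_map_of_injective L.subtype_injective, Sylow.card_eq_multiplicity P,
            ← Sylow.card_eq_multiplicity (R₀.subtype hR₀)]
          exact Nat.card_congr (Subgroup.subgroupOfEquivOfLe hR₀).toEquiv
        · intro R
          apply Subtype.ext
          simp [Subgroup.map_subgroupOf_eq_of_le R.2.1]
        · intro P
          apply Sylow.ext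
          simp [Subgroup.subgroupOf, Subgroup.comap_map_eq_self_of_injective L.subtype_injective]
      rw [hcard]
      intro hd
      have h2 : Nat.card (Sylow q ↥L) ∣ Nat.card ↥L := by
        have hP : Sylow q ↥L := default
        exact (Sylow.card_dvd_index hP).trans (Subgroup.index_dvd_card _)
      exact (Fact.out : p.Prime).ne_one
        (Nat.eq_one_of_dvd_coprimes hLcop (hd.trans h2) dvd_rfl)
    let Z : Subgroup ↥H := Subgroup.zpowers x'
    have hZL : Z ≤ Subgroup.normalizer (L : Set ↥H) := Subgroup.zpowers_le.mpr hxL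
    letI : MulAction ↥Z α :=
      { smul := fun z R => ⟨R.1.map (MulAut.conj (z : ↥H)).toMonoidHom, by
          rintro _ ⟨r, hr, rfl⟩
          exact (Subgroup.mem_normalizer_iff.mp (hZL z.2) r).mp (R.2.1 hr),
          R.2.2.1.map _, by
            rw [Subgroup.card_map_of_injective (MulAut.conj (z : ↥H)).injective]; exact R.2.2.2⟩
        one_smul := fun R => by
          apply Subtype.ext
          show R.1.map (MulAut.conj ((1 : ↥Z) : ↥H)).toMonoidHom = R.1
          ext r; simp [Subgroup.mem_map]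
        mul_smul := fun a b R => by
          apply Subtype.ext
          show R.1.map (MulAut.conj ((a * b : ↥Z) : ↥H)).toMonoidHom =
            (R.1.map (MulAut.conj (b : ↥H)).toMonoidHom).map (MulAut.conj (a : ↥H)).toMonoidHom
          rw [Subgroup.map_map]
          congr 1
          ext r; simp [mul_assoc] }
    have hZp : IsPGroup p Z := zpowers_isPGroup (by simpa [hx'def, Subgroup.orderOf_mk] using hx')
    obtain ⟨R, hR⟩ := hZp.nonempty_fixed_point_of_prime_not_dvd_card α hα
    have hfix : R.1.map (MulAut.conj x').toMonoidHom = R.1 :=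
      congrArg Subtype.val (hR ⟨x', Subgroup.mem_zpowers x'⟩)
    let S : Sylow q ↥H := Sylow.ofCard R.1 (by rw [R.2.2.2]; exact R₀.card_eq_multiplicity)
    have hQle : Q.subgroupOf H ≤ R.1 := by
      haveI : (Q.subgroupOf H).Normal := Subgroup.normal_in_normalizer
      exact @IsPGroup.le_sylow_of_normal q _ _ (Q.subgroupOf H) this hQ.comap_subtype S
    have hReq : R.1.map H.subtype = Q := by
      refine hmax _ (R.2.2.1.map _) ?_ ?_
      · refine Subgroup.mem_normalizer_fintype ?_
        rintro _ ⟨r, hr, rfl⟩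
        exact ⟨x' * r * x'⁻¹, hfix ▸ Subgroup.mem_map.mpr ⟨r, hr, rfl⟩, rfl⟩
      · intro a ha
        exact ⟨⟨a, Subgroup.le_normalizer ha⟩, hQle ha, rfl⟩
    obtain ⟨P, hP⟩ := hQ.exists_le_sylow
    refine ⟨P, (eq_of_normalizer_le P.isPGroup' hP fun y hy hyN => ?_).symm⟩
    -- a `q`-element normalizing `Q` lies in `Q`, as `Q` is a Sylow subgroup of its normalizer
    have hSn : (S : Subgroup ↥H).Normal := by
      have : (S : Subgroup ↥H) = Q.subgroupOf H := by
        show R.1 = _
        rw [← hReq, Subgroup.subgroupOf, Subgroup.comap_map_eq_self_of_injective H.subtype_injective]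
      rw [this]; exact Subgroup.normal_in_normalizer
    have hyp : IsPGroup q (Subgroup.zpowers (⟨y, hyN⟩ : ↥H)) := by
      obtain ⟨k, hk⟩ := IsPGroup.iff_orderOf.mp P.isPGroup' ⟨y, hy⟩
      exact zpowers_isPGroup ⟨k, by simpa [Subgroup.orderOf_mk] using hk⟩
    have h5 : Subgroup.zpowers (⟨y, hyN⟩ : ↥H) ≤ (S : Subgroup ↥H) := by
      haveI := hSn
      have := IsPGroup.to_sup_of_normal_left S.isPGroup' hyp
      rw [← S.is_maximal' this le_sup_left]
      exact le_sup_right
    rw [← hReq]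
    exact ⟨⟨y, hyN⟩, h5 (Subgroup.mem_zpowers _), rfl⟩

theorem transitive_invariant_sylow {x : G} (hx : ∃ k : ℕ, orderOf x = p ^ k) (hiso : IsIsolated x)
    {q : ℕ} [Fact q.Prime] (S₁ S₂ : Sylow q G)
    (h₁ : x ∈ Subgroup.normalizer ((S₁ : Subgroup G) : Set G))
    (h₂ : x ∈ Subgroup.normalizer ((S₂ : Subgroup G) : Set G)) :
    ∃ c ∈ Subgroup.centralizer ({x} : Set G),
      (S₁ : Subgroup G).map (MulAut.conj c).toMonoidHom = (S₂ : Subgroup G) := by
  obtain ⟨g, hg⟩ := MulAction.exists_smul_eq G S₁ S₂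
  have hxg : g⁻¹ * x * g⁻¹⁻¹ ∈ Subgroup.normalizer ((S₁ : Subgroup G) : Set G) := by
    refine (Sylow.smul_eq_iff_mem_normalizer (P := S₁)).mp ?_
    rw [mul_smul, mul_smul, inv_inv, hg, Sylow.smul_eq_iff_mem_normalizer.mpr h₂, inv_smul_eq_iff, hg]
  obtain ⟨h, hh, he⟩ := exists_conj_eq hx hiso h₁ hxg
  refine ⟨g * h⁻¹, ?_, ?_⟩
  · rw [Subgroup.mem_centralizer_singleton_iff]
    calc g * h⁻¹ * x = g * h⁻¹ * (h * (g⁻¹ * x * g⁻¹⁻¹) * h⁻¹) := by rw [he]
      _ = x * (g * h⁻¹) := by group
  · have h1 : (g * h⁻¹) • S₁ = S₂ := by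
      rw [mul_smul, Sylow.smul_eq_iff_mem_normalizer.mpr (Subgroup.inv_mem _ hh), hg]
    rw [← h1, Sylow.coe_subgroup_smul]
    rfl

end Cfsg.Agent.Lib.LAEven57
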